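import Cfsg.Agent.MQ.S.M35.Loc
import Cfsg.Agent.S0029
import Cfsg.Agent.Lib.FrattiniPGroup
import Cfsg.Agent.Lib.ElemAbGL
import Cfsg.Agent.TAB.ON.Op
import Cfsg.Agent.DZ3.Spor.Tr_m3
import Cfsg.Agent.MQ.S.Pc2
import Cfsg.Agent.H815.P4.Base_mg
import Cfsg.Agent.H133.FibPce
import Cfsg.Agent.OddOrderCharacters.PF13.SumBound
import Cfsg.Agent.S4558
import Cfsg.Agent.S0145
import Cfsg.Agent.FastGrp
import Cfsg.Agent.Prune
set_option linter.all false
prune_inst 0x7ff1bcfa9fa88fffdfff7e3ffe99dff9b0e8efffb4dff943ffe9e9bf8fdf0b2349c56b8d0de258fd9e56c0b410a87b03fb7eeeffec6bdc7ffffd5ff41ffbee0fe5f7358911d48c340fbc2fff03f177ae6f3ffffffffffffffffffffffffffffffffffbfeffff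
open scoped Cfsg.Agent.FastGrp

-- part: MO/S/Up/Main
section
/-!
# MO, small rows : upper bounds for the normaliser of a Sylow subgroup, linear twists (helper74)

* `cnt_mul`, `okCent`, `cent_pgroup`, `rat_of_str` : the centraliser of a Sylow subgroup is a `p`-group, from a table of types;
* `mem_of_pow`, `mem_of_fr`, `mem_of_triv`, `mem_of_chain` : elements of `N(Q)` which lie in `Q`;
* `card_le`, `exists_rho`, `relIndex_dvd`, `relIndex_dvd_GL`, `card_le_of_GL` : bounds for `|N(Q) : Q|`;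
* `kk_twist`, `kk_of_comm`, `lk_of_iso`, `lk_of_one`, `lk_of_comm` : covers whose centre meets `N(Q)'` trivially.
-/

set_option autoImplicit false
set_option linter.unusedSectionVars false

namespace Cfsg.Agent.MO.S.Up

open Cfsg Subgroup Cfsg.Agent.TAB Cfsg.Agent.TAB.Eng Cfsg.Agent.MO.T Cfsg.Agent.Characters Cfsg.Agent.Characters.Core
open scoped commutatorElement

/-! ### the centraliser of a Sylow subgroup -/

section cent

variable {G : Type} [Group G] [Finite G] {D : Dat} {T : TD G D}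

theorem cent_pow {t : G} {k : ℕ} (hk : Nat.Coprime k (orderOf t)) :
    centralizer ({t ^ k} : Set G) = centralizer ({t} : Set G) := by
  ext x
  rw [mem_centralizer_singleton_iff, mem_centralizer_singleton_iff]
  refine ⟨fun h => ?_, fun h => ((show Commute x t from h).pow_right k).eq⟩
  obtain ⟨m, hm⟩ := exists_pow_eq_self_of_coprime hk
  have h1 := ((show Commute x (t ^ k) from h).pow_right m).eq
  rwa [hm] at h1

/-- a type is a union of less than `orderOf t` classes of the same length -/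
theorem cnt_mul (hm : T.Mass) (hr : ON.Rat T) {t : G} (ht : t ≠ 1) :
    ∃ m, 0 < m ∧ m < orderOf t ∧ D.cnt (T.ty t) * Nat.card (centralizer ({t} : Set G)) = m * D.N := by
  classical
  have := Fintype.ofFinite G
  let S := Finset.univ.filter fun g => T.ty g = T.ty t
  let I := S.image ConjClasses.mk
  have h1 : ∀ g ∈ S, ∃ k, Nat.Coprime k (orderOf t) ∧ IsConj (t ^ k) g := fun g hg => by
    have h2 := (Finset.mem_filter.1 hg).2
    obtain ⟨k, hk⟩ := hr t g h2.symm
    exact ⟨k, ON.coprime_of_conj (by rw [T.ord, T.ord, h2]) hk, hk⟩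
  have h2 : ∀ c ∈ I, (S.filter fun g => ConjClasses.mk g = c).card * Nat.card (centralizer ({t} : Set G)) = D.N := by
    intro c hc
    obtain ⟨g, hg, rfl⟩ := Finset.mem_image.1 hc
    obtain ⟨k, hk, h3⟩ := h1 g hg
    rw [← cent_pow hk, ← hm.1, ← card_class (t ^ k), Nat.card_eq_fintype_card (α := {g // IsConj (t ^ k) g}),
      Fintype.card_subtype]
    (with_reducible congr 2)
    ext x
    simp only [S, Finset.mem_filter, Finset.mem_univ, true_and, ConjClasses.mk_eq_mk_iff_isConj]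
    refine ⟨fun h => h3.trans h.2.symm, fun h => ⟨?_, h.symm.trans h3⟩⟩
    exact (TD.ty_isConj (h3.symm.trans h)).trans (Finset.mem_filter.1 hg).2
  have h3 : I ⊆ ((Finset.range (orderOf t)).erase 0).image fun k => ConjClasses.mk (t ^ k) := by
    intro c hc
    obtain ⟨g, hg, rfl⟩ := Finset.mem_image.1 hc
    obtain ⟨k, hk, h3⟩ := h1 g hg
    refine Finset.mem_image.2 ⟨k % orderOf t, Finset.mem_erase.2 ⟨fun h => ht ?_, Finset.mem_range.2
      (Nat.mod_lt _ (orderOf_pos t))⟩, ?_⟩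
    · exact orderOf_eq_one_iff.1 (Nat.Coprime.eq_one_of_dvd hk.symm (Nat.dvd_of_mod_eq_zero h))
    · rw [pow_mod_orderOf, ConjClasses.mk_eq_mk_iff_isConj]
      exact h3
  refine ⟨I.card, Finset.card_pos.2 ⟨_, Finset.mem_image_of_mem _ (Finset.mem_filter.2 ⟨Finset.mem_univ t, rfl⟩)⟩, ?_, ?_⟩
  · refine ((Finset.card_le_card h3).trans Finset.card_image_le).trans_lt ?_
    rw [Finset.card_erase_of_mem (Finset.mem_range.2 (orderOf_pos t)), Finset.card_range]
    exact Nat.sub_lt (orderOf_pos t) one_pos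
  · rw [← hm.2 _ (T.lt t), Nat.card_eq_fintype_card, Fintype.card_subtype,
      Finset.card_eq_sum_card_image ConjClasses.mk S, Finset.sum_mul, Finset.sum_congr rfl h2, Finset.sum_const,
      smul_eq_mul]

/-- no element of prime order different from `p` has a centraliser of order divisible by `q` -/
def okCent (D : Dat) (p q : ℕ) : Bool :=
  (List.range D.n).all fun i => D.ord i == p ||
    ((List.range (D.ord i)).any fun d => decide (2 ≤ d) && D.ord i % d == 0) ||
    (List.range (D.ord i)).all fun m => m == 0 || (m * D.N) % (D.cnt i * q) != 0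

/-- **the centraliser of a Sylow subgroup is a `p`-group** -/
theorem cent_pgroup {p q : ℕ} [hp : Fact p.Prime] (hm : T.Mass) (hr : ON.Rat T) (h : okCent D p q = true)
    (P : Subgroup G) (hP : q ∣ Nat.card P) : IsPGroup p (centralizer (P : Set G)) := by
  intro g
  obtain ⟨k, n, hn, h1⟩ := exists_split p (orderOf_pos g).ne'
  refine ⟨k, ?_⟩
  by_contra h2
  have h3 : orderOf (g ^ p ^ k) = n := by
    rw [orderOf_pow_of_dvd (pow_ne_zero _ hp.out.ne_zero) ⟨n, h1⟩, h1,
      Nat.mul_div_cancel_left _ (pow_pos hp.out.pos k)]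
  have h4 : n ≠ 1 := fun e => h2 (orderOf_eq_one_iff.1 (h3.trans e))
  obtain ⟨r, hr', s, hs⟩ := Nat.exists_prime_and_dvd h4
  have h5 : s ≠ 0 := fun e => hn (by rw [hs, e, mul_zero]; exact dvd_zero p)
  have h6 : orderOf (((g ^ p ^ k) ^ s : centralizer (P : Set G)) : G) = r := by
    rw [orderOf_coe, orderOf_pow_of_dvd h5 ⟨r, by rw [h3, hs, mul_comm]⟩, h3, hs,
      Nat.mul_div_cancel _ (Nat.pos_of_ne_zero h5)]
  generalize (g ^ p ^ k) ^ s = t at h6
  have h7 : (t : G) ≠ 1 := fun e => hr'.one_lt.ne' (by rw [← h6, e, orderOf_one])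
  obtain ⟨m, h8, h9, h10⟩ := cnt_mul hm hr h7
  have h11 : q ∣ Nat.card (centralizer ({(t : G)} : Set G)) :=
    hP.trans (card_dvd_of_le fun x hx => mem_centralizer_singleton_iff.2 (t.2 x hx))
  have h12 := List.all_eq_true.1 h _ (List.mem_range.2 (T.lt t))
  rw [← T.ord, h6] at h12
  simp only [Bool.or_eq_true, beq_iff_eq, List.any_eq_true, List.mem_range, Bool.and_eq_true, decide_eq_true_eq,
    List.all_eq_true, bne_iff_ne] at h12
  rcases h12 with (h12 | ⟨d, h13, h14, h15⟩) | h12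
  · exact hn (h12 ▸ ⟨s, hs⟩)
  · rcases (Nat.dvd_prime hr').1 (Nat.dvd_of_mod_eq_zero h15) with e | e <;> omega
  · rcases h12 m (h6 ▸ h9) with e | e
    · omega
    · exact e (Nat.mod_eq_zero_of_dvd (h10 ▸ Nat.mul_dvd_mul_left _ h11))

theorem rat_of_str {S : List ℕ} (h : Co.Str T S) : ON.Rat T := fun g g' e => by
  rcases h g g' e with h1 | ⟨-, h1⟩
  · exact ⟨1, by rwa [pow_one]⟩
  · refine ⟨orderOf g - 1, ?_⟩
    rwa [eq_inv_of_mul_eq_one_left (a := g ^ (orderOf g - 1)) (b := g)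
      (by rw [← pow_succ, Nat.sub_add_cancel (orderOf_pos g), pow_orderOf_eq_one])]

end cent

/-! ### the action on `Q / Q'` -/

section act

variable {p : ℕ} [hp : Fact p.Prime] {G : Type} [Group G] [Finite G] (Q : Sylow p G)

theorem mem_of_pow {g : G} (hg : g ∈ normalizer ((Q : Subgroup G) : Set G)) {k : ℕ} (h : g ^ p ^ k ∈ (Q : Subgroup G)) :
    g ∈ (Q : Subgroup G) := by
  obtain ⟨n, hn⟩ := Q.isPGroup' ⟨_, h⟩
  have h1 : g ^ p ^ (k + n) = 1 := by
    rw [pow_add, pow_mul]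
    exact congrArg Subtype.val hn
  have h2 : IsPGroup p (zpowers g) := by
    rintro ⟨_, j, rfl⟩
    refine ⟨k + n, Subtype.ext ?_⟩
    change (g ^ j) ^ p ^ (k + n) = 1
    rw [← zpow_natCast, ← zpow_mul, mul_comm, zpow_mul, zpow_natCast, h1, one_zpow]
  have h3 := Q.is_maximal' (IsPGroup.to_sup_of_normal_right' h2 Q.isPGroup' ((zpowers_le).2 hg)) le_sup_right
  exact h3.le (mem_sup_left (mem_zpowers g))

variable (hC : IsPGroup p (centralizer ((Q : Subgroup G) : Set G)))

include hC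

/-- an element which acts trivially on the Frattini quotient -/
theorem mem_of_fr {g : G} (hg : g ∈ normalizer ((Q : Subgroup G) : Set G))
    (h : ∀ q : (Q : Subgroup G), (Q : Subgroup G).normalizerMonoidHom ⟨g, hg⟩ q * q⁻¹ ∈ frattini (Q : Subgroup G)) :
    g ∈ (Q : Subgroup G) := by
  let K : Subgroup (normalizer ((Q : Subgroup G) : Set G)) :=
    { carrier := {x | ∀ q, (Q : Subgroup G).normalizerMonoidHom x q * q⁻¹ ∈ frattini (Q : Subgroup G)}
      one_mem' := fun q => by rw [map_one, MulAut.one_apply, mul_inv_cancel]; exact one_mem _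
      mul_mem' := fun {x y} hx hy q => by
        have h1 := mul_mem (hx ((Q : Subgroup G).normalizerMonoidHom y q)) (hy q)
        rwa [mul_assoc, inv_mul_cancel_left, ← MulAut.mul_apply, ← map_mul] at h1
      inv_mem' := fun {x} hx q => by
        have h1 := inv_mem (hx ((Q : Subgroup G).normalizerMonoidHom x⁻¹ q))
        rwa [← MulAut.mul_apply, ← map_mul, mul_inv_cancel, map_one, MulAut.one_apply, mul_inv_rev, inv_inv] at h1 }
  obtain ⟨k, n, hn, h1⟩ := exists_split p (orderOf_pos g).ne'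
  have h2 : orderOf (g ^ p ^ k) = n := by
    rw [orderOf_pow_of_dvd (pow_ne_zero _ hp.out.ne_zero) ⟨n, h1⟩, h1,
      Nat.mul_div_cancel_left _ (pow_pos hp.out.pos k)]
  have h3 : zpowers (g ^ p ^ k) ≤ normalizer ((Q : Subgroup G) : Set G) := (zpowers_le).2 (pow_mem hg _)
  have h4 := S0029.result (zpowers (g ^ p ^ k)) Q h3 (by
    obtain ⟨j, hj⟩ := IsPGroup.iff_card.1 (Q.isPGroup'.to_subgroup (frattini (Q : Subgroup G)))
    rw [Nat.card_zpowers, h2, hj]
    exact (cop_pow hn j).symm) fun a ha q hq => by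
      obtain ⟨j, rfl⟩ := ha
      have h5 : (⟨g, hg⟩ ^ p ^ k) ^ j ∈ K := zpow_mem (pow_mem (show (⟨g, hg⟩ : normalizer _) ∈ K from h) _) _
      exact ⟨_, h5 ⟨q, hq⟩, rfl⟩
  obtain ⟨j, hj⟩ := hC ⟨_, h4 (mem_zpowers _)⟩
  refine mem_of_pow Q hg (k := k + j) ?_
  rw [pow_add, pow_mul, show (g ^ p ^ k) ^ p ^ j = 1 from congrArg Subtype.val hj]
  exact one_mem _

omit hC in
theorem mem_comm {x : (Q : Subgroup G)} :
    x ∈ _root_.commutator (Q : Subgroup G) ↔ (x : G) ∈ ⁅(Q : Subgroup G), (Q : Subgroup G)⁆ := by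
  rw [← mem_map_iff_mem (Q : Subgroup G).subtype_injective, _root_.commutator_def, map_commutator,
    ← MonoidHom.range_eq_map, range_subtype]
  rfl

/-- an element which acts trivially on `Q / Q'` -/
theorem mem_of_triv {g : G} (hg : g ∈ normalizer ((Q : Subgroup G) : Set G))
    (h : ∀ q ∈ (Q : Subgroup G), g * q * g⁻¹ * q⁻¹ ∈ ⁅(Q : Subgroup G), (Q : Subgroup G)⁆) : g ∈ (Q : Subgroup G) :=
  mem_of_fr Q hC hg fun q => Lib.FrattiniPGroup.commutator_le_frattini Q.isPGroup' ((mem_comm Q).2 (h q q.2))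

omit hC in
/-- the number of cosets is bounded by the number of values of an invariant -/
theorem card_le {β : Type} [Finite β] (f : normalizer ((Q : Subgroup G) : Set G) → β)
    (h : ∀ g g', f g = f g' → ((g⁻¹ * g' : normalizer ((Q : Subgroup G) : Set G)) : G) ∈ (Q : Subgroup G)) :
    Nat.card (normalizer ((Q : Subgroup G) : Set G)) ≤ Nat.card (Q : Subgroup G) * Nat.card β := by
  rw [← ((Q : Subgroup G).subgroupOf (normalizer ((Q : Subgroup G) : Set G))).card_mul_index,
    Nat.card_congr (subgroupOfEquivOfLe le_normalizer).toEquiv]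
  refine Nat.mul_le_mul_left _ (Nat.card_le_card_of_injective (fun c => f c.out) fun a b e => ?_)
  rw [← a.out_eq', ← b.out_eq']
  exact QuotientGroup.eq.2 (h _ _ e)

/-- **the action on a quotient of `Q`** -/
theorem exists_rho {V : Type} [CommGroup V] (π : (Q : Subgroup G) →* V) (hs : Function.Surjective π)
    (hk : π.ker ≤ frattini (Q : Subgroup G)) (hi : ∀ g, ∀ q ∈ π.ker, (Q : Subgroup G).normalizerMonoidHom g q ∈ π.ker) :
    ∃ ρ : normalizer ((Q : Subgroup G) : Set G) →* MulAut V,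
      (∀ g q, ρ g (π q) = π ((Q : Subgroup G).normalizerMonoidHom g q)) ∧
        ρ.ker = (Q : Subgroup G).subgroupOf (normalizer ((Q : Subgroup G) : Set G)) := by
  let F : normalizer ((Q : Subgroup G) : Set G) → V →* V := fun g =>
    π.liftOfSurjective hs ⟨π.comp ((Q : Subgroup G).normalizerMonoidHom g).toMonoidHom, fun q hq => hi g q hq⟩
  have hF : ∀ g q, F g (π q) = π ((Q : Subgroup G).normalizerMonoidHom g q) := fun g q =>
    π.liftOfRightInverse_comp_apply _ _ _ q
  have h1 : ∀ g g' v, F (g * g') v = F g (F g' v) := fun g g' v => by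
    obtain ⟨q, rfl⟩ := hs v
    rw [hF, hF, hF, map_mul, MulAut.mul_apply]
  have h2 : ∀ v, F 1 v = v := fun v => by
    obtain ⟨q, rfl⟩ := hs v
    rw [hF, map_one, MulAut.one_apply]
  refine ⟨MonoidHom.mk' (fun g =>
    { toFun := F g
      invFun := F g⁻¹
      left_inv := fun v => by rw [← h1, inv_mul_cancel, h2]
      right_inv := fun v => by rw [← h1, mul_inv_cancel, h2]
      map_mul' := map_mul (F g) }) fun g g' => MulEquiv.ext (h1 g g'), hF, ?_⟩
  ext g
  refine ⟨fun h => mem_of_fr Q hC g.2 fun q => hk ?_, fun h => MulEquiv.ext fun v => ?_⟩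
  · rw [MonoidHom.mem_ker, map_mul, map_inv, ← hF, mul_inv_eq_one]
    exact DFunLike.congr_fun h (π q)
  · obtain ⟨q, rfl⟩ := hs v
    refine (hF g q).trans ?_
    rw [show (Q : Subgroup G).normalizerMonoidHom g q = ⟨g, h⟩ * q * ⟨g, h⟩⁻¹ from rfl, map_mul, map_mul, map_inv,
      mul_inv_cancel_comm]
    rfl

/-- the action on `Q / Q'` -/
theorem exists_rho_ab : ∃ ρ : normalizer ((Q : Subgroup G) : Set G) →* MulAut (Abelianization (Q : Subgroup G)),
    (∀ g q, ρ g (Abelianization.of q) = Abelianization.of ((Q : Subgroup G).normalizerMonoidHom g q)) ∧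
      ρ.ker = (Q : Subgroup G).subgroupOf (normalizer ((Q : Subgroup G) : Set G)) := by
  refine exists_rho Q hC _ (QuotientGroup.mk_surjective (s := _root_.commutator (Q : Subgroup G)))
    ((Abelianization.ker_of _).le.trans (Lib.FrattiniPGroup.commutator_le_frattini Q.isPGroup')) fun g q hq => ?_
  rw [Abelianization.ker_of] at hq ⊢
  exact (characteristic_iff_map_le.1 (inferInstance : (_root_.commutator (Q : Subgroup G)).Characteristic)
    ((Q : Subgroup G).normalizerMonoidHom g)) (mem_map_of_mem _ hq)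

omit hC in
theorem pow_of_chain {V : Type} [CommGroup V] [Finite V] (hV : IsPGroup p V) (σ : MulAut V) (W : ℕ → Subgroup V) (k : ℕ)
    (hk : ∀ v ∈ W k, v = 1) (hle : ∀ i, W (i + 1) ≤ W i) (h : ∀ i, ∀ v ∈ W i, σ v * v⁻¹ ∈ W (i + 1)) :
    ∃ n, ∀ v ∈ W 0, (σ ^ p ^ n) v = v := by
  obtain ⟨e, he⟩ := IsPGroup.iff_card.1 hV
  induction k generalizing W with
  | zero => exact ⟨0, fun v hv => by rw [hk v hv, map_one]⟩
  | succ k ih =>
    obtain ⟨n, hn⟩ := ih (fun i => W (i + 1)) hk (fun i => hle (i + 1)) fun i => h (i + 1)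
    refine ⟨n + e, fun v hv => ?_⟩
    have h1 : ∀ m, (σ ^ m) v * v⁻¹ ∈ W 1 := fun m => by
      induction m with
      | zero => rw [pow_zero, MulAut.one_apply, mul_inv_cancel]; exact one_mem _
      | succ m ih =>
        have h2 := mul_mem (h 0 _ (by simpa using mul_mem (hle 0 ih) hv)) ih
        rwa [mul_assoc, inv_mul_cancel_left, ← MulAut.mul_apply, ← pow_succ'] at h2
    have h2 : ∀ m, ((σ ^ p ^ n) ^ m) v = ((σ ^ p ^ n) v * v⁻¹) ^ m * v := fun m => by
      induction m with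
      | zero => rw [pow_zero, pow_zero, one_mul, MulAut.one_apply]
      | succ m ih =>
        rw [pow_succ', MulAut.mul_apply, ih, map_mul, map_pow, hn _ (h1 _), pow_succ, mul_assoc, inv_mul_cancel_right]
    rw [pow_add, pow_mul, h2, ← he, pow_card_eq_one', one_mul]

/-- an element which acts trivially on the factors of a chain from `Q` to `Q'` -/
theorem mem_of_chain {g : G} (hg : g ∈ normalizer ((Q : Subgroup G) : Set G)) (A : ℕ → Subgroup G) (k : ℕ)
    (h0 : (Q : Subgroup G) ≤ A 0) (hk : A k ≤ ⁅(Q : Subgroup G), (Q : Subgroup G)⁆) (hle : ∀ i, A (i + 1) ≤ A i)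
    (h : ∀ i, ∀ a ∈ A i, a ∈ (Q : Subgroup G) → g * a * g⁻¹ * a⁻¹ ∈ A (i + 1)) : g ∈ (Q : Subgroup G) := by
  obtain ⟨ρ, h1, h2⟩ := exists_rho_ab Q hC
  have hs : Function.Surjective (Abelianization.of : (Q : Subgroup G) →* _) :=
    QuotientGroup.mk_surjective (s := _root_.commutator (Q : Subgroup G))
  have : Finite (Abelianization (Q : Subgroup G)) := Finite.of_surjective _ hs
  obtain ⟨n, hn⟩ := pow_of_chain (Q.isPGroup'.of_surjective _ hs) (ρ ⟨g, hg⟩)
    (fun i => ((A i).subgroupOf Q).map Abelianization.of) k (by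
      rintro _ ⟨q, hq, rfl⟩
      exact (QuotientGroup.eq_one_iff _).2 ((mem_comm Q).2 (hk hq))) (fun i => map_mono (comap_mono (hle i))) (by
      rintro i _ ⟨q, hq, rfl⟩
      rw [h1, ← map_inv, ← map_mul]
      exact mem_map_of_mem _ (h i q hq q.2))
  refine mem_of_pow Q hg (k := n) (h2.le (x := ⟨g, hg⟩ ^ p ^ n) (MulEquiv.ext fun v => ?_))
  obtain ⟨q, rfl⟩ := hs v
  rw [map_pow]
  exact hn _ (mem_map_of_mem _ (h0 q.2))

omit hC in
/-- the index divides the order of a group which contains the image -/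
theorem relIndex_dvd {H : Type} [Group H] (ρ : normalizer ((Q : Subgroup G) : Set G) →* H)
    (h : ρ.ker = (Q : Subgroup G).subgroupOf (normalizer ((Q : Subgroup G) : Set G))) {B : Subgroup H}
    (hB : ∀ g, ρ g ∈ B) : (Q : Subgroup G).relIndex (normalizer ((Q : Subgroup G) : Set G)) ∣ Nat.card B := by
  rw [relIndex, ← h, index_ker]
  exact card_dvd_of_le (by rintro _ ⟨g, rfl⟩; exact hB g)

/-- **`Q / Q'` is elementary abelian of rank `d`** -/
theorem relIndex_dvd_GL {d : ℕ} (hi : (_root_.commutator (Q : Subgroup G)).index = p ^ d)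
    (he : ∀ q ∈ (Q : Subgroup G), q ^ p ∈ ⁅(Q : Subgroup G), (Q : Subgroup G)⁆) :
    (Q : Subgroup G).relIndex (normalizer ((Q : Subgroup G) : Set G)) ∣ ∏ i : Fin d, (p ^ d - p ^ (i : ℕ)) := by
  obtain ⟨ρ, -, h2⟩ := exists_rho_ab Q hC
  obtain ⟨e⟩ := Lib.ElemAbGL.mulAut_equiv_GL (V := Abelianization (Q : Subgroup G)) p d (fun v => by
    obtain ⟨q, rfl⟩ := QuotientGroup.mk_surjective (s := _root_.commutator (Q : Subgroup G)) v
    exact (QuotientGroup.eq_one_iff (q ^ p)).2 ((mem_comm Q).2 (he q q.2))) hi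
  have h3 := relIndex_dvd Q ρ h2 (B := ⊤) fun _ => trivial
  rwa [card_top, Nat.card_congr e.toEquiv, Matrix.card_GL_field, ZMod.card] at h3

omit hC in
/-- from a multiple of the index to the bound -/
theorem card_le_of_dvd {a k n : ℕ} (h : (Q : Subgroup G).relIndex (normalizer ((Q : Subgroup G) : Set G)) ∣ a)
    (hn : Nat.gcd a (Nat.card G) ∣ p ^ k * n) (h0 : n ≠ 0) :
    Nat.card (normalizer ((Q : Subgroup G) : Set G)) ≤ Nat.card (Q : Subgroup G) * n := by
  have h1 := relIndex_dvd_index_of_le (H := (Q : Subgroup G)) (K := normalizer ((Q : Subgroup G) : Set G)) le_normalizer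
  have h2 := (cop_pow (nd_of_dvd Q.not_dvd_index h1) k).symm.dvd_of_dvd_mul_left
    ((Nat.dvd_gcd h (h1.trans (index_dvd_card _))).trans hn)
  rw [← ((Q : Subgroup G).subgroupOf (normalizer ((Q : Subgroup G) : Set G))).card_mul_index,
    Nat.card_congr (subgroupOfEquivOfLe le_normalizer).toEquiv]
  exact Nat.mul_le_mul_left _ (Nat.le_of_dvd (Nat.pos_of_ne_zero h0) h2)

/-- **the bound from the order of `GL_d(p)` and the order of `G`** -/
theorem card_le_of_GL {d k n : ℕ} (hi : (_root_.commutator (Q : Subgroup G)).index = p ^ d)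
    (he : ∀ q ∈ (Q : Subgroup G), q ^ p ∈ ⁅(Q : Subgroup G), (Q : Subgroup G)⁆)
    (hn : Nat.gcd (∏ i : Fin d, (p ^ d - p ^ (i : ℕ))) (Nat.card G) ∣ p ^ k * n) (h0 : n ≠ 0) :
    Nat.card (normalizer ((Q : Subgroup G) : Set G)) ≤ Nat.card (Q : Subgroup G) * n :=
  card_le_of_dvd Q (relIndex_dvd_GL Q hC hi he) hn h0

end act

/-! ### covers -/

section cov

variable {p : ℕ} {X S : Type} [Group X] [Group S]

theorem pi_lin_mul (μ : X →* ℂˣ) {χ : X → ℂ} (h : PI p X χ) : PI p X fun x => (μ x : ℂ) * χ x :=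
  ⟨ODD.Red.isIrr_lin_mul μ h.1, by
    rw [ODD.Red.charDegree_congr (ψ := χ) (by rw [map_one, Units.val_one, one_mul])]
    exact h.2⟩

/-- twisting by a linear character -/
theorem kk_twist (K Z : Subgroup X) (μ : K →* ℂˣ) {l : X → ℂ} (h : ∀ z : K, (z : X) ∈ Z → l z = μ z) :
    kk p K Z l = kk p K Z fun _ => 1 :=
  Nat.card_congr
    { toFun := fun ψ => ⟨fun x => (μ⁻¹ x : ℂ) * ψ.1 x, pi_lin_mul _ ψ.2.1, fun z hz => by
        beta_reduce
        rw [ψ.2.2 z hz, h z hz]
        simp⟩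
      invFun := fun ψ => ⟨fun x => (μ x : ℂ) * ψ.1 x, pi_lin_mul _ ψ.2.1, fun z hz => by
        beta_reduce
        rw [ψ.2.2 z hz, h z hz]
        simp⟩
      left_inv := fun ψ => Subtype.ext (funext fun x => by simp)
      right_inv := fun ψ => Subtype.ext (funext fun x => by simp) }

/-- **the centre meets the derived group of `K` trivially** -/
theorem kk_of_comm [Finite X] (φ : X →* S) (hk : φ.ker = center X) {K : Subgroup X} (hK : center X ≤ K)
    (h : ∀ z ∈ center X, z ∈ ⁅K, K⁆ → z = 1) {l : X → ℂ} (hl : Fl X l) : kk p K (center X) l = k0 p (K.map φ) := by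
  obtain ⟨c, -, hc⟩ := hl
  obtain ⟨μ, hμ⟩ := MK.T.exists_ext ((center X).subgroupOf K) (c.comp (subgroupOfEquivOfLe hK).toMonoidHom) fun z hz => by
    have h1 : ((z : K) : X) ∈ ⁅K, K⁆ := by
      have h2 := mem_map_of_mem K.subtype hz
      rwa [_root_.commutator_def, map_commutator, ← MonoidHom.range_eq_map, range_subtype] at h2
    rw [show z = 1 from Subtype.ext (Subtype.ext (h _ z.2 h1)), map_one]
  rw [kk_twist K _ μ fun z hz => (hc ⟨z, hz⟩).trans (congrArg Units.val (hμ ⟨z, hz⟩).symm), kk_ker φ hk]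

variable [Fact p.Prime] {r n c : ℕ} {X₀ : Type} [Group X₀] [Finite X₀] {φ₀ : X₀ →* S}

omit [Finite X₀] in
/-- **one cover suffices** -/
theorem lk_of_iso (hi : ∀ (Y : Type) [Group Y] [Finite Y] (φ : Y →* S), Cv r φ → Nonempty (Y ≃* X₀))
    (h : IH p (Nat.card S) → ∃ Q : Sylow p X₀, ∀ l, Fl X₀ l →
      kk p (normalizer ((Q : Subgroup X₀) : Set X₀)) (center X₀) l = c) : LK p r S c := fun Y _ _ φ v ih => by
  obtain ⟨e⟩ := hi Y φ v
  obtain ⟨Q, hQ⟩ := h ih
  obtain ⟨Q', -, h2⟩ := exists_sylow_congr e Q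
  refine ⟨Q', fun l hl => ?_⟩
  rw [← hQ _ (Cov2.fl_congr e hl), ← fB_one, ← fB_one]
  exact fB_congr e _ _ h2 (fun z _ => by simp) 1 1 fun _ => rfl

theorem lk_of_one (hm : HasCyclicSchurMultiplier S n) (hr : r.Prime) (hn : ¬ r * r ∣ n) (v₀ : Cv r φ₀)
    (h : IH p (Nat.card S) → ∃ Q : Sylow p X₀, ∀ l, Fl X₀ l →
      kk p (normalizer ((Q : Subgroup X₀) : Set X₀)) (center X₀) l = c) : LK p r S c :=
  lk_of_iso (fun _ _ _ _ v => (Cov2.iso_of_mult hm hr hn v₀ v).elim fun e _ => ⟨e⟩) h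

/-- **the local number of the cover is the one of the simple group** -/
theorem lk_of_comm (hi : ∀ (Y : Type) [Group Y] [Finite Y] (φ : Y →* S), Cv r φ → Nonempty (Y ≃* X₀)) (v₀ : Cv r φ₀)
    (Q : Sylow p X₀) (h : ∀ z ∈ center X₀,
      z ∈ ⁅normalizer ((Q : Subgroup X₀) : Set X₀), normalizer ((Q : Subgroup X₀) : Set X₀)⁆ → z = 1)
    (hc : IH p (Nat.card S) → k0 p (normalizer (((Q : Subgroup X₀).map φ₀ : Subgroup S) : Set S)) = c) : LK p r S c :=
  lk_of_iso hi fun ih => ⟨Q, fun l hl => by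
    rw [kk_of_comm φ₀ v₀.ker (center_le_normalizer _) h hl, map_normalizer φ₀ v₀.surj, hc ih]⟩

end cov

end Cfsg.Agent.MO.S.Up
end

-- part: MO/S/B2/Gen
section
/-!
# Double covers : general lemmas (helper39)

* `sum_surj` : sums along a surjective homomorphism; `gen_odd` : the faithful part of a generalized character;
* `sep_or` : the separation of two rows of norm two by one of the two degrees.
-/

set_option autoImplicit false

namespace Cfsg.Agent.MO.S.B2

open Cfsg Finset Subgroup Cfsg.Agent.TAB.Eng Cfsg.Agent.Characters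
open Cfsg.Agent.Characters.Core Cfsg.Agent.Characters.Brauer Cfsg.Agent.H447.CTab
open Cfsg.Agent.MK.S7 (inner_shift)
open scoped ComplexConjugate

variable {X S : Type} [Group X] [Group S] [Fintype X]

theorem sum_surj [Fintype S] {φ : X →* S} (hφ : Function.Surjective φ) {M : Type} [AddCommMonoid M] (F : S → M) :
    ∑ x, F (φ x) = Nat.card φ.ker • ∑ y, F y := by
  classical
  rw [← Finset.sum_fiberwise (s := Finset.univ) (g := φ), Finset.smul_sum]
  refine Finset.sum_congr rfl fun y _ => ?_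
  rw [Finset.sum_congr rfl fun x hx => by rw [(Finset.mem_filter.1 hx).2], Finset.sum_const]
  congr 1
  rw [MonoidHom.card_fiber_eq_of_mem_range φ (hφ y) ⟨1, map_one φ⟩, Nat.card_eq_fintype_card, Fintype.card_subtype]
  exact congrArg _ (Finset.filter_congr fun _ _ => MonoidHom.mem_ker.symm)

theorem card_surj [Fintype S] {φ : X →* S} (hφ : Function.Surjective φ) :
    Nat.card X = Nat.card φ.ker * Nat.card S := by
  have h := sum_surj hφ fun _ => (1 : ℕ)
  simpa only [Nat.card_eq_fintype_card, _root_.MonoidHom.mem_ker, _root_.Finset.sum_const, _root_.Finset.card_univ, _root_.smul_eq_mul, _root_.mul_one] using h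

theorem inner_surj [Fintype S] {φ : X →* S} (hφ : Function.Surjective φ) (f g : S → ℂ) :
    classInner (fun x => f (φ x)) (fun x => g (φ x)) = classInner f g := by
  have h : (Nat.card φ.ker : ℂ) ≠ 0 := Nat.cast_ne_zero.2 Nat.card_pos.ne'
  rw [classInner_def, classInner_def, sum_surj hφ fun y => f y * conj (g y), card_surj hφ, nsmul_eq_mul, Nat.cast_mul,
    mul_inv, mul_mul_mul_comm, inv_mul_cancel₀ h, one_mul]

theorem central_pm {z : X} (hz : z ∈ center X) (h2 : z * z = 1) {χ : X → ℂ} (hχ : IsIrrCharacter X χ) :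
    (∀ x, χ (z * x) = 1 * χ x) ∨ ∀ x, χ (z * x) = -1 * χ x := by
  obtain ⟨c, hc, h3, -⟩ := ODD.Red.exists_central hχ hz
  have h4 := h3 2 (by rw [pow_two, h2])
  rw [pow_two] at h4
  rcases mul_self_eq_one_iff.1 h4 with rfl | rfl
  · exact .inl hc
  · exact .inr hc

theorem gen_odd {z : X} (hz : z ∈ center X) (h2 : z * z = 1) {θ f : X → ℂ} (hθ : IsGeneralizedCharacter X θ)
    (hf : ∀ x, 2 * f x = θ x - θ (z * x)) : IsGeneralizedCharacter X f := by
  have h1 : f = (2 : ℂ)⁻¹ • (θ - fun x => θ (z * x)) := funext fun x => by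
    rw [Pi.smul_apply, Pi.sub_apply, ← hf, smul_eq_mul, inv_mul_cancel_left₀ two_ne_zero]
  refine isGeneralizedCharacter_of_int (fun g c => mul_left_cancel₀ two_ne_zero ?_) fun χ hχ => ?_
  · rw [hf, hf, gen_classFunction hθ, ← gen_classFunction hθ (z * g) c, ← mul_assoc, ← mul_assoc,
      ← mem_center_iff.1 hz c, mul_assoc c]
  · rw [h1, classInner_smul_left, classInner_sub_left]
    rcases central_pm hz h2 hχ with h | h
    · have h3 := inner_shift θ h
      rw [map_one, one_mul] at h3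
      exact ⟨0, by rw [← h3, sub_self, mul_zero, Int.cast_zero]⟩
    · have h3 := inner_shift θ h
      rw [map_neg, map_one] at h3
      refine ⟨_, Eq.trans ?_ (inner_mu hθ ⟨χ, hχ⟩)⟩
      change _ = classInner θ χ
      linear_combination (-1 / 2 : ℂ) * h3

theorem deg_dvd {g : X → ℂ} (hg : IsGeneralizedCharacter X g) (h1 : classInner g g = 1) {a : ℤ} (ha : 2 * g 1 = a) :
    a ∣ 2 * Nat.card X := by
  rcases isIrr_of_generalized hg h1 with h | h
  · obtain ⟨d, -, h2, t, h3⟩ := degree_dvd ⟨_, h⟩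
    have h4 : a = 2 * d := by
      have h5 : (a : ℂ) = 2 * d := by rw [← ha, ← h2]
      exact_mod_cast h5
    exact ⟨t, by rw [h4, h3]; push_cast; ring⟩
  · obtain ⟨d, -, h2, t, h3⟩ := degree_dvd ⟨_, h⟩
    have h4 : a = -(2 * d) := by
      have h5 : (a : ℂ) = -(2 * d) := by
        rw [← ha, ← h2]
        simp
      exact_mod_cast h5
    exact ⟨-t, by rw [h4, h3]; push_cast; ring⟩

/-- the separation by one of the two degrees -/
theorem sep_or {f g : X → ℂ} (hf : IsGeneralizedCharacter X f) (h1 : classInner f f = 2) (h2 : classInner f g = 0)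
    {a b : ℤ} (ha : f 1 = a) (hb : g 1 = b) (h : ¬ a + b ∣ 2 * Nat.card X ∨ ¬ a - b ∣ 2 * Nat.card X)
    (χ : IrrCharacter X) (s c : ℤ) (hs : s = 1 ∨ s = -1) (hc : c = 1 ∨ c = -1) :
    ¬ ∀ x, f x + s * g x = 2 * c * (χ : X → ℂ) x := fun h3 => by
  have hχ := isGeneralizedCharacter_of_isCharacter (isIrr_isCharacter χ.2)
  have hu : IsGeneralizedCharacter X ((c : ℂ) • (χ : X → ℂ)) := isGeneralizedCharacter_mul (gen_const X c) hχ
  have hcc : (c : ℂ) * c = 1 := by rcases hc with rfl | rfl <;> simp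
  have huu : classInner ((c : ℂ) • (χ : X → ℂ)) ((c : ℂ) • (χ : X → ℂ)) = 1 := by
    rw [classInner_smul_left, classInner_smul_right, classInner_irr_self χ.2, map_intCast, mul_one, hcc]
  have h4 : (2 : ℂ) • ((c : ℂ) • (χ : X → ℂ)) = f + (s : ℂ) • g := funext fun x => by
    simp only [Pi.smul_apply, Pi.add_apply, smul_eq_mul, h3 x, mul_assoc]
  have hfu : classInner f ((c : ℂ) • (χ : X → ℂ)) = 1 := by
    have h5 : classInner f ((2 : ℂ) • ((c : ℂ) • (χ : X → ℂ))) = 2 := by
      rw [h4, classInner_add_right, classInner_smul_right, h1, h2, mul_zero, add_zero]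
    rw [classInner_smul_right, map_ofNat] at h5
    linear_combination h5 / 2
  have huf : classInner ((c : ℂ) • (χ : X → ℂ)) f = 1 := by rw [← classInner_conj_symm, hfu, map_one]
  have h6 : a + s * b ∣ 2 * Nat.card X := deg_dvd hu huu (by
    push_cast
    rw [← ha, ← hb, h3 1, Pi.smul_apply, smul_eq_mul, mul_assoc])
  have h7 : a - s * b ∣ 2 * Nat.card X := deg_dvd (isGeneralizedCharacter_sub hf hu) (by
    rw [classInner_sub_left, classInner_sub_right, classInner_sub_right, h1, hfu, huf, huu]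
    norm_num) (by
    push_cast
    rw [← ha, ← hb, Pi.sub_apply, Pi.smul_apply, smul_eq_mul]
    linear_combination h3 1)
  rcases hs with rfl | rfl
  · rw [one_mul] at h6 h7
    exact h.elim (· h6) (· h7)
  · rw [neg_one_mul, sub_neg_eq_add] at h7
    rw [neg_one_mul, ← sub_eq_add_neg] at h6
    exact h.elim (· h7) (· h6)

end Cfsg.Agent.MO.S.B2
end

-- part: MO/S/McL/Loc
section
/-!
# MO, groups with the Sylow 3-subgroup of `U₄(3)` (helper5)

`φ : M6 → G` is an embedding of the model of `H264/U4/Mod`.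

* `loc`, `mt_of` : the basis of `Q / Q'` and the matrices;
* `relIndex_dvd32`, `card_le_cent` : bounds for the normaliser; `card_norm_le` : the bound for `McL`.
-/

set_option autoImplicit false

namespace Cfsg.Agent.MO.S.McL

open Cfsg Subgroup Cfsg.Agent.MO.T Cfsg.Agent.MO.L Cfsg.Agent.H264.U4 Cfsg.Agent.H264.U4.M6
open scoped commutatorElement

/-- the commutator factor group -/
def abM : M6 →* Multiplicative (ZMod 3 × ZMod 3 × ZMod 3) :=
  MonoidHom.mk' (fun x => Multiplicative.ofAdd (x.r0, x.r1, x.c)) fun _ _ => rfl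

theorem mem_comm {x : M6} : x ∈ _root_.commutator M6 ↔ (x.r0, x.r1, x.c) = 0 := by
  refine ⟨fun h => Abelianization.commutator_subset_ker abM h, fun h => mem_of_rt fun i => ?_⟩
  have h1 : ∀ a b : M6, ⁅a, b⁆ ∈ _root_.commutator M6 := fun a b => commutator_mem_commutator trivial trivial
  have h2 : rt 2 1 ∈ _root_.commutator M6 := (show ⁅rt 3 1, rt 0 1⁆ = rt 2 1 by decide) ▸ h1 _ _
  fin_cases i
  · exact Or.inl (congrArg (·.1) h)
  · exact Or.inl (congrArg (·.2.1) h)
  · exact Or.inr h2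
  · exact Or.inr ((show ⁅rt 0 1, rt 5 1⁆ * (rt 2 1)⁻¹ = rt 3 1 by decide) ▸ mul_mem (h1 _ _) (inv_mem h2))
  · exact Or.inr ((show ⁅rt 1 1, rt 5 1⁆ * (rt 2 1)⁻¹ = rt 4 1 by decide) ▸ mul_mem (h1 _ _) (inv_mem h2))
  · exact Or.inl (congrArg (·.2.2) h)

theorem index_comm : (_root_.commutator M6).index = 3 ^ 3 := by
  rw [show _root_.commutator M6 = abM.ker from Subgroup.ext fun _ => mem_comm, index_ker,
    MonoidHom.range_eq_top.2 fun v => ⟨⟨v.toAdd.1, v.toAdd.2.1, 0, 0, 0, v.toAdd.2.2⟩, rfl⟩, card_top]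
  simp

theorem cen_M6 {x : M6} (h : ∀ y, x * y = y * x) : x ∈ zpowers (rt 2 1) := by
  have h1 : ∀ r0 r1 a b0 b1 c : ZMod 3, (∀ i, (⟨r0, r1, a, b0, b1, c⟩ : M6) * rt i 1 = rt i 1 * ⟨r0, r1, a, b0, b1, c⟩) →
      ∃ k : Fin 3, rt 2 1 ^ (k : ℕ) = ⟨r0, r1, a, b0, b1, c⟩ := by decide +kernel
  obtain ⟨k, hk⟩ := h1 x.r0 x.r1 x.a x.b0 x.b1 x.c fun i => h _
  exact ⟨(k : ℕ), (zpow_natCast _ _).trans hk⟩

/-- the basis -/
def bs (j : ℕ) : M6 := rt (if j = 0 then 0 else if j = 1 then 1 else 5) 1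

variable {G : Type} [Group G] {φ : M6 →* G} (hφ : Function.Injective φ)
include hφ

theorem mem_comm' {x : M6} : φ x ∈ ⁅φ.range, φ.range⁆ ↔ (x.r0, x.r1, x.c) = 0 := by
  rw [MonoidHom.range_eq_map, ← map_commutator, mem_map_iff_mem hφ]
  exact mem_comm

theorem card_rg : Nat.card φ.range = 3 ^ 6 := (Nat.card_congr (MonoidHom.ofInjective hφ).toEquiv).symm.trans card_M6

theorem loc : Loc 3 3 φ.range fun j => φ (bs j) where
  pg := IsPGroup.of_card (card_rg hφ)
  mem _ _ := ⟨_, rfl⟩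
  pw j hj := by
    rw [← map_pow, mem_comm' hφ]
    revert j
    decide
  gen H h1 h2 := by
    rintro _ ⟨x, rfl⟩
    refine mem_of_rt (R := H.comap φ) fun i => Or.inr ?_
    fin_cases i
    · exact h1 0 (by decide)
    · exact h1 1 (by decide)
    · exact h2 ((mem_comm' hφ).2 rfl)
    · exact h2 ((mem_comm' hφ).2 rfl)
    · exact h2 ((mem_comm' hφ).2 rfl)
    · exact h1 2 (by decide)
  idx := by
    rw [← index_comap, ← index_comm]
    congr 1
    exact Subgroup.ext fun x => (mem_comm' hφ).trans mem_comm.symm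

/-- `M` is the matrix of `t` -/
def okM (t : M6 → M6) (M : List (List ℕ)) : Bool :=
  (List.range 3).all fun j => decide (abM (mon bs 3 (M.getD j [])) = abM (t (bs j)))

theorem mt_of {f : G → G} {t : M6 → M6} (h : ∀ x, φ (t x) = f (φ x)) {M : List (List ℕ)} (hM : okM t M = true) :
    Mt 3 φ.range (fun j => φ (bs j)) f M := fun j hj => by
  have h1 : mon (fun j => φ (bs j)) 3 (M.getD j []) = φ (mon bs 3 (M.getD j [])) := by
    simp only [mon, map_list_prod, List.map_map, Function.comp_def, map_pow]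
  rw [h1, ← h, ← map_inv, ← map_mul, mem_comm' hφ]
  change abM _ = 1
  rw [map_mul, map_inv, of_decide_eq_true (List.all_eq_true.1 hM j (List.mem_range.2 hj)), inv_mul_cancel]

omit hφ in
theorem norm_of [Finite G] {g : G} {t : M6 → M6} (h : ∀ x, φ (t x) = g * φ x * g⁻¹) :
    g ∈ normalizer (φ.range : Set G) := mem_normalizer_fintype (by
  rintro _ ⟨x, rfl⟩
  exact ⟨t x, h x⟩)

variable [Finite G] {Q : Sylow 3 G} (hQ : (Q : Subgroup G) = φ.range)
include hQ

theorem relIndex_dvd32 (hC : IsPGroup 3 (centralizer ((Q : Subgroup G) : Set G))) :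
    (Q : Subgroup G).relIndex (normalizer ((Q : Subgroup G) : Set G)) ∣ 32 * 13 := by
  have h1 := Up.relIndex_dvd_GL Q hC (d := 3) (by
    rw [MK.T.commutator_eq_subgroupOf, hQ]
    exact (loc hφ).idx) (by
    rw [hQ]
    rintro _ ⟨x, rfl⟩
    rw [← map_pow, mem_comm' hφ]
    change abM _ = 1
    rw [map_pow]
    generalize abM x = v
    revert v
    decide +kernel)
  rw [show ∏ i : Fin 3, (3 ^ 3 - 3 ^ (i : ℕ)) = 3 ^ 3 * (32 * 13) by decide] at h1
  exact (cop_pow (nd_of_dvd Q.not_dvd_index (relIndex_dvd_index_of_le le_normalizer)) 3).symm.dvd_of_dvd_mul_left h1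

/-- the normaliser of `Q` normalises the centre of `Q` -/
theorem card_le_cent : ∃ c, c ∣ Nat.card (normalizer ((Q : Subgroup G) : Set G)) ∧
    c ∣ Nat.card (centralizer ({φ (rt 2 1)} : Set G)) ∧ Nat.card (normalizer ((Q : Subgroup G) : Set G)) ≤ 2 * c := by
  rw [hQ]
  let z : normalizer (φ.range : Set G) := ⟨φ (rt 2 1), le_normalizer ⟨_, rfl⟩⟩
  have h1 : orderOf z = 3 := by
    rw [← orderOf_coe, orderOf_injective φ hφ]
    exact orderOf_eq_prime (by decide) (by decide)
  have h2 := Pc.card_le_of_zpowers h1 (N := ⊤) fun g _ => mem_normalizer_fintype (by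
    rintro _ ⟨k, rfl⟩
    beta_reduce
    rw [← conj_zpow]
    refine zpow_mem ?_ k
    obtain ⟨x, hx⟩ := (mem_normalizer_iff.1 g.2 _).1 (⟨rt 2 1, rfl⟩ : φ (rt 2 1) ∈ φ.range)
    obtain ⟨j, rfl⟩ := cen_M6 (x := x) fun y => hφ (by
      obtain ⟨w, hw⟩ := (mem_normalizer_iff''.1 g.2 _).1 (⟨y, rfl⟩ : φ y ∈ φ.range)
      have h3 : φ (rt 2 1) * φ w = φ w * φ (rt 2 1) := by
        rw [← map_mul, ← map_mul]
        congr 1
        ext <;> simp [rt, add_comm]
      rw [map_mul, map_mul, hx, show φ y = g * φ w * (g : G)⁻¹ by rw [hw]; group, conj_mul, conj_mul, h3])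
    exact ⟨j, Subtype.ext ((map_zpow φ _ _).symm.trans hx)⟩)
  rw [card_top] at h2
  refine ⟨_, card_subgroup_dvd_card _, ?_, h2⟩
  rw [← card_map_of_injective (subtype_injective _)]
  refine card_dvd_of_le ?_
  rintro _ ⟨g, hg, rfl⟩
  exact mem_centralizer_singleton_iff.2 (congrArg Subtype.val (mem_centralizer_singleton_iff.1 hg))

/-- **the bound for `McL`** -/
theorem card_norm_le (hG : Nat.card G = 898128000) (hc : ∀ t : G, t ≠ 1 → 729 ∣ Nat.card (centralizer ({t} : Set G)) →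
    t ^ 3 = 1 ∧ Nat.card (centralizer ({t} : Set G)) = 29160) :
    Nat.card (normalizer ((Q : Subgroup G) : Set G)) ≤ Nat.card (Q : Subgroup G) * 8 := by
  have h0 : Nat.card (Q : Subgroup G) = 729 := hQ ▸ card_rg hφ
  have h1 : ∀ t ∈ centralizer ((Q : Subgroup G) : Set G), 729 ∣ Nat.card (centralizer ({t} : Set G)) := fun t ht =>
    h0 ▸ card_dvd_of_le fun x hx => mem_centralizer_singleton_iff.2 (mem_centralizer_iff.1 ht x hx)
  have h2 := relIndex_dvd32 hφ hQ fun t => ⟨1, Subtype.ext (by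
    by_cases h : t.1 = 1
    · simp only [h, _root_.Sylow.coe_coe, _root_.pow_one, _root_.SubmonoidClass.coe_pow, _root_.one_pow, _root_.OneMemClass.coe_one]
    · exact (hc _ h (h1 _ t.2)).1)⟩
  obtain ⟨c, h3, h4, h5⟩ := card_le_cent hφ hQ
  rw [(hc _ (fun h => absurd (hφ (h.trans (map_one φ).symm)) (by decide)) (h1 _ (mem_centralizer_iff.2 (by
    rw [hQ]
    rintro _ ⟨w, rfl⟩
    rw [← map_mul, ← map_mul]
    congr 1
    ext <;> simp [rt, add_comm])))).2] at h4
  have h6 := ((Q : Subgroup G).subgroupOf (normalizer ((Q : Subgroup G) : Set G))).card_mul_index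
  rw [Nat.card_congr (subgroupOfEquivOfLe le_normalizer).toEquiv, h0] at h6
  have h7 := (normalizer ((Q : Subgroup G) : Set G)).card_mul_index
  have h8 := card_sylow_modEq_one 3 G
  rw [Q.card_eq_index_normalizer] at h8
  change _ % 3 = 1 at h8
  rw [relIndex] at h2
  rw [← h6] at h3 h5 h7 ⊢
  rw [h0]
  generalize ((Q : Subgroup G).subgroupOf (normalizer ((Q : Subgroup G) : Set G))).index = m at *
  generalize (normalizer ((Q : Subgroup G) : Set G)).index = r at *
  have h9 : m * r = 1232000 := by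
    rw [hG, mul_assoc] at h7
    omega
  obtain ⟨k, hk, rfl⟩ := (Nat.dvd_prime_pow (m := 5) Nat.prime_two).1 (Nat.dvd_gcd h2 ⟨r, h9.symm⟩)
  have h10 := Nat.le_of_dvd (Nat.gcd_pos_of_pos_right _ (by norm_num)) (Nat.dvd_gcd h3 h4)
  interval_cases k <;> norm_num only [] at h10 ⊢ <;> omega

end Cfsg.Agent.MO.S.McL
end

-- part: MO/S/E62C/Fib
section
/-!
# MO, covers with a centre of order `a * b`, `a` and `b` coprime (helper34)

* `Cv.base` : the base of a cover has a trivial centre; `cv_of_pce`; `Cv.quot` : the quotients of a cover;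
* `cv_fib` : the fibre product of a cover of degree `a` and a cover of degree `b` is a cover of degree `a * b`;
* `iso_fib` : every cover of degree `a * b` is isomorphic to it, if the covers of degree `a` are unique up to an
  automorphism of the base and the covers of degree `b` are unique over the base.
-/

set_option autoImplicit false

namespace Cfsg.Agent.MO.S.E62C

open Cfsg Subgroup Cfsg.Agent.H51.Mult Cfsg.Agent.H68.Bounds Cfsg.Agent.H133.FibPce

variable {X Y G S : Type} [Group X] [Group Y] [Group G] [Group S] {m a b : ℕ} {φ : X →* S}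

theorem pce_of_cv (v : Cv m φ) : PCE φ := ⟨v.surj, v.ker.le, v.perf⟩

theorem card_ker (v : Cv m φ) : Nat.card φ.ker = m := by rw [v.ker, v.card]

theorem card_of_cv (v : Cv m φ) : Nat.card X = m * Nat.card S := by
  rw [← v.card, ← v.ker, ← φ.ker.card_mul_index, index_ker, MonoidHom.range_eq_top.2 v.surj, card_top]

/-- the base has a trivial centre -/
theorem base_center (v : Cv m φ) : center S = ⊥ := by
  have : Group.IsPerfect X := ⟨v.perf⟩
  have h := Group.IsPerfect.center_quotient_center_eq_bot X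
  let e : X ⧸ center X ≃* S :=
    (QuotientGroup.quotientMulEquivOfEq v.ker.symm).trans (QuotientGroup.quotientKerEquivOfSurjective φ v.surj)
  refine eq_bot_iff.2 fun s hs => ?_
  obtain ⟨x, rfl⟩ := e.surjective s
  have h1 := (T.mem_center_congr e x).1 hs
  rw [h, mem_bot] at h1
  rw [h1, map_one]
  exact one_mem _

theorem ker_of_pce (hS : center S = ⊥) (h : PCE φ) : φ.ker = center X :=
  le_antisymm h.cen fun x hx => by
    rw [MonoidHom.mem_ker, ← mem_bot, ← hS, mem_center_iff]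
    intro s
    obtain ⟨y, rfl⟩ := h.surj s
    rw [← map_mul, ← map_mul, mem_center_iff.1 hx]

theorem cv_of_pce (hS : center S = ⊥) (h : PCE φ) (h1 : Nat.card φ.ker = m) (h2 : IsCyclic φ.ker) : Cv m φ :=
  ⟨h.surj, ker_of_pce hS h, ker_of_pce hS h ▸ h1, ker_of_pce hS h ▸ h2, h.perf⟩

/-- the quotient of degree `a` -/
theorem cv_quot [Finite X] (v : Cv (a * b) φ) : ∃ (L : Type) (_ : Group L) (q : X →* L) (ρ : L →* S),
    Function.Surjective q ∧ Nat.card q.ker = b ∧ (∀ x, ρ (q x) = φ x) ∧ Cv a ρ := by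
  obtain ⟨g, hg⟩ := v.cyc.exists_generator
  have ho : orderOf g = a * b := by rw [orderOf_eq_card_of_forall_mem_zpowers hg, v.card]
  have h0 : a * b ≠ 0 := ho ▸ (orderOf_pos g).ne'
  obtain ⟨L, _, q, ρ, hq, hk, hρ, h3⟩ := (pce_of_cv v).quot (N := zpowers ((g : X) ^ a))
    (zpowers_le.2 (pow_mem (v.ker.ge g.2) a))
  have h5 : Nat.card q.ker = b := by
    rw [hk, Nat.card_zpowers, orderOf_pow_of_dvd (left_ne_zero_of_mul h0) (by rw [orderOf_coe, ho]; exact dvd_mul_right a b),
      orderOf_coe, ho, Nat.mul_div_cancel_left _ (Nat.pos_of_ne_zero (left_ne_zero_of_mul h0))]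
  have h4 := card_ker_of_quot (π := φ) hq hρ
  rw [card_ker v, h5] at h4
  refine ⟨L, inferInstance, q, ρ, hq, h5, hρ, cv_of_pce (base_center v) h3
    (Nat.eq_of_mul_eq_mul_right (Nat.pos_of_ne_zero (right_ne_zero_of_mul h0)) h4).symm ⟨⟨⟨q g, ?_⟩, ?_⟩⟩⟩
  · rw [MonoidHom.mem_ker, hρ]
    exact v.ker.ge g.2
  · rintro ⟨y, hy⟩
    obtain ⟨x, rfl⟩ := hq y
    obtain ⟨k, hk⟩ := hg ⟨x, v.ker.le (by rw [MonoidHom.mem_ker, ← hρ]; exact hy)⟩
    exact ⟨k, Subtype.ext (by
      have h6 : (g : X) ^ k = x := congrArg Subtype.val hk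
      show q g ^ k = q x
      rw [← h6, map_zpow])⟩

variable {pY : Y →* S} {pG : G →* S}

/-- **the fibre product** -/
theorem cv_fib [Finite Y] [Finite G] (hc : a.Coprime b) (vY : Cv a pY) (vG : Cv b pG) : Cv (a * b) (pj pY pG) := by
  have h1 : (Nat.card pY.ker).Coprime (Nat.card pG.ker) := by rwa [card_ker vY, card_ker vG]
  have h2 : IsCyclic pY.ker := vY.ker ▸ vY.cyc
  have h3 : IsCyclic pG.ker := vG.ker ▸ vG.cyc
  refine cv_of_pce (base_center vY) (pce_fib (pce_of_cv vY) (pce_of_cv vG)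
    (perfect_of_coprime (pce_of_cv vY) (pce_of_cv vG) h1)) ?_ ?_
  · rw [Nat.card_congr (kerFib pY pG).toEquiv, Nat.card_prod, card_ker vY, card_ker vG]
  · exact (kerFib pY pG).isCyclic.2 (Group.isCyclic_prod_iff.2 ⟨h2, h3, h1⟩)

/-- **the uniqueness** -/
theorem iso_fib [Finite X] [Finite Y] [Finite G] (hc : a.Coprime b) (vY : Cv a pY) (vG : Cv b pG)
    (hY : ∀ (L : Type) [Group L] [Finite L] (ρ : L →* S), Cv a ρ → ∃ (α : L ≃* Y) (β : S ≃* S), ∀ x, pY (α x) = β (ρ x))
    (hG : ∀ (L : Type) [Group L] [Finite L] (ρ : L →* S), Cv b ρ → ∃ γ : L ≃* G, ∀ x, pG (γ x) = ρ x)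
    (v : Cv (a * b) φ) : ∃ (e : X ≃* fib pY pG) (β : S ≃* S), ∀ x, pj pY pG (e x) = β (φ x) := by
  obtain ⟨L, _, q, ρ, hq, hk, hρ, vL⟩ := cv_quot v
  obtain ⟨M, _, r, τ, hr, hl, hτ, vM⟩ := cv_quot (a := b) (b := a) (mul_comm a b ▸ v)
  have := Finite.of_surjective q hq
  have := Finite.of_surjective r hr
  obtain ⟨α, β, h1⟩ := hY L ρ vL
  obtain ⟨γ, h2⟩ := hG M _ (vM.comp β)
  let f : X →* fib pY pG := ((α.toMonoidHom.comp q).prod (γ.toMonoidHom.comp r)).codRestrict _ fun x => by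
    show pY (α (q x)) = pG (γ (r x))
    rw [h1, h2, hρ, ← hτ]
    rfl
  have hf : Function.Injective f := (injective_iff_map_eq_one f).2 fun x hx => by
    have h3 : α (q x) = 1 := congrArg (fun y : fib pY pG => y.1.1) hx
    have h4 : γ (r x) = 1 := congrArg (fun y : fib pY pG => y.1.2) hx
    have h5 : orderOf x ∣ b := hk ▸ _root_.orderOf_dvd_natCard (⟨x, (map_eq_one_iff α α.injective).1 h3⟩ : q.ker) |>
      (orderOf_coe (⟨x, (map_eq_one_iff α α.injective).1 h3⟩ : q.ker) ▸ ·)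
    have h6 : orderOf x ∣ a := hl ▸ _root_.orderOf_dvd_natCard (⟨x, (map_eq_one_iff γ γ.injective).1 h4⟩ : r.ker) |>
      (orderOf_coe (⟨x, (map_eq_one_iff γ γ.injective).1 h4⟩ : r.ker) ▸ ·)
    exact orderOf_eq_one_iff.1 (Nat.eq_one_of_dvd_coprimes hc h6 h5)
  refine ⟨MulEquiv.ofBijective f (hf.bijective_of_nat_card_le ?_), β, fun x => ?_⟩
  · rw [card_of_cv v, card_of_cv (cv_fib hc vY vG)]
  · show pY (α (q x)) = _
    rw [h1, hρ]

end Cfsg.Agent.MO.S.E62C
end

-- part: MO/S/Cov3/Main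
section
/-!
# MO, covers with a centre of order 3, 4 or 6 : the faithful characters from integral rows (helper52)

`z` generates the central subgroup `Z`, `ω = l z` satisfies `ω ^ 2 + 1 = t * ω` with `t ^ 2 < 4`.  An integral row `f` with
`f (z * (z * x)) + f x = t * f (z * x)` is the sum of `pr z ω f` (which lies over `l`) and its complex conjugate.

* `pr`, `pr_shift`, `pr_add`, `pr_gen`, `pr_inner`, `pr_one`;
* `enum_pair0`, `enum_pair` : the enumeration `Cov2.En` from integral rows with the Gram matrix `2 * gam m st`;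
* `rt_three`, `rt_four`, `rt_six` : the equation of `l z`; `kk_pair` : the count for `Z = center X`;
* `cv_of_ker` : a model of the cover.
-/

set_option autoImplicit false

namespace Cfsg.Agent.MO.S.Cov3

open Cfsg Finset Subgroup Cfsg.Agent.TAB.Eng Cfsg.Agent.Characters
open Cfsg.Agent.Characters.Core Cfsg.Agent.Characters.Brauer Cfsg.Agent.H447.CTab
open Cfsg.Agent.MK.S7 (inner_shift)
open Cfsg.Agent.MO.S.Cov2
open scoped ComplexConjugate

variable {X : Type} [Group X] {z : X} {ω : ℂ} {t : ℤ}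

/-- the component over `ω` -/
noncomputable def pr (z : X) (ω : ℂ) (f : X → ℤ) : X → ℂ :=
  fun x => ((f (z * x) : ℂ) - conj ω * f x) / (ω - conj ω)

/-- `ω` is a root of `X ^ 2 - t * X + 1` which is not real -/
structure Rt (ω : ℂ) (t : ℤ) : Prop where
  eq : ω ^ 2 + 1 = t * ω
  lt : t ^ 2 < 4

theorem Rt.ne (h : Rt ω t) : ω - conj ω ≠ 0 := fun e => by
  have h1 := h.eq
  rw [← Complex.conj_eq_iff_re.1 (sub_eq_zero.1 e).symm] at h1
  have h2 : ω.re ^ 2 + 1 = t * ω.re := by exact_mod_cast h1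
  have h3 : (t : ℝ) ^ 2 < 4 := by exact_mod_cast h.lt
  linarith only [h2, h3, sq_nonneg (2 * ω.re - t)]

theorem Rt.add (h : Rt ω t) : ω + conj ω = t := by
  have h1 := congrArg conj h.eq
  simp only [map_add, map_pow, map_one, map_mul, map_intCast] at h1
  exact mul_left_cancel₀ h.ne (by linear_combination h.eq - h1)

theorem Rt.mul (h : Rt ω t) : ω * conj ω = 1 := by linear_combination ω * h.add - h.eq

theorem Rt.cases (h : Rt ω t) {c : ℂ} (hc : c ^ 2 + 1 = t * c) : c = ω ∨ c = conj ω := by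
  have h1 : (c - ω) * (c - conj ω) = 0 := by linear_combination hc - c * h.add + h.mul
  simpa only [mul_eq_zero, sub_eq_zero] using h1

/-- the relation of a faithful row -/
def Fr (z : X) (t : ℤ) (f : X → ℤ) : Prop := ∀ x, f (z * (z * x)) + f x = t * f (z * x)

theorem pr_shift (h : Rt ω t) {f : X → ℤ} (hf : Fr z t f) (x : X) : pr z ω f (z * x) = ω * pr z ω f x := by
  have h1 : (f (z * (z * x)) : ℂ) + f x = t * f (z * x) := by exact_mod_cast hf x
  rw [pr, pr, ← mul_div_assoc]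
  congr 1
  linear_combination h1 - (f (z * x) : ℂ) * h.add + (f x : ℂ) * h.mul

theorem pr_add (h : Rt ω t) (f : X → ℤ) (x : X) : pr z ω f x + conj (pr z ω f x) = f x := by
  have h1 := h.ne
  have h2 : conj ω - ω ≠ 0 := fun e => h1 (by linear_combination -e)
  simp only [pr, map_div₀, map_sub, map_mul, map_intCast, Complex.conj_conj]
  field_simp
  ring

theorem pr_pow (h : Rt ω t) {f : X → ℤ} (hf : Fr z t f) (n : ℕ) (x : X) : pr z ω f (z ^ n * x) = ω ^ n * pr z ω f x := by
  induction n with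
  | zero => rw [pow_zero, pow_zero, one_mul, one_mul]
  | succ n ih => rw [pow_succ', mul_assoc, pr_shift h hf, ih, pow_succ', mul_assoc]

variable [Fintype X]

theorem inner_sh (hz : z ∈ center X) {χ : X → ℂ} (hχ : IsIrrCharacter X χ) :
    ∃ c : ℂ, (∀ x, χ (z * x) = c * χ x) ∧ ∀ f : X → ℂ, classInner (fun x => f (z * x)) χ = c * classInner f χ := by
  obtain ⟨c, hc, hc1, -⟩ := ODD.Red.exists_central hχ hz
  have h5 : ‖c‖ = 1 := Complex.norm_eq_one_of_pow_eq_one (hc1 _ (pow_orderOf_eq_one z)) (orderOf_pos z).ne'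
  have h6 : c * conj c = 1 := by rw [Complex.mul_conj, Complex.normSq_eq_norm_sq, h5]; simp
  exact ⟨c, hc, fun f => by rw [inner_shift f hc, ← mul_assoc, h6, one_mul]⟩

theorem pr_gen (hz : z ∈ center X) (h : Rt ω t) {f : X → ℤ} (hf : Fr z t f)
    (hv : IsGeneralizedCharacter X fun x => (f x : ℂ)) : IsGeneralizedCharacter X (pr z ω f) := by
  have hc := gen_classFunction hv
  refine isGeneralizedCharacter_of_int (fun g c => ?_) fun χ hχ => ?_
  · have h1 : z * (c * g * c⁻¹) = c * (z * g) * c⁻¹ := by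
      rw [← mul_assoc, ← mul_assoc, ← mem_center_iff.1 hz c, mul_assoc c]
    have h2 := hc (z * g) c
    have h3 := hc g c
    beta_reduce at h2 h3
    rw [pr, pr, h1, h2, h3]
  obtain ⟨c, -, h1⟩ := inner_sh hz hχ
  have h2 : classInner (pr z ω f) χ = (c - conj ω) / (ω - conj ω) * classInner (fun x => (f x : ℂ)) χ := by
    have h2 : pr z ω f = (ω - conj ω)⁻¹ • ((fun x => (f (z * x) : ℂ)) + (-conj ω) • fun x => (f x : ℂ)) := by
      funext x
      simp only [pr, Pi.smul_apply, Pi.add_apply, smul_eq_mul]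
      ring
    rw [h2, classInner_smul_left, classInner_add_left, classInner_smul_left, h1 fun x => (f x : ℂ)]
    ring
  have h3 : (c ^ 2 + 1 - t * c) * classInner (fun x => (f x : ℂ)) χ = 0 := by
    have h3 : ((fun x => (f (z * (z * x)) : ℂ)) + fun x => (f x : ℂ)) = (t : ℂ) • fun x => (f (z * x) : ℂ) := by
      funext x
      simp only [Pi.smul_apply, Pi.add_apply, smul_eq_mul]
      exact_mod_cast hf x
    have h4 := congrArg (classInner · χ) h3
    simp only [classInner_add_left, classInner_smul_left] at h4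
    rw [h1 fun x => (f (z * x) : ℂ), h1 fun x => (f x : ℂ)] at h4
    linear_combination h4
  have h4 := inner_mu hv ⟨χ, hχ⟩
  rcases mul_eq_zero.1 h3 with h5 | h5
  · rcases h.cases (sub_eq_zero.1 h5) with rfl | rfl
    · exact ⟨_, by rw [h2, div_self h.ne, one_mul]; exact h4⟩
    · exact ⟨0, by rw [h2, sub_self, zero_div, zero_mul, Int.cast_zero]⟩
  · exact ⟨0, by rw [h2, h5, mul_zero, Int.cast_zero]⟩

theorem inner_cross (h : Rt ω t) {a b : X → ℂ} (ha : ∀ x, a (z * x) = ω * a x) (hb : ∀ x, b (z * x) = ω * b x) :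
    classInner a (fun x => conj (b x)) = 0 := by
  have h1 := inner_shift a (χ := fun x => conj (b x)) (z := z) (c := conj ω) fun x => by rw [hb, map_mul]
  rw [show (fun x => a (z * x)) = ω • a from funext ha, classInner_smul_left, Complex.conj_conj] at h1
  have h2 : (ω - conj ω) * ω * classInner a (fun x => conj (b x)) = 0 := by
    linear_combination -h1 - classInner a (fun x => conj (b x)) * h.mul
  refine (mul_eq_zero.1 h2).resolve_left (mul_ne_zero h.ne fun e => ?_)
  have h3 := h.mul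
  rw [e, zero_mul] at h3
  exact zero_ne_one h3

theorem pr_inner (hz : z ∈ center X) (h : Rt ω t) {f g : X → ℤ} (hf : Fr z t f) (hg : Fr z t g)
    (vf : IsGeneralizedCharacter X fun x => (f x : ℂ)) (vg : IsGeneralizedCharacter X fun x => (g x : ℂ)) {n : ℤ}
    (hn : classInner (fun x => (f x : ℂ)) (fun x => (g x : ℂ)) = ((2 * n : ℤ) : ℂ)) :
    classInner (pr z ω f) (pr z ω g) = n := by
  have := finite_irr (G := X)
  have := Fintype.ofFinite (IrrCharacter X)
  have h1 := inner_sum_mu (pr_gen hz h hf vf) (pr_gen hz h hg vg)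
  have h2 : (fun x => (f x : ℂ)) = pr z ω f + fun x => conj (pr z ω f x) := funext fun x => (pr_add h f x).symm
  have h3 : (fun x => (g x : ℂ)) = pr z ω g + fun x => conj (pr z ω g x) := funext fun x => (pr_add h g x).symm
  have h4 := inner_cross h (pr_shift h hf) (pr_shift h hg)
  have h5 := congrArg conj (inner_cross h (pr_shift h hg) (pr_shift h hf))
  have h6 : classInner (fun x => conj (pr z ω f x)) (fun x => conj (pr z ω g x)) =
      conj (classInner (pr z ω f) (pr z ω g)) := by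
    simp only [classInner_def, map_mul, map_sum, map_inv₀, map_natCast]
  rw [classInner_conj_symm, map_zero] at h5
  rw [h2, h3, classInner_add_left, classInner_add_right, classInner_add_right, h4, h5, h6, h1, map_intCast] at hn
  rw [h1]
  push_cast at hn ⊢
  linear_combination hn / 2

theorem pr_one (hz : z ∈ center X) (h : Rt ω t) {f : X → ℤ} (hf : Fr z t f)
    (vf : IsGeneralizedCharacter X fun x => (f x : ℂ)) {e : ℤ} (he : f 1 = 2 * e) : pr z ω f 1 = e := by
  have := finite_irr (G := X)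
  have := Fintype.ofFinite (IrrCharacter X)
  have h1 := apply_mu (pr_gen hz h hf vf) 1
  have h2 : conj (pr z ω f 1) = pr z ω f 1 := by
    rw [h1, map_sum]
    refine Finset.sum_congr rfl fun χ _ => ?_
    obtain ⟨d, -, hd, -⟩ := degree_dvd χ
    rw [map_mul, map_intCast, hd, map_natCast]
  have h3 := pr_add (z := z) h f 1
  rw [h2, he] at h3
  push_cast at h3
  linear_combination h3 / 2

variable {Z : Subgroup X} {l : X → ℂ}

theorem pr_lo (μ : Z →* ℂˣ) (hl : ∀ z : Z, l z = μ z) (hz : z ∈ Z) (hg : Z ≤ zpowers z) (h : Rt (l z) t) {f : X → ℤ}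
    (hf : Fr z t f) : Lo Z l (pr z (l z) f) := fun w hw x => by
  obtain ⟨n, rfl⟩ := mem_powers_iff_mem_zpowers.2 (hg hw)
  have h1 := hl (⟨z, hz⟩ ^ n)
  rw [map_pow, Units.val_pow_eq_pow_val, ← hl] at h1
  exact (pr_pow h hf n x).trans (congrArg (· * _) h1.symm)

/-- **the enumeration from integral rows**, the separation is a hypothesis on the components -/
theorem enum_pair0 (hZ : Z ≤ center X) (μ : Z →* ℂˣ) (hl : ∀ z : Z, l z = μ z) (hz : z ∈ Z) (hg : Z ≤ zpowers z)
    (h : Rt (l z) t) {k ns : ℕ} {m st : ℕ → ℕ} (hs : Shape k ns m st) (hm : ∀ j < k, m j ≤ 2) (f : ℕ → X → ℤ)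
    (hv : ∀ j < k, IsGeneralizedCharacter X fun x => (f j x : ℂ)) (h0 : ∀ j < k, Fr z t (f j))
    (hG : ∀ i < k, ∀ j < k, classInner (fun x => (f i x : ℂ)) (fun x => (f j x : ℂ)) = ((2 * gam m st i j : ℤ) : ℂ))
    (e : ℕ → ℤ) (he : ∀ j < k, f j 1 = 2 * e j) (b : ℕ → ℤ) (hb : ∀ j < k, ∑ i ∈ range k, b i * gam m st i j = e j)
    (hN : Nat.card Z * ∑ j ∈ range k, b j * e j = Nat.card X)
    (hp : ∀ j < k, ∀ i < j, st j = 0 → st i = 0 → m j = 2 → m i = 2 → ∀ (χ : IrrCharacter X) (s c : ℤ),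
      (s = 1 ∨ s = -1) → (c = 1 ∨ c = -1) →
        ¬ ∀ x, pr z (l z) (f j) x + s * pr z (l z) (f i) x = 2 * c * (χ : X → ℂ) x) :
    ∃ ix, En Z l k ns m st b (fun j => pr z (l z) (f j)) ix :=
  enum_cov hZ μ hl hs hm _ (fun j hj => pr_gen (hZ hz) h (h0 j hj) (hv j hj)) (fun j hj => pr_lo μ hl hz hg h (h0 j hj))
    (fun i hi j hj => pr_inner (hZ hz) h (h0 i hi) (h0 j hj) (hv i hi) (hv j hj) (hG i hi j hj)) e
    (fun j hj => pr_one (hZ hz) h (h0 j hj) (hv j hj) (he j hj)) b hb hN hp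

omit [Fintype X] in
/-- the separation by parity -/
theorem sep_par2 [Finite X] (h : Rt ω t) {f g : X → ℤ} {x : X} (h1 : (f x + g x) % 2 ≠ 0) (χ : IrrCharacter X) (s c : ℤ)
    (hs : s = 1 ∨ s = -1) : ¬ ∀ x, pr z ω f x + s * pr z ω g x = 2 * c * (χ : X → ℂ) x := fun e => by
  have h2 := congrArg conj (e x)
  simp only [map_add, map_mul, map_intCast, map_ofNat] at h2
  have h3 : c * ((χ : X → ℂ) x + (χ : X → ℂ) x⁻¹) + c * ((χ : X → ℂ) x + (χ : X → ℂ) x⁻¹) =
      ((f x + s * g x : ℤ) : ℂ) := by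
    push_cast
    rw [isCharacter_apply_inv (isIrr_isCharacter χ.2), ← pr_add (z := z) h f, ← pr_add (z := z) h g]
    linear_combination -e x - h2
  have h9 := TAB.Use.even_of_integral ((isIntegral_algebraMap (R := ℤ) (A := ℂ) (x := c)).mul
    ((GaloisBasic.isIntegral_apply (isIrr_isCharacter χ.2) x).add
      (GaloisBasic.isIntegral_apply (isIrr_isCharacter χ.2) x⁻¹))) h3
  rcases hs with rfl | rfl <;> omega

/-- **the enumeration from integral rows** -/
theorem enum_pair (hZ : Z ≤ center X) (μ : Z →* ℂˣ) (hl : ∀ z : Z, l z = μ z) (hz : z ∈ Z) (hg : Z ≤ zpowers z)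
    (h : Rt (l z) t) {k ns : ℕ} {m st : ℕ → ℕ} (hs : Shape k ns m st) (hm : ∀ j < k, m j ≤ 2) (f : ℕ → X → ℤ)
    (hv : ∀ j < k, IsGeneralizedCharacter X fun x => (f j x : ℂ)) (h0 : ∀ j < k, Fr z t (f j))
    (hG : ∀ i < k, ∀ j < k, classInner (fun x => (f i x : ℂ)) (fun x => (f j x : ℂ)) = ((2 * gam m st i j : ℤ) : ℂ))
    (e : ℕ → ℤ) (he : ∀ j < k, f j 1 = 2 * e j) (b : ℕ → ℤ) (hb : ∀ j < k, ∑ i ∈ range k, b i * gam m st i j = e j)
    (hN : Nat.card Z * ∑ j ∈ range k, b j * e j = Nat.card X)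
    (hp : ∀ j < k, ∀ i < j, st j = 0 → st i = 0 → m j = 2 → m i = 2 → (∃ x, (f j x + f i x) % 2 ≠ 0) ∨
      (¬ e j + e i ∣ 2 * Nat.card X ∧ ¬ e j - e i ∣ 2 * Nat.card X)) :
    ∃ ix, En Z l k ns m st b (fun j => pr z (l z) (f j)) ix :=
  enum_pair0 hZ μ hl hz hg h hs hm f hv h0 hG e he b hb hN fun j hj i hi a1 a2 a3 a4 χ s c h1 h2 =>
    (hp j hj i hi a1 a2 a3 a4).elim (fun ⟨_, hx⟩ => sep_par2 h hx χ s c h1) fun hx =>
      sep_deg (pr_one (hZ hz) h (h0 j hj) (hv j hj) (he j hj))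
        (pr_one (hZ hz) h (h0 i (hi.trans hj)) (hv i (hi.trans hj)) (he i (hi.trans hj))) hx.1 hx.2 χ s c h1 h2

/-! ### the root -/

omit [Fintype X] in
theorem fl_pow (hl : Fl X l) (hz : z ∈ center X) (n : ℕ) : l z ^ n = 1 ↔ orderOf z ∣ n := by
  obtain ⟨μ, h1, h2⟩ := hl
  rw [h2 ⟨z, hz⟩, ← Units.val_pow_eq_pow_val, Units.val_eq_one, ← orderOf_dvd_iff_pow_eq_one, orderOf_injective μ h1,
    Subgroup.orderOf_mk]

omit [Fintype X] in
theorem rt_three (hl : Fl X l) (hz : z ∈ center X) (ho : orderOf z = 3) : Rt (l z) (-1) := by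
  have h1 := (fl_pow hl hz 3).2 (ho ▸ dvd_rfl)
  have h2 := mt (fl_pow hl hz 1).1 (by rw [ho]; decide)
  refine ⟨mul_left_cancel₀ (sub_ne_zero.2 h2) ?_, by decide⟩
  push_cast
  linear_combination h1

omit [Fintype X] in
theorem rt_four (hl : Fl X l) (hz : z ∈ center X) (ho : orderOf z = 4) : Rt (l z) 0 := by
  have h1 := (fl_pow hl hz 4).2 (ho ▸ dvd_rfl)
  have h2 := mt (fl_pow hl hz 2).1 (by rw [ho]; decide)
  refine ⟨mul_left_cancel₀ (sub_ne_zero.2 h2) ?_, by decide⟩
  push_cast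
  linear_combination h1

omit [Fintype X] in
theorem rt_six (hl : Fl X l) (hz : z ∈ center X) (ho : orderOf z = 6) : Rt (l z) 1 := by
  have h1 := (fl_pow hl hz 6).2 (ho ▸ dvd_rfl)
  have h2 := mt (fl_pow hl hz 2).1 (by rw [ho]; decide)
  have h3 := mt (fl_pow hl hz 3).1 (by rw [ho]; decide)
  have h4 : l z ^ 3 + 1 = 0 := mul_left_cancel₀ (sub_ne_zero.2 h3) (by linear_combination h1)
  have h5 : l z + 1 ≠ 0 := fun e => h2 (by linear_combination (l z - 1) * e)
  refine ⟨mul_left_cancel₀ h5 ?_, by decide⟩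
  push_cast
  linear_combination h4

omit [Fintype X] in
/-- the relation for `z` of order three in the symmetric form -/
theorem fr_three {f : X → ℤ} (h : ∀ x, f x + f (z * x) + f (z * (z * x)) = 0) : Fr z (-1) f := fun x => by
  linear_combination h x

/-- **the count** for a cover whose centre is generated by `z` -/
theorem kk_pair (hl : Fl X l) (hg : center X = zpowers z) (h : Rt (l z) t) {k ns : ℕ} {m st : ℕ → ℕ}
    (hs : Shape k ns m st) (hm : ∀ j < k, m j ≤ 2) (f : ℕ → X → ℤ)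
    (hv : ∀ j < k, IsGeneralizedCharacter X fun x => (f j x : ℂ)) (h0 : ∀ j < k, Fr z t (f j))
    (hG : ∀ i < k, ∀ j < k, classInner (fun x => (f i x : ℂ)) (fun x => (f j x : ℂ)) = ((2 * gam m st i j : ℤ) : ℂ))
    (e : ℕ → ℤ) (he : ∀ j < k, f j 1 = 2 * e j) (b : ℕ → ℤ) (hb : ∀ j < k, ∑ i ∈ range k, b i * gam m st i j = e j)
    (hN : orderOf z * ∑ j ∈ range k, b j * e j = Nat.card X)
    (hp : ∀ j < k, ∀ i < j, st j = 0 → st i = 0 → m j = 2 → m i = 2 → (∃ x, (f j x + f i x) % 2 ≠ 0) ∨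
      (¬ e j + e i ∣ 2 * Nat.card X ∧ ¬ e j - e i ∣ 2 * Nat.card X)) (p : ℕ) :
    kk p ⊤ (center X) l = ∑ y ∈ range (k + ns), if ¬ p ∣ (sdeg k st b y).natAbs then mlt k m st y else 0 := by
  obtain ⟨μ, -, h2⟩ := hl
  obtain ⟨ix, h3⟩ := enum_pair le_rfl μ h2 (hg.ge (mem_zpowers z)) hg.le h hs hm f hv h0 hG e he b hb
    (by rwa [hg, Nat.card_zpowers]) hp
  exact h3.kk p

omit [Fintype X] in
/-- a model of the cover -/
theorem cv_of_ker {S : Type} [Group S] {φ : X →* S} (hS : center S = ⊥) (h1 : Function.Surjective φ)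
    (hz : z ∈ center X) (hk : φ.ker = zpowers z) (hp : _root_.commutator X = ⊤) :
    center X = zpowers z ∧ Cv (orderOf z) φ := by
  have h2 : center X = zpowers z := le_antisymm (fun x hx => by
    rw [← hk, MonoidHom.mem_ker, ← mem_bot, ← hS, mem_center_iff]
    intro s
    obtain ⟨y, rfl⟩ := h1 s
    rw [← map_mul, ← map_mul, mem_center_iff.1 hx]) (zpowers_le_of_mem hz)
  exact ⟨h2, h1, hk.trans h2.symm, by rw [h2, Nat.card_zpowers], by rw [h2]; infer_instance, hp⟩

end Cfsg.Agent.MO.S.Cov3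
end

-- part: MO/S/Suz6/Real
section
/-!
# MO, covers with a central element of order three : the count from real rows (helper72)

* `pz z ω F` : the part of `F` on which `z` acts by `ω`;
* `kk_real` : real rows `F j = f j + conj (f j)` with the Gram matrix `2 * m j` give the number of the irreducible
  characters of `p'`-degree over a faithful character of the centre (covers `3.S`, `6.S`, `12.S`).
-/

set_option autoImplicit false

namespace Cfsg.Agent.MO.S.Suz6

open Cfsg Finset Subgroup Cfsg.Agent.TAB.Eng Cfsg.Agent.Characters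
open Cfsg.Agent.Characters.Core Cfsg.Agent.Characters.Brauer Cfsg.Agent.H447.CTab
open Cfsg.Agent.MK.S7 (inner_shift)
open Cfsg.Agent.MO.S.Cov2
open scoped ComplexConjugate

variable {X : Type} [Group X] {z : X} {ω : ℂ} {F H : X → ℂ}

/-- the part over `ω` -/
noncomputable def pz (z : X) (ω : ℂ) (F : X → ℂ) (x : X) : ℂ :=
  (F x + ω ^ 2 * F (z * x) + ω * F (z * (z * x))) / 3

theorem pz_z (h3 : ∀ y, z * (z * (z * y)) = y) (hω : ω ^ 2 + ω + 1 = 0) (x : X) :
    pz z ω F (z * x) = ω * pz z ω F x := by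
  rw [pz, pz, h3]
  linear_combination ((1 - ω) * F (z * x) / 3) * hω

theorem conj_om (hω : ω ^ 2 + ω + 1 = 0) : conj ω = -1 - ω := by
  have h1 := congrArg conj hω
  simp only [map_add, map_pow, map_one, map_zero] at h1
  exact mul_left_cancel₀ (sub_ne_zero.2 (MK.S7.conj_ne hω)) (by linear_combination h1 - hω)

theorem pz_add (hω : ω ^ 2 + ω + 1 = 0) (hr : ∀ x, conj (F x) = F x)
    (h0 : ∀ x, F x + F (z * x) + F (z * (z * x)) = 0) (x : X) : F x = pz z ω F x + conj (pz z ω F x) := by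
  simp only [pz, map_div₀, map_add, map_mul, map_pow, hr, conj_om hω, map_ofNat]
  linear_combination (h0 x) / 3 - (2 * F (z * x) / 3) * hω

variable [Fintype X]

theorem gen_pz (hz : z ∈ center X) (h3 : ∀ y, z * (z * (z * y)) = y) (hω : ω ^ 2 + ω + 1 = 0)
    (h : IsGeneralizedCharacter X F) : IsGeneralizedCharacter X (pz z ω F) := by
  have := finite_irr (G := X)
  have := Fintype.ofFinite (IrrCharacter X)
  have h0 := gen_classFunction h
  have hc : ∀ y c : X, z * (c * y * c⁻¹) = c * (z * y) * c⁻¹ := fun y c => by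
    rw [← mul_assoc, ← mul_assoc, ← mem_center_iff.1 hz c, mul_assoc c]
  refine isGeneralizedCharacter_of_int (fun g s => by rw [pz, pz, hc, hc, h0, h0, h0]) fun χ hχ => ?_
  obtain ⟨d, h1, h2, -⟩ := ODD.Red.exists_central hχ hz
  have h4 : d ^ 3 = 1 := h2 3 (by rw [pow_three, ← mul_one (z * z), mul_assoc, h3])
  have h5 := inner_shift F h1
  have h6 := inner_shift (fun x => F (z * x)) h1
  have h7 := inner_shift (fun x => F (z * (z * x))) h1
  simp only [h3] at h7
  have h8 : pz z ω F = (3⁻¹ : ℂ) • (F + ω ^ 2 • (fun x => F (z * x)) + ω • fun x => F (z * (z * x))) :=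
    funext fun x => by
      rw [pz, div_eq_inv_mul]
      rfl
  have h9 := inner_mu h ⟨χ, hχ⟩
  rw [h8, classInner_smul_left, classInner_add_left, classInner_add_left, classInner_smul_left, classInner_smul_left,
    h6, h7]
  change classInner F χ = _ at h9
  rcases MK.S7.cube_cases hω h4 with rfl | rfl | rfl
  · exact ⟨0, by rw [map_one]; linear_combination (3⁻¹ * classInner F χ) * hω⟩
  · refine ⟨_, Eq.trans ?_ h9⟩
    rw [conj_om hω]
    linear_combination (3⁻¹ * classInner F χ * (d ^ 2 + d - 2)) * hω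
  · refine ⟨0, ?_⟩
    rw [Complex.conj_conj]
    linear_combination (3⁻¹ * classInner F χ * (ω ^ 2 - ω + 1)) * hω

theorem inner_conj (f g : X → ℂ) :
    classInner (fun x => conj (f x)) (fun x => conj (g x)) = conj (classInner f g) := by
  simp only [classInner_def, map_mul, map_sum, map_inv₀, map_natCast]

theorem inner_pz (hz : z ∈ center X) (h3 : ∀ y, z * (z * (z * y)) = y) (hω : ω ^ 2 + ω + 1 = 0)
    (hF : IsGeneralizedCharacter X F) (hH : IsGeneralizedCharacter X H) (rF : ∀ x, conj (F x) = F x)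
    (rH : ∀ x, conj (H x) = H x) (aF : ∀ x, F x + F (z * x) + F (z * (z * x)) = 0)
    (aH : ∀ x, H x + H (z * x) + H (z * (z * x)) = 0) :
    classInner F H = 2 * classInner (pz z ω F) (pz z ω H) := by
  have := finite_irr (G := X)
  have := Fintype.ofFinite (IrrCharacter X)
  have h1 : ∀ {A B : X → ℂ}, classInner (pz z ω A) (fun x => conj (pz z ω B x)) = 0 := fun {A B} => by
    have h2 := inner_shift (z := z) (pz z ω A) (χ := fun x => conj (pz z ω B x)) (c := conj ω) fun x => by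
      rw [pz_z h3 hω, map_mul]
    rw [show (fun x => pz z ω A (z * x)) = ω • pz z ω A from funext fun x => pz_z h3 hω x, classInner_smul_left,
      Complex.conj_conj] at h2
    have h4 : (1 - ω ^ 2 : ℂ) ≠ 0 := fun h => MK.S7.conj_ne hω (by
      rw [conj_om hω]
      have h5 : ω = -2 := by linear_combination hω + h
      rw [h5] at hω
      norm_num at hω)
    exact mul_left_cancel₀ h4 (by linear_combination h2)
  have h2 : classInner (fun x => conj (pz z ω F x)) (pz z ω H) = 0 := by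
    have h4 := inner_conj (pz z ω F) fun x => conj (pz z ω H x)
    simp only [Complex.conj_conj] at h4
    rw [h1, map_zero] at h4
    exact h4
  have h4 := inner_conj (pz z ω F) (pz z ω H)
  rw [inner_sum_mu (gen_pz hz h3 hω hF) (gen_pz hz h3 hω hH), map_intCast,
    ← inner_sum_mu (gen_pz hz h3 hω hF) (gen_pz hz h3 hω hH)] at h4
  have e1 : F = pz z ω F + fun x => conj (pz z ω F x) := funext (pz_add hω rF aF)
  have e2 : H = pz z ω H + fun x => conj (pz z ω H x) := funext (pz_add hω rH aH)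
  conv_lhs => rw [e1, e2]
  rw [classInner_add_left, classInner_add_right, classInner_add_right, h1, h2, h4]
  ring

omit [Fintype X] in
theorem fl_mul {l : X → ℂ} (hl : Fl X l) {a b : X} (ha : a ∈ center X) (hb : b ∈ center X) :
    l (a * b) = l a * l b := by
  obtain ⟨μ, -, h⟩ := hl
  exact (h (⟨a, ha⟩ * ⟨b, hb⟩)).trans (by rw [map_mul, Units.val_mul, ← h, ← h])

omit [Fintype X] in
theorem fl_one {l : X → ℂ} (hl : Fl X l) : l 1 = 1 := by
  obtain ⟨μ, -, h⟩ := hl
  exact (h 1).trans (by rw [map_one, Units.val_one])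

omit [Fintype X] in
theorem fl_inj {l : X → ℂ} (hl : Fl X l) {a : X} (ha : a ∈ center X) (h1 : l a = 1) : a = 1 := by
  obtain ⟨μ, h2, h⟩ := hl
  exact congrArg Subtype.val (h2 (a₁ := ⟨a, ha⟩) (a₂ := 1) (Units.ext (by rw [← h, map_one, Units.val_one, h1])))

omit [Fintype X] in
/-- **the count from real rows** : the centre is generated by `z` and elements `u` which act on the rows by `l u` -/
theorem kk_real [Finite X] {l : X → ℂ} (hl : Fl X l) (hz : z ∈ center X) (h3 : ∀ y, z * (z * (z * y)) = y) (h1 : z ≠ 1)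
    {k : ℕ} {m : ℕ → ℕ} (hm : ∀ j < k, m j ≤ 2) (F : ℕ → X → ℂ) (hv : ∀ j < k, IsGeneralizedCharacter X (F j))
    (hr : ∀ j < k, ∀ x, conj (F j x) = F j x) (h0 : ∀ j < k, ∀ x, F j x + F j (z * x) + F j (z * (z * x)) = 0)
    (hc : ∀ w ∈ center X, ∃ (a : ℕ) (u : X), u ∈ center X ∧ w = z ^ a * u ∧ ∀ j < k, ∀ x, F j (u * x) = l u * F j x)
    (hG : ∀ [Fintype X], ∀ i < k, ∀ j < k, classInner (F i) (F j) = ((2 * gam m (fun _ => 0) i j : ℤ) : ℂ))
    (b : ℕ → ℤ) (he : ∀ j < k, F j 1 = (2 * (b j * m j) : ℤ) ∧ F j z = (-(b j * m j) : ℤ))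
    (hN : Nat.card (center X) * ∑ j ∈ range k, b j * (b j * m j) = Nat.card X)
    (hp : ∀ j < k, ∀ i < j, m j = 2 → m i = 2 → ¬ b j + b i ∣ Nat.card X ∧ ¬ b j - b i ∣ Nat.card X) (p : ℕ) :
    kk p ⊤ (center X) l = ∑ y ∈ range k, if ¬ p ∣ (b y).natAbs then m y else 0 := by
  have := Fintype.ofFinite X
  have hω : l z ^ 2 + l z + 1 = 0 := mul_left_cancel₀ (sub_ne_zero.2 (mt (fl_inj hl hz) h1)) (by
    have h := fl_mul hl hz (mul_mem hz hz)
    rw [show z * (z * z) = 1 by simpa only [_root_.mul_one] using h3 1, fl_one hl, fl_mul hl hz hz] at h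
    linear_combination -h)
  have he' : ∀ j < k, pz z (l z) (F j) 1 = (b j * m j : ℤ) := fun j hj => by
    have h4 := h0 j hj 1
    rw [pz]
    rw [mul_one, (he j hj).1, (he j hj).2] at h4 ⊢
    push_cast at h4 ⊢
    linear_combination (l z / 3) * h4 - (b j * m j / 3 : ℂ) * hω
  obtain ⟨μ, -, hμ⟩ := id hl
  refine (enum_cov (k := k) (ns := 0) (m := m) (st := fun _ => 0) le_rfl μ hμ
    ⟨fun _ _ => le_rfl, fun _ _ h => absurd rfl h, fun _ h => absurd h (Nat.not_lt_zero _),
      fun _ h => absurd h (Nat.not_lt_zero _)⟩ hm (fun j => pz z (l z) (F j))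
    (fun j hj => gen_pz hz h3 hω (hv j hj)) (fun j hj w hw x => ?_) (fun i hi j hj => ?_) (fun j => b j * m j) he' b
    (fun j hj => ?_) hN fun j hj i hi _ _ a3 a4 χ s c hs hc' => ?_).elim fun ix h => ?_
  · obtain ⟨a, u, hu, rfl, h4⟩ := hc w hw
    have h5 : pz z (l z) (F j) (u * x) = l u * pz z (l z) (F j) x := by
      have h6 : ∀ y, z * (u * y) = u * (z * y) := fun y => by rw [← mul_assoc, mem_center_iff.1 hu z, mul_assoc]
      rw [pz, pz, h6, h6, h4 j hj, h4 j hj, h4 j hj]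
      ring
    clear hw
    induction a with
    | zero => rw [pow_zero, one_mul, h5]
    | succ a ih =>
      rw [pow_succ', mul_assoc, mul_assoc, pz_z h3 hω, ← mul_assoc (z ^ a), ih, mul_assoc z,
        fl_mul hl hz (mul_mem (pow_mem hz a) hu), mul_assoc]
  · have h4 := (inner_pz hz h3 hω (hv i hi) (hv j hj) (hr i hi) (hr j hj) (h0 i hi) (h0 j hj)).symm.trans (hG i hi j hj)
    push_cast at h4
    exact mul_left_cancel₀ two_ne_zero h4
  · rw [Finset.sum_eq_single j (fun i _ hij => by rw [gam, if_neg hij, if_neg fun h => h.2 rfl, mul_zero])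
      fun h => absurd (mem_range.2 hj) h, gam, if_pos rfl]
  · obtain ⟨h4, h5⟩ := hp j hj i hi a3 a4
    refine sep_deg (he' j hj) (he' i (hi.trans hj)) (fun h => h4 ?_) (fun h => h5 ?_) χ s c hs hc'
    · rw [a3, a4, ← add_mul, Nat.cast_ofNat, mul_comm] at h
      exact (mul_dvd_mul_iff_left two_ne_zero).1 h
    · rw [a3, a4, ← sub_mul, Nat.cast_ofNat, mul_comm] at h
      exact (mul_dvd_mul_iff_left two_ne_zero).1 h
  · rw [h.kk]
    refine Finset.sum_congr rfl fun y hy => ?_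
    have hy' : y < k := mem_range.1 hy
    rw [sdeg, mlt, if_pos hy', if_pos hy', if_pos rfl]

end Cfsg.Agent.MO.S.Suz6
end

-- part: MO/S/PcF
section
/-!
# MO, polycyclic certificates : an invariant flag (helper61)

* `flC`, `norm_flag` : `V (k + 1)` is the centraliser in `V k` of `V a` modulo `V (l + 1)`;
* `card_flag` : `|N(Q)| ≤ p ^ n * (p - 1) ^ m` if `N(Q)` normalises `V 0, …, V m`.
-/

set_option autoImplicit false

namespace Cfsg.Agent.MO.S.Pc

open Subgroup
open Cfsg.Agent.MK.S.Pc (ev ev_nil ev_cons V mem_V V_le V_mono inR inR_mem)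
open scoped commutatorElement

variable {Γ : Type} [Group Γ] {g : ℕ → Γ} {p n m : ℕ}

/-- the elements of `N` which centralise `S` modulo `B` -/
def Cz {N B : Subgroup Γ} (h : N ≤ normalizer (B : Set Γ)) (S : Set Γ) : Subgroup Γ where
  carrier := {x | x ∈ N ∧ ∀ y ∈ S, ⁅x, y⁆ ∈ B}
  one_mem' := ⟨one_mem _, fun y _ => by rw [commutatorElement_one_left]; exact one_mem _⟩
  mul_mem' {a b} ha hb := ⟨mul_mem ha.1 hb.1, fun y hy => by
    rw [show ⁅a * b, y⁆ = a * ⁅b, y⁆ * a⁻¹ * ⁅a, y⁆ by simp only [commutatorElement_def]; group]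
    exact mul_mem ((mem_normalizer_iff.1 (h ha.1) _).1 (hb.2 y hy)) (ha.2 y hy)⟩
  inv_mem' {a} ha := ⟨inv_mem ha.1, fun y hy => by
    rw [show ⁅a⁻¹, y⁆ = a⁻¹ * ⁅a, y⁆⁻¹ * a⁻¹⁻¹ by simp only [commutatorElement_def]; group]
    exact (mem_normalizer_iff.1 (h (inv_mem ha.1)) _).1 (inv_mem (ha.2 y hy))⟩

theorem V_le_norm {k : ℕ} : V g n k ≤ normalizer (V g n 0 : Set Γ) := (V_mono (Nat.zero_le k)).trans le_normalizer

theorem V_succ (k : ℕ) {H : Subgroup Γ} (h1 : g k ∈ H) (h2 : V g n (k + 1) ≤ H) : V g n k ≤ H :=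
  V_le fun _ h3 h4 => h3.eq_or_lt.elim (fun e => e ▸ h1) fun h5 => h2 (mem_V h5 h4)

variable [Finite Γ] [hp : Fact p.Prime]

omit hp in
theorem PC.card_succ (h : PC p g n m) (hc : p ^ n ≤ Nat.card (V g n 0)) {k : ℕ} (hk : k < n) :
    Nat.card (V g n k) = Nat.card (V g n (k + 1)) * p := by
  rw [h.card_eq hc hk.le, h.card_eq hc hk, ← pow_succ, show n - (k + 1) + 1 = n - k by omega]

theorem PC.not_mem (h : PC p g n m) (hc : p ^ n ≤ Nat.card (V g n 0)) {k : ℕ} (hk : k < n) : g k ∉ V g n (k + 1) :=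
  fun h1 => by
    have h2 := h.card_succ hc hk
    rw [le_antisymm (V_succ k h1 le_rfl) (V_mono k.le_succ)] at h2
    exact hp.out.one_lt.ne (Nat.eq_of_mul_eq_mul_left Nat.card_pos ((mul_one _).trans h2))

theorem PC.eq_succ (h : PC p g n m) (hc : p ^ n ≤ Nat.card (V g n 0)) {k : ℕ} (hk : k < n) {H : Subgroup Γ}
    (h1 : V g n (k + 1) ≤ H) (h2 : H ≤ V g n k) (h3 : g k ∉ H) : H = V g n (k + 1) := by
  obtain ⟨t, ht⟩ := card_dvd_of_le h1
  have h4 := card_dvd_of_le h2
  rw [ht, h.card_succ hc hk] at h4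
  rcases (Nat.dvd_prime hp.out).1 (Nat.dvd_of_mul_dvd_mul_left Nat.card_pos h4) with rfl | rfl
  · exact (eq_of_le_of_card_ge h1 (by rw [ht, mul_one])).symm
  · exact absurd (eq_of_le_of_card_ge h2 (by rw [ht, h.card_succ hc hk]) ▸ mem_V le_rfl hk) h3

/-- `⁅g k, g a⁆ = g l`, and `⁅V (k + 1), V a⁆ ≤ V (l + 1)` -/
def flC (n k a l : ℕ) (c : Cert) : Bool :=
  Nat.blt k a && Nat.blt a n && Nat.blt l n && (c.cm.getD k []).getD a [] == [l] && (List.range n).all fun j =>
    Nat.blt j a || (List.range j).all fun i => Nat.ble i k || inR (l + 1) n ((c.cm.getD i []).getD j [])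

/-- **a step of the flag** -/
theorem norm_flag {eqv : List ℕ → List ℕ → Bool} {c : Cert} (he : ∀ v w, eqv v w = true → ev g v = ev g w)
    (h : chk eqv p n m c = true) (hc : p ^ n ≤ Nat.card (V g n 0)) {k a l : ℕ} (h' : flC n k a l c = true)
    (hk : normalizer (V g n 0 : Set Γ) ≤ normalizer (V g n k : Set Γ))
    (ha : normalizer (V g n 0 : Set Γ) ≤ normalizer (V g n a : Set Γ))
    (hl : normalizer (V g n 0 : Set Γ) ≤ normalizer (V g n (l + 1) : Set Γ)) :
    normalizer (V g n 0 : Set Γ) ≤ normalizer (V g n (k + 1) : Set Γ) := by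
  simp only [flC, Bool.and_eq_true, Bool.or_eq_true, List.all_eq_true, List.mem_range, Nat.ble_eq, Nat.blt_eq,
    beq_iff_eq] at h'
  obtain ⟨⟨⟨⟨h1, h2⟩, h3⟩, h4⟩, h5⟩ := h'
  have h6 : ∀ i j, k < i → i < j → a ≤ j → j < n → ⁅g i, g j⁆ ∈ V g n (l + 1) := fun i j hi hij hj hn => by
    rw [chk_cm he h hij hn]
    exact inR_mem (((h5 j hn).resolve_left (by omega) i hij).resolve_left (by omega))
  have h7 : V g n k ⊓ Cz hl (V g n a) = V g n (k + 1) := by
    refine (pc_of_chk he h).eq_succ hc (h1.trans h2) (le_inf (V_mono k.le_succ) (V_le fun i hi hn =>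
      ⟨V_le_norm (mem_V hi hn), fun y hy => ?_⟩)) inf_le_left fun h7 => (pc_of_chk he h).not_mem hc h3 ?_
    · rw [← commutatorElement_inv]
      refine inv_mem ((V_le (H := Cz hl {g i}) (fun j hj hn' => ⟨V_le_norm (mem_V hj hn'), ?_⟩) hy).2 _ rfl)
      rintro _ rfl
      rcases lt_trichotomy i j with h8 | rfl | h8
      · rw [← commutatorElement_inv]
        exact inv_mem (h6 i j hi h8 hj hn')
      · rw [commutatorElement_self]
        exact one_mem _
      · exact h6 j i (by omega) h8 (by omega) hn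
    · have h8 := h7.2.2 _ (mem_V le_rfl h2)
      rwa [chk_cm he h h1 h2, h4, ev_cons, ev_nil, mul_one] at h8
  refine fun x hx => mem_normalizer_fintype fun v hv => ?_
  rw [← h7] at hv ⊢
  refine ⟨(mem_normalizer_iff.1 (hk hx) v).1 hv.1, mul_mem (mul_mem hx hv.2.1) (inv_mem hx), fun y hy => ?_⟩
  rw [show ⁅x * v * x⁻¹, y⁆ = x * ⁅v, x⁻¹ * y * x⁻¹⁻¹⁆ * x⁻¹ by simp only [commutatorElement_def]; group]
  exact (mem_normalizer_iff.1 (hl hx) _).1 (hv.2.2 _ ((mem_normalizer_iff.1 (ha (inv_mem hx)) y).1 hy))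

/-- **the bound from an invariant flag** -/
theorem card_flag (h : PC p g n m) (hc : p ^ n ≤ Nat.card (V g n 0)) (Q : Sylow p Γ) (hQ : (Q : Subgroup Γ) = V g n 0)
    (hC : IsPGroup p (centralizer ((Q : Subgroup Γ) : Set Γ)))
    (hN : ∀ k ≤ m, normalizer (V g n 0 : Set Γ) ≤ normalizer (V g n k : Set Γ)) :
    Nat.card (normalizer (V g n 0 : Set Γ)) ≤ p ^ n * (p - 1) ^ m := by
  let β : Fin m → Type := fun i => {c : V g n i ⧸ (V g n (i + 1)).subgroupOf (V g n i) // c ≠ ((1 : V g n i) : _)}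
  have hn : ∀ i : Fin m, (i : ℕ) < n := fun i => i.2.trans_le h.le
  have h1 : ∀ i, Nat.card (β i) = p - 1 := fun i => by
    have h2 := ((V g n (i + 1)).subgroupOf (V g n i)).card_mul_index
    rw [Nat.card_congr (subgroupOfEquivOfLe (V_mono (Nat.le_succ i))).toEquiv, h.card_succ hc (hn i)] at h2
    rw [← Nat.eq_of_mul_eq_mul_left Nat.card_pos h2]
    classical
    have := Fintype.ofFinite (V g n i ⧸ (V g n (i + 1)).subgroupOf (V g n i))
    rw [index, Nat.card_eq_fintype_card (α := _ ⧸ _), ← Set.card_ne_eq (QuotientGroup.mk 1),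
      ← Nat.card_eq_fintype_card]
    rfl
  have h2 : ∀ (x : normalizer ((Q : Subgroup Γ) : Set Γ)) (k : ℕ), k ≤ m → (x : Γ) ∈ normalizer (V g n k : Set Γ) :=
    fun x k hk => hN k hk (hQ ▸ x.2)
  have h3 := Up.card_le Q (β := ∀ i, β i) (fun x i => ⟨((⟨x * g i * (x : Γ)⁻¹,
    (mem_normalizer_iff.1 (h2 x i i.2.le) _).1 (mem_V le_rfl (hn i))⟩ : V g n i) : _), fun e => h.not_mem hc (hn i)
      ((mem_normalizer_iff.1 (h2 x _ i.2) _).2 (by simpa only [mem_subgroupOf, _root_.Nat.succ_eq_add_one, _root_.Sylow.coe_coe, _root_.inv_one, _root_.one_mul] using QuotientGroup.eq.1 e.symm))⟩)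
    fun x x' e => Up.mem_of_chain Q hC (x⁻¹ * x').2 (fun i => V g n (min i m)) m (hQ.le.trans (V_mono (by omega)))
      (by rw [hQ, h.comm_eq, min_self]) (fun i => V_mono (by omega)) fun i a ha _ => by
        rcases lt_or_ge i m with hi | hi
        · rw [min_eq_left hi.le] at ha
          rw [min_eq_left (Nat.succ_le_of_lt hi), ← commutatorElement_def, ← commutatorElement_inv]
          refine inv_mem ((V_succ (H := Cz (hN _ hi) {((x⁻¹ * x' : _) : Γ)}) i ⟨V_le_norm (mem_V le_rfl (hn ⟨i, hi⟩)), ?_⟩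
            (fun v hv => ⟨V_le_norm hv, ?_⟩) ha).2 _ rfl)
          · rintro _ rfl
            have h4 := mem_subgroupOf.1 (QuotientGroup.eq.1 (congrArg Subtype.val (congrFun e ⟨i, hi⟩)))
            have h5 := (mem_normalizer_iff.1 (mul_mem (hN _ hi (V_le_norm (mem_V le_rfl (hn ⟨i, hi⟩))))
              (h2 x⁻¹ _ hi)) _).1 (inv_mem h4)
            refine (congrArg (· ∈ V g n (i + 1)) ?_).mp h5
            simp only [commutatorElement_def, coe_mul, coe_inv]
            group
          · rintro _ rfl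
            rw [commutatorElement_def, mul_assoc, mul_assoc, ← mul_assoc _ v⁻¹]
            exact mul_mem hv ((mem_normalizer_iff.1 (h2 _ _ hi) _).1 (inv_mem hv))
        · rw [min_eq_right hi] at ha
          rw [min_eq_right (hi.trans i.le_succ)]
          exact mul_mem ((mem_normalizer_iff.1 (h2 _ _ le_rfl) _).1 ha) (inv_mem ha)
  rwa [Nat.card_pi, Finset.prod_congr rfl fun i _ => h1 i, Finset.prod_const, Finset.card_univ, Fintype.card_fin, hQ,
    h.card_zero hc] at h3

end Cfsg.Agent.MO.S.Pc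
end

-- part: MO/S/B/Tri
section
/-!
# MO, small rows: triangular frames (helper47)

* `k0_le_cent`, `k0_norm_le` : the column bound; `k0_tight` : a quotient which reaches the bound;
* `Ut`, `Un` : triangular and unitriangular matrices; `ut_of_conj` : a uniserial module;
* `Fm.sylow` : the unitriangular elements form a Sylow subgroup, the triangular ones its normaliser;
* `dg`, `af` : the homomorphisms given by the diagonal and by its blocks of size two; `count`;
* `lk_of_torus`, `comm_sq`, `comm_cert` : covers.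
-/

set_option autoImplicit false

namespace Cfsg.Agent.MO.S.B

open Cfsg Subgroup Cfsg.Agent.MO.T Cfsg.Agent.ODD.Red Cfsg.Agent.Characters Cfsg.Agent.Characters.Core
open Cfsg.Agent.MO.S.M35 (Aff)
open scoped commutatorElement Pointwise

variable {p : ℕ} {G A : Type} [Group G] [Group A]

/-! ### the column bound -/

/-- **the column bound** -/
theorem k0_le_cent [Finite G] [hp : Fact p.Prime] {u : G} {j : ℕ} (hu : u ^ p ^ j = 1) :
    k0 p G ≤ Nat.card (centralizer ({u} : Set G)) := by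
  classical
  have := Fintype.ofFinite G
  have := finite_irr (G := G)
  have := Fintype.ofFinite (IrrCharacter G)
  let C : Finset (IrrCharacter G) := {χ | ¬ p ∣ charDegree χ.1}
  let X : Finset G := {g | zpowers g = zpowers u}
  have hA : k0 p G = C.card := by
    rw [k0, ← Fintype.card_coe, ← Nat.card_eq_fintype_card]
    exact Nat.card_congr
      { toFun := fun χ => ⟨⟨χ.1, χ.2.1⟩, Finset.mem_filter.2 ⟨Finset.mem_univ _, χ.2.2⟩⟩
        invFun := fun χ => ⟨χ.1.1, χ.1.2, (Finset.mem_filter.1 χ.2).2⟩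
        left_inv := fun _ => rfl
        right_inv := fun _ => rfl }
  have hX : ∀ g ∈ X, g ^ p ^ j = 1 := fun g hg => by
    obtain ⟨k, rfl⟩ : g ∈ zpowers u := (Finset.mem_filter.1 hg).2 ▸ mem_zpowers g
    beta_reduce
    rw [← zpow_natCast, ← zpow_mul, mul_comm, zpow_mul, zpow_natCast, hu, one_zpow]
  have h1 : ∀ χ ∈ C, (X.card : ℝ) ≤ ∑ g ∈ X, ‖χ.1 g‖ ^ 2 := fun χ hχ => by
    have h2 := OddOrderCharacters.PF13.SumBound.card_le_sum_sq (Finset.univ : Finset Unit) (fun _ => χ.1)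
      (fun _ _ => OddOrderCharacters.VChar.gen_of_char (isIrr_isCharacter χ.2)) X (fun g hg k hk => by
        rw [Finset.mem_filter] at hg ⊢
        refine ⟨Finset.mem_univ _, hg.2 ▸ le_antisymm (zpowers_le.2 (pow_mem (mem_zpowers g) k)) (zpowers_le.2 ?_)⟩
        exact mem_zpowers_pow_iff.2 (hk.coprime_dvd_right (_root_.orderOf_dvd_natCard g))) fun g hg => ⟨(), Finset.mem_univ _,
      fun e => (Finset.mem_filter.1 hχ).2 (S4558.result p χ.1 (isIrr_isCharacter χ.2) g
        (((Nat.dvd_prime_pow hp.out).1 (orderOf_dvd_of_pow_eq_one (hX g hg))).imp fun _ h => h.2) e)⟩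
    simpa only [_root_.ge_iff_le, _root_.Finset.univ_unique, _root_.PUnit.default_eq_unit, _root_.Finset.sum_const, _root_.Finset.card_singleton, _root_.one_smul] using h2
  have h2 : ∀ g ∈ X, ∑ χ ∈ C, ‖χ.1 g‖ ^ 2 ≤ (Nat.card (centralizer ({u} : Set G)) : ℝ) := fun g hg => by
    have h3 := S0145.sum_irr_mul_conj g g
    rw [if_pos (IsConj.refl g), ← centralizer_closure, ← zpowers_eq_closure,
      (Finset.mem_filter.1 hg).2, zpowers_eq_closure, centralizer_closure] at h3
    simp_rw [Complex.mul_conj, Complex.normSq_eq_norm_sq] at h3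
    have h4 : ∑ χ : IrrCharacter G, ‖χ.1 g‖ ^ 2 = (Nat.card (centralizer ({u} : Set G)) : ℝ) := by exact_mod_cast h3
    rw [← h4]
    exact Finset.sum_le_sum_of_subset_of_nonneg (Finset.subset_univ _) fun _ _ _ => by positivity
  have h3 : (X.card : ℝ) * C.card ≤ X.card * Nat.card (centralizer ({u} : Set G)) := by
    have h4 := Finset.sum_le_sum h2
    rw [Finset.sum_comm, Finset.sum_const, nsmul_eq_mul] at h4
    have h5 := Finset.sum_le_sum h1
    rw [Finset.sum_const, nsmul_eq_mul, mul_comm] at h5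
    exact h5.trans h4
  rw [hA]
  exact_mod_cast le_of_mul_le_mul_left h3
    (Nat.cast_pos.2 (Finset.card_pos.2 ⟨u, Finset.mem_filter.2 ⟨Finset.mem_univ _, rfl⟩⟩))

/-- the column bound for the normaliser of a Sylow subgroup -/
theorem k0_norm_le [Finite G] [hp : Fact p.Prime] (Q : Sylow p G) {u : G} {j : ℕ} (hu : u ^ p ^ j = 1) :
    k0 p (normalizer ((Q : Subgroup G) : Set G)) ≤ Nat.card (centralizer ({u} : Set G)) := by
  have h1 : IsPGroup p (zpowers u) := by
    rintro ⟨_, k, rfl⟩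
    refine ⟨j, Subtype.ext ?_⟩
    change (u ^ k) ^ p ^ j = 1
    rw [← zpow_natCast, ← zpow_mul, mul_comm, zpow_mul, zpow_natCast, hu, one_zpow]
  obtain ⟨R, hR⟩ := h1.exists_le_sylow
  obtain ⟨g, rfl⟩ := MulAction.exists_smul_eq G Q R
  obtain ⟨v, hv, rfl⟩ : u ∈ (Q : Subgroup G).map (MulAut.conj g).toMonoidHom := hR (mem_zpowers u)
  have h2 : v ^ p ^ j = 1 := (MulAut.conj g).injective (by rw [map_pow, map_one]; exact hu)
  refine (k0_le_cent (u := ⟨v, le_normalizer hv⟩) (Subtype.ext h2)).trans (Nat.card_le_card_of_injective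
    (fun x => ⟨MulAut.conj g x.1.1, mem_centralizer_singleton_iff.2 ?_⟩) fun a b e => ?_)
  · have h3 : (x.1.1 : G) * v = v * x.1.1 := congrArg Subtype.val (mem_centralizer_singleton_iff.1 x.2)
    exact (map_mul _ _ _).symm.trans ((congrArg _ h3).trans (map_mul _ _ _))
  · exact Subtype.ext (Subtype.ext ((MulAut.conj g).injective (congrArg Subtype.val e)))

/-- a quotient which reaches the bound -/
theorem k0_tight [Finite G] [hp : Fact p.Prime] (Φ : G →* A) (hΦ : Function.Surjective Φ) (h : k0 p G ≤ k0 p A) :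
    k0 p G = k0 p A ∧ ∀ (B : Type) [CommGroup B] [Finite B] (μ : G →* B) (g : G), Φ g = 1 → μ g = 1 := by
  have := finite_pi' (p := p) (G := G)
  let F : {χ // PI p A χ} → {χ // PI p G χ} := fun χ => ⟨fun x => χ.1 (Φ x), pi_comp Φ hΦ χ.2⟩
  have h1 : Function.Injective F := fun a b e => Subtype.ext (hΦ.injective_comp_right (congrArg Subtype.val e))
  have h2 := h1.bijective_of_nat_card_le h
  refine ⟨(Nat.card_eq_of_bijective F h2).symm, fun B _ _ μ g hg => ?_⟩
  by_contra h3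
  obtain ⟨ν, hν⟩ := CommGroup.exists_apply_ne_one_of_hasEnoughRootsOfUnity B ℂ h3
  obtain ⟨χ, hχ⟩ := h2.2 ⟨fun x => (ν.comp μ x : ℂ), Linear.isIrrCharacter_hom _, by
    rw [charDegree_of (n := 1) (by simp only [_root_.MonoidHom.coe_comp, _root_.Function.comp_apply, _root_.map_one, _root_.Units.val_one, _root_.Nat.cast_one])]
    exact hp.out.not_dvd_one⟩
  have h4 : ∀ x, χ.1 (Φ x) = (ν (μ x) : ℂ) := congrFun (congrArg Subtype.val hχ)
  exact hν (Units.ext (by rw [← h4, hg, ← map_one Φ, h4, map_one, map_one]))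

/-! ### triangular matrices -/

section mat

variable {n : ℕ} {R : Type} [CommRing R] {X Y : Matrix (Fin n) (Fin n) R}

/-- upper triangular -/
def Ut (X : Matrix (Fin n) (Fin n) R) : Prop := ∀ i j, j < i → X i j = 0

/-- unitriangular -/
def Un (X : Matrix (Fin n) (Fin n) R) : Prop := Ut X ∧ ∀ i, X i i = 1

theorem Ut.one : Ut (1 : Matrix (Fin n) (Fin n) R) := fun _ _ h => Matrix.one_apply_ne h.ne'

theorem Un.one : Un (1 : Matrix (Fin n) (Fin n) R) := ⟨Ut.one, Matrix.one_apply_eq⟩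

theorem Ut.mul (hX : Ut X) (hY : Ut Y) : Ut (X * Y) := fun i j h => by
  rw [Matrix.mul_apply]
  refine Finset.sum_eq_zero fun k _ => ?_
  rcases lt_or_ge k i with h1 | h1
  · rw [hX i k h1, zero_mul]
  · rw [hY k j (h.trans_le h1), mul_zero]

theorem Ut.diag (hX : Ut X) (hY : Ut Y) (i : Fin n) : (X * Y) i i = X i i * Y i i := by
  rw [Matrix.mul_apply]
  refine Finset.sum_eq_single i (fun k _ hk => ?_) fun h => absurd (Finset.mem_univ i) h
  rcases lt_or_gt_of_ne hk with h1 | h1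
  · rw [hX i k h1, zero_mul]
  · rw [hY k i h1, mul_zero]

theorem Ut.sup (hX : Ut X) (hY : Ut Y) {k l : Fin n} (h : l.val = k.val + 1) :
    (X * Y) k l = X k k * Y k l + X k l * Y l l := by
  rw [Matrix.mul_apply]
  refine Finset.sum_eq_add_of_mem k l (Finset.mem_univ _) (Finset.mem_univ _) (fun e => by omega) fun c _ hc => ?_
  rcases lt_or_gt_of_ne hc.1 with h1 | h1
  · rw [hX k c h1, zero_mul]
  · rw [hY c l (by have := hc.2; omega), mul_zero]

theorem Un.mul (hX : Un X) (hY : Un Y) : Un (X * Y) :=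
  ⟨hX.1.mul hY.1, fun i => by rw [hX.1.diag hY.1, hX.2, hY.2, mul_one]⟩

theorem Un.pow_eq [hp : Fact p.Prime] {X : Matrix (Fin n) (Fin n) (ZMod p)} (hX : Un X) : X ^ p ^ n = 1 := by
  rcases Nat.eq_zero_or_pos n with rfl | hn
  · exact Subsingleton.elim _ _
  have : Nonempty (Fin n) := ⟨⟨0, hn⟩⟩
  have h1 := X.aeval_self_charpoly
  rw [X.charpoly_of_isUpperTriangular fun i j h => hX.1 i j h] at h1
  simp only [hX.2, Finset.prod_const, Finset.card_univ, Fintype.card_fin, map_pow, map_sub, Polynomial.aeval_X,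
    map_one] at h1
  have h2 := add_pow_char_pow_of_commute p n (Commute.one_right (X - 1))
  rw [sub_add_cancel, one_pow, pow_eq_zero_of_le (Nat.lt_pow_self hp.out.one_lt).le h1, zero_add] at h2
  exact h2

/-- **a uniserial module** -/
theorem ut_of_conj [NoZeroDivisors R] {M : Matrix (Fin n) (Fin n) R}
    (h : ∀ k l : Fin n, l.val = k.val + 1 → ∃ X Y, Un X ∧ Un Y ∧ Y * M = M * X ∧ X k l ≠ 0) : Ut M := by
  intro i
  induction i using WellFoundedGT.induction with
  | ind i ih =>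
  intro j
  induction j using WellFoundedLT.induction with
  | ind j jh =>
  intro hj
  let l : Fin n := ⟨j + 1, by omega⟩
  have hl : l.val = j.val + 1 := rfl
  obtain ⟨X, Y, hX, hY, e, h0⟩ := h j l hl
  have h1 : (Y * M) i l = M i l := by
    rw [Matrix.mul_apply, Finset.sum_eq_single i (fun k _ hk => ?_) fun h => absurd (Finset.mem_univ i) h, hY.2, one_mul]
    rcases lt_or_gt_of_ne hk with h1 | h1
    · rw [hY.1 i k h1, zero_mul]
    · rw [ih k h1 l (by omega), mul_zero]
  have h2 : (M * X) i l = M i j * X j l + M i l := by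
    rw [Matrix.mul_apply, Finset.sum_eq_add_of_mem j l (Finset.mem_univ _) (Finset.mem_univ _) (fun e => by omega)
      fun c _ hc => ?_, hX.2, mul_one]
    rcases lt_or_gt_of_ne hc.1 with h1 | h1
    · rw [jh c h1 (h1.trans hj), zero_mul]
    · rw [hX.1 c l (by have := hc.2; omega), mul_zero]
  rw [e, h2, add_eq_right] at h1
  exact (mul_eq_zero.1 h1).resolve_right h0

end mat

/-! ### frames -/

/-- a submonoid of a finite group -/
def sub [Finite G] (S : Submonoid G) : Subgroup G :=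
  { S with
    inv_mem' := fun {g} h => by
      rw [← eq_inv_of_mul_eq_one_left (a := g ^ (orderOf g - 1)) (b := g)
        (by rw [← pow_succ, Nat.sub_add_cancel (orderOf_pos g), pow_orderOf_eq_one])]
      exact S.pow_mem h _ }

section frame

variable {n : ℕ} {K : Subgroup G}

/-- the unitriangular elements -/
def UU [Finite G] (ρ : K →* Matrix (Fin n) (Fin n) (ZMod p)) : Subgroup G :=
  (sub { carrier := {g | Un (ρ g)}
         one_mem' := by change Un (ρ 1); rw [map_one]; exact Un.one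
         mul_mem' := fun {a b} ha hb => by change Un (ρ (a * b)); rw [map_mul]; exact Un.mul ha hb }).map K.subtype

theorem mem_UU [Finite G] {ρ : K →* Matrix (Fin n) (Fin n) (ZMod p)} {g : K} : (g : G) ∈ UU ρ ↔ Un (ρ g) :=
  mem_map_iff_mem K.subtype_injective

theorem UU_le [Finite G] (ρ : K →* Matrix (Fin n) (Fin n) (ZMod p)) : UU ρ ≤ K := map_subtype_le _

/-- a frame at `y` in a basis in which a Sylow subgroup is unitriangular -/
structure Fm (p : ℕ) {n : ℕ} (y : G)
    (ρ : normalizer ((zpowers y : Subgroup G) : Set G) →* Matrix (Fin n) (Fin n) (ZMod p)) : Prop where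
  oy : orderOf y = p
  ker : ∀ g, ρ g = 1 ↔ (g : G) ∈ zpowers y
  cen : ∀ s, Un (ρ s) → (∀ g, Un (ρ g) → g * s = s * g) → (s : G) ∈ zpowers y
  reg : ∀ k l : Fin n, l.val = k.val + 1 → ∃ g, Un (ρ g) ∧ ρ g k l ≠ 0

variable [Finite G] [hp : Fact p.Prime] {y : G}
  {ρ : normalizer ((zpowers y : Subgroup G) : Set G) →* Matrix (Fin n) (Fin n) (ZMod p)}

theorem Fm.pU (h : Fm p y ρ) : IsPGroup p (UU ρ) := by
  rintro ⟨_, g, hg, rfl⟩
  obtain ⟨k, hk⟩ := (h.ker (g ^ p ^ n)).1 (by rw [map_pow]; exact Un.pow_eq hg)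
  refine ⟨n + 1, Subtype.ext ?_⟩
  change (g : G) ^ p ^ (n + 1) = 1
  rw [pow_succ, pow_mul, ← coe_pow, ← hk, ← zpow_natCast, ← zpow_mul, mul_comm, zpow_mul, zpow_natCast, ← h.oy,
    pow_orderOf_eq_one, one_zpow]

theorem Fm.norm_le (h : Fm p y ρ) :
    normalizer ((UU ρ : Subgroup G) : Set G) ≤ normalizer ((zpowers y : Subgroup G) : Set G) := by
  have h1 : UU ρ ⊓ centralizer (UU ρ : Set G) ≤ zpowers y := by
    rintro _ ⟨⟨s, hs, rfl⟩, h2⟩
    exact h.cen s hs fun g hg => Subtype.ext (h2 g (mem_UU.2 hg))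
  have hy : y ∈ UU ρ := mem_UU (g := ⟨y, le_normalizer (mem_zpowers y)⟩).2 (by
    rw [(h.ker _).2 (mem_zpowers y)]
    exact Un.one)
  have : Nontrivial (UU ρ) := ⟨⟨y, hy⟩, 1, fun e => hp.out.ne_one (by
    rw [← h.oy, show y = 1 from congrArg Subtype.val e, orderOf_one])⟩
  obtain ⟨z, hz⟩ := @exists_ne _ h.pU.center_nontrivial 1
  have h2 : (z.1 : G) ∈ UU ρ ⊓ centralizer (UU ρ : Set G) :=
    ⟨z.1.2, fun g hg => congrArg Subtype.val (mem_center_iff.1 z.2 ⟨g, hg⟩)⟩
  have h3 : Nat.card (zpowers y) = p := (Nat.card_zpowers y).trans h.oy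
  have h4 : UU ρ ⊓ centralizer (UU ρ : Set G) = zpowers y := by
    refine eq_of_le_of_card_ge h1 ?_
    rcases (Nat.dvd_prime hp.out).1 (h3 ▸ card_dvd_of_le h1) with e | e
    · exact absurd (Subtype.ext (Subtype.ext (mem_bot.1 (card_eq_one.1 e ▸ h2)))) hz
    · rw [h3, e]
  exact (Pc.normalizer_le_cen (UU ρ)).trans (le_of_eq (by rw [h4]))

theorem Fm.ut (h : Fm p y ρ) {g : normalizer ((zpowers y : Subgroup G) : Set G)}
    (hg : (g : G) ∈ normalizer ((UU ρ : Subgroup G) : Set G)) : Ut (ρ g) := by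
  refine ut_of_conj fun k l hl => ?_
  obtain ⟨x, h1, h2⟩ := h.reg k l hl
  refine ⟨ρ x, ρ (g * x * g⁻¹), h1, mem_UU.1 ((mem_normalizer_iff.1 hg _).1 (mem_UU.2 h1)), ?_, h2⟩
  rw [← map_mul, ← map_mul, inv_mul_cancel_right]

theorem mem_norm {ρ : K →* Matrix (Fin n) (Fin n) (ZMod p)} {g : K} (hg : Ut (ρ g)) :
    (g : G) ∈ normalizer ((UU ρ : Subgroup G) : Set G) := by
  let T : Subgroup K := sub
    { carrier := {g | Ut (ρ g)}
      one_mem' := by change Ut (ρ 1); rw [map_one]; exact Ut.one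
      mul_mem' := fun {a b} ha hb => by change Ut (ρ (a * b)); rw [map_mul]; exact Ut.mul ha hb }
  have h1 : Ut (ρ g⁻¹) := T.inv_mem hg
  refine mem_normalizer_fintype ?_
  rintro _ ⟨x, hx, rfl⟩
  refine (mem_UU (g := g * x * g⁻¹)).2 ?_
  rw [map_mul, map_mul]
  refine ⟨(hg.mul hx.1).mul h1, fun i => ?_⟩
  rw [(hg.mul hx.1).diag h1, hg.diag hx.1, hx.2, mul_one, ← hg.diag h1, ← map_mul, mul_inv_cancel, map_one,
    Matrix.one_apply_eq]

omit [Finite G] in
theorem nd_index {U : Subgroup G} (hU : IsPGroup p U) [Finite U] {a m : ℕ} (hG : Nat.card G = p ^ (a + 1) * m)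
    (hm : ¬ p ∣ m) (h : p ^ a < Nat.card U) : ¬ p ∣ U.index := by
  obtain ⟨k, hk⟩ := hU.exists_card_eq
  rw [hk, Nat.pow_lt_pow_iff_right hp.out.one_lt] at h
  obtain ⟨d, rfl⟩ := Nat.exists_eq_add_of_le (Nat.succ_le_of_lt h)
  rw [← U.card_mul_index, hk, pow_add, mul_assoc] at hG
  exact nd_of_dvd hm ⟨p ^ d, by rw [← Nat.eq_of_mul_eq_mul_left (pow_pos hp.out.pos _) hG, mul_comm]⟩

end frame

/-! ### homomorphisms -/

section hom

variable {n : ℕ} {σ : G →* Matrix (Fin n) (Fin n) (ZMod p)} (h : ∀ g, Ut (σ g))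

/-- a diagonal entry -/
def dg (i : Fin n) : G →* (ZMod p)ˣ :=
  MonoidHom.toHomUnits
    { toFun := fun g => σ g i i
      map_one' := by rw [map_one, Matrix.one_apply_eq]
      map_mul' := fun a b => by rw [map_mul, (h a).diag (h b)] }

theorem dg_val (i : Fin n) (g : G) : (dg h i g : ZMod p) = σ g i i := rfl

/-- a block of size two -/
def af {k l : Fin n} (hl : l.val = k.val + 1) : G →* Aff p :=
  MonoidHom.mk' (fun g => ⟨dg h k g * (dg h l g)⁻¹, σ g k l * ((dg h l g)⁻¹ : (ZMod p)ˣ)⟩) fun a b => Aff.ext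
    (by rw [Aff.mul_a, map_mul, map_mul, mul_inv, mul_mul_mul_comm])
    (by
      rw [Aff.mul_b]
      dsimp only
      rw [map_mul σ, map_mul, mul_inv, (h a).sup (h b) hl, ← dg_val h, ← dg_val h, Units.val_mul, Units.val_mul]
      linear_combination σ a k l * ((dg h l a)⁻¹ : (ZMod p)ˣ) * (dg h l b).mul_inv)

theorem af_eq {k l : Fin n} (hl : l.val = k.val + 1) {g : G} {x : Aff p} (h1 : σ g k k = x.a * σ g l l)
    (h2 : σ g k l = x.b * σ g l l) : af h hl g = x :=
  Aff.ext (mul_inv_eq_iff_eq_mul.2 (Units.ext h1)) ((Units.mul_inv_eq_iff_eq_mul _).2 h2)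

end hom

/-- **the count** : `Φ` maps the normaliser onto a group `A` which reaches the column bound -/
theorem count [Finite G] [hp : Fact p.Prime] {n : ℕ} (Q : Sylow p G)
    {σ : normalizer ((Q : Subgroup G) : Set G) →* Matrix (Fin n) (Fin n) (ZMod p)} (h : ∀ g, Ut (σ g))
    (hQ : ∀ g, Un (σ g) → (g : G) ∈ (Q : Subgroup G)) (Φ : normalizer ((Q : Subgroup G) : Set G) →* A)
    (hΦ : Function.Surjective Φ) {u : G} {j : ℕ} (hu : u ^ p ^ j = 1)
    (hc : Nat.card (centralizer ({u} : Set G)) ≤ k0 p A) :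
    k0 p (normalizer ((Q : Subgroup G) : Set G)) = k0 p A ∧ ∀ g, Φ g ^ p = 1 → (g : G) ∈ (Q : Subgroup G) := by
  obtain ⟨h1, h2⟩ := k0_tight Φ hΦ ((k0_norm_le Q hu).trans hc)
  refine ⟨h1, fun g hg => Up.mem_of_pow Q g.2 (k := 1) ?_⟩
  rw [pow_one]
  exact hQ (g ^ p) ⟨h _, fun i => congrArg Units.val (h2 _ (dg h i) _ (by rw [map_pow, hg]))⟩

/-! ### covers -/

section cov

variable {X S : Type} [Group X] [Group S] {φ : X →* S} {r : ℕ}

/-- **the lifts of the torus commute** -/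
theorem lk_of_torus [hp : Fact p.Prime] (hr : ¬ p ∣ r) (Q : Sylow p S) (H : Set S)
    (hH : H ⊆ normalizer ((Q : Subgroup S) : Set S)) (hN : normalizer ((Q : Subgroup S) : Set S) ≤ (Q : Subgroup S) ⊔ _root_.Subgroup.closure H)
    (hc : ∀ (X : Type) [Group X] [Finite X] (φ : X →* S), Cv r φ → ∀ x y, φ x ∈ H → φ y ∈ H → Commute x y) {c : ℕ}
    (hk : k0 p (normalizer ((Q : Subgroup S) : Set S)) = c) : LK p r S c := by
  intro X _ _ φ v _
  obtain ⟨R, rfl⟩ := Sylow.mapSurjective_surjective v.surj p Q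
  have key : ∀ x, (∀ y, φ y ∈ H → Commute x y) → ∀ s ∈ _root_.Subgroup.closure H, ∀ y, φ y = s → Commute x y := fun x hx s hs => by
    induction hs using closure_induction with
    | mem s hs => exact fun y e => hx y (e ▸ hs)
    | one => exact fun y e => mem_center_iff.1 (v.ker.le e) x
    | mul s t _ _ h1 h2 =>
      intro y e
      obtain ⟨w, rfl⟩ := v.surj s
      rw [← mul_inv_cancel_left w y]
      exact (h1 w rfl).mul_right (h2 _ (by rw [map_mul, map_inv, e, inv_mul_cancel_left]))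
    | inv s _ h1 => exact fun y e => Commute.inv_right_iff.1 (h1 y⁻¹ (by rw [map_inv, e, inv_inv]))
  have h1 : ∀ x y, φ x ∈ closure H → φ y ∈ closure H → Commute x y := fun x y hx hy =>
    key x (fun w hw => (key w (fun t ht => hc X φ v w t hw ht) _ hx x rfl).symm) _ hy y rfl
  have h2 := map_normalizer φ v.surj R
  have h3 : ∀ x ∈ normalizer ((R : Subgroup X) : Set X), ∃ q ∈ (R : Subgroup X), φ (q⁻¹ * x) ∈ closure H := fun x hx => by
    have h4 : φ x ∈ ((((R : Subgroup X).map φ) ⊔ closure H : Subgroup S) : Set S) := hN (h2.le (mem_map_of_mem φ hx))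
    rw [coe_mul_of_right_le_normalizer_left ((R : Subgroup X).map φ) _ ((closure_le _).2 hH)] at h4
    obtain ⟨_, ⟨q, hq, rfl⟩, t, ht, e⟩ := h4
    exact ⟨q, hq, by rwa [map_mul, map_inv, ← e, inv_mul_cancel_left]⟩
  have h4 : ⁅normalizer ((R : Subgroup X) : Set X), normalizer ((R : Subgroup X) : Set X)⁆ ≤ (R : Subgroup X) :=
    commutator_le.2 fun x hx y hy => by
      obtain ⟨q, hq, e1⟩ := h3 x hx
      obtain ⟨w, hw, e2⟩ := h3 y hy
      have e3 := (h1 _ _ e1 e2).eq
      have e4 : ⁅x, y⁆ = x * w * x⁻¹ * (q * (w⁻¹ * (y * q⁻¹ * y⁻¹))) := by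
        rw [commutatorElement_def]
        calc _ = x * w * x⁻¹ * q * (q⁻¹ * x * (w⁻¹ * y)) * x⁻¹ * y⁻¹ := by group
          _ = _ := by rw [e3]; group
      rw [e4]
      exact mul_mem ((mem_normalizer_iff.1 hx w).1 hw) (mul_mem hq (mul_mem (inv_mem hw)
        ((mem_normalizer_iff.1 hy _).1 (inv_mem hq))))
  refine ⟨R, fun l hl => ?_⟩
  rw [Up.kk_of_comm φ v.ker (center_le_normalizer _) (fun z h5 h6 => ?_) hl, h2]
  · exact hk
  · obtain ⟨k, h7⟩ := R.isPGroup' ⟨z, h4 h6⟩
    have h8 : orderOf z ∣ r := v.card ▸ (center X).orderOf_dvd_natCard h5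
    exact orderOf_eq_one_iff.1 ((cop_pow (nd_of_dvd hr h8) k).symm.eq_one_of_dvd
      (orderOf_dvd_of_pow_eq_one (congrArg Subtype.val h7)))

theorem comm_of_eq (v : Cv r φ) {x x' y : X} (e : φ x' = φ x) (h : Commute x y) : Commute x' y := by
  rw [← mul_inv_cancel_left x x']
  exact h.mul_left (mem_center_iff.1 (v.ker.le (by
    rw [MonoidHom.mem_ker, map_mul, map_inv, e, inv_mul_cancel])) y).symm

/-- squares commute -/
theorem comm_sq (v : Cv 2 φ) {x y : X} (h : Commute (φ x) (φ y)) : Commute (x * x) y := by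
  have h1 : ⁅x, y⁆ ∈ center X := v.ker.le (by
    rw [MonoidHom.mem_ker, map_commutatorElement, commutatorElement_eq_one_iff_commute]
    exact h)
  have h2 : ⁅x, y⁆ * ⁅x, y⁆ = 1 := by
    rw [← pow_two, ← v.card]
    exact congrArg Subtype.val (pow_card_eq_one' (x := (⟨_, h1⟩ : center X)))
  have h3 : x * y = ⁅x, y⁆ * (y * x) := by rw [commutatorElement_def]; group
  change x * x * y = y * (x * x)
  rw [mul_assoc, h3, ← mul_assoc, mem_center_iff.1 h1 x, mul_assoc, ← mul_assoc x, h3, ← mul_assoc, ← mul_assoc, h2,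
    one_mul, mul_assoc]

/-- a certificate -/
theorem comm_cert (v : Cv 2 φ) {t c s : S} (h1 : Commute t c) (h2 : Commute s (t * t)) {x y : X} (hx : φ x = t * t)
    (hy : φ y = c * (s * s)) : Commute x y := by
  obtain ⟨t, rfl⟩ := v.surj t
  obtain ⟨c, rfl⟩ := v.surj c
  obtain ⟨s, rfl⟩ := v.surj s
  rw [← map_mul] at h2 hx hy
  rw [← map_mul] at hy
  exact comm_of_eq v hx (comm_of_eq v hy ((comm_sq v h1).symm.mul_left (comm_sq v h2))).symm

end cov

end Cfsg.Agent.MO.S.B
end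

private theorem dce_48fde922f9de : _root_.True := by
  try have : _root_.True := by simp only [_root_.Cfsg.Agent.MO.S.Suz6.pz.eq_1]
  try have : _root_.True := by simp only [_root_.Cfsg.Agent.MO.S.Pc.flC.eq_1]
  try have : _root_.True := by simp only [_root_.Cfsg.Agent.MO.S.Cov3.pr.eq_1]
  exact _root_.True.intro
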