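import Cfsg.Agent.MQ.S.B7.Mat
import Cfsg.Agent.MK.U43.Inv_m3
import Cfsg.Agent.MQ.A.Glob.Main
import Cfsg.Agent.MK.S7.Cov
import Cfsg.Agent.MK.S4.ZM_m3
import Cfsg.Agent.CpAut.TwoInnerB
import Cfsg.Agent.TAB.B.Fin.Cols_m3
import Cfsg.Agent.Lib.FinFast
import Cfsg.Agent.FastGrp
import Cfsg.Agent.Prune
set_option linter.all false
prune_inst 0x7f00000000000000000000000000000000000000000000000000000000000000000000000000000000000000000000000000000000000000000000000000000000000000000000000000000000000000003fffffffffffffffffffffffffffbeffbdfbfeffff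
open scoped Cfsg.Agent.FastGrp

-- part: MO/S/SuzL/L3
section
/-!
# MO, the Suzuki group : the normaliser `3 ^ 5 : 3 ^ 2 : SD16` of a Sylow `3`-subgroup (helper58)
-/

set_option autoImplicit false
set_option maxRecDepth 100000

namespace Cfsg.Agent.MO.S.SuzL

open Cfsg Subgroup Cfsg.Agent.MO.T Cfsg.Agent.MO.S.Pc Cfsg.Agent.MO.L
open Cfsg.Spor (Suz)
open Cfsg.Agent.KFacts.SuzRho (rho)
open Cfsg.Agent.SporadicRecognition.SuzOrder (el finiteSuz card_Suz)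
open Cfsg.Agent.MK.S.Pc (ev ev_nil ev_cons ev_append V V_le mem_V)

/-- the letters -/
def LW3 : List (List ℕ) := [
  [4, 3, 0, 1, 0, 1, 2, 3, 4, 1, 5, 6, 2, 3, 2, 1, 0, 1, 5, 6, 2, 3, 2, 1, 0, 1, 4, 3, 2, 3, 4, 1, 0, 1],
  [4, 3, 1, 0, 1, 2, 3, 4, 0, 1, 6, 5, 2, 3, 2, 1, 0, 1, 5, 6, 2, 3, 4, 2, 3, 1, 2, 3, 4, 0, 1, 0],
  [2, 1, 6, 0, 1, 2, 3, 2, 1, 5, 0, 1, 2, 3],
  [5, 1, 6, 3, 1, 2, 3, 1, 2, 0, 1, 5, 2, 1, 6, 2, 1, 6, 0, 1, 2, 3, 2, 1, 5, 0, 1, 2, 3, 1, 5, 6, 1, 5, 2, 1, 0, 1, 6, 3,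
    2, 1, 5, 6, 3, 1],
  [6, 5, 1, 6, 3, 2, 1, 0, 1, 5, 3, 2, 1, 6, 5, 2, 1, 6, 0, 1, 2, 3, 2, 1, 5, 0, 1, 2, 3, 1, 5, 1, 6, 3, 1, 2, 3, 1, 2, 0,
    1, 5, 2, 1, 6, 1],
  [5, 1, 6, 3, 1, 2, 3, 1, 2, 0, 1, 5, 2, 1, 6, 1, 6, 1, 5, 1, 2, 3, 1, 2, 0, 1, 6, 2, 1, 5, 3, 1],
  [5, 1, 6, 3, 1, 2, 3, 1, 2, 0, 1, 5, 2, 1, 6, 5, 1, 2, 0, 1, 5, 6, 3, 1, 2, 0, 1, 6, 3, 2, 1, 6, 0, 1, 2, 3, 2, 1, 5, 0,
    1, 2, 3],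
  [2, 3, 2, 5, 1, 6, 1, 2, 3, 2, 5, 1, 0, 1, 2, 3, 2, 5, 6], [1], [3]]

/-- the relations -/
def cert3 : Cert where
  pw := []
  cm := [[[], [], [4], [6], [5]], [[], [], [3], [5, 6], [6]]]
  dv := [([], [], []), ([], [], []), ([], [], []), ([1], [2], []), ([0], [2], []), ([0], [4], []), ([0], [3], [])]

/-- the chain of stabilizers -/
def lv3 : List (ℕ × List (List ℕ)) := [(61, [[], [0, 0], [2, 4, 4, 6], [1, 2, 6], [0, 0, 2, 5], [3, 4, 4, 6],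
  [0, 2, 2, 5, 6], [0, 0, 2, 2, 6, 6], [0, 0, 2, 2, 5, 5], [2, 2, 4, 6], [0, 4, 4, 5], [2, 3, 3, 4, 4, 6, 6], [4, 5, 5],
  [1, 1, 2, 4, 6, 6], [0, 0, 2, 2, 5, 6], [2, 5, 5, 6, 6], [1, 1, 2, 5, 5, 6, 6], [3, 3, 4, 4, 5], [2, 2, 3, 3, 5, 5],
  [0, 0, 1, 2], [0, 1, 2, 2, 4], [1, 2, 5], [3, 3, 4, 4, 6], [2, 2, 5, 6], [2, 5], [2, 2, 6], [1, 1, 3, 4, 5, 6],
  [2, 3, 4, 5, 5, 6], [0, 0, 2, 5, 5, 6, 6], [1, 1, 2, 3], [2, 2, 3, 4, 5, 5, 6, 6], [2, 2, 3, 3, 6], [0, 2, 5],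
  [2, 2, 3, 3, 4, 4], [0, 2, 2, 3, 3, 4, 4], [0, 4, 5, 5], [0, 2, 5, 5, 6, 6], [2, 2, 4, 5], [4, 4, 5], [1, 1, 5, 5, 6],
  [3, 4, 5], [0, 0, 1, 1, 3, 6], [2, 4, 5, 5], [3, 3, 5], [2, 2, 3, 3, 5], [2, 2, 5, 5], [1, 2, 2, 6, 6], [0, 0, 1],
  [2, 3, 4], [1, 2, 5, 5, 6, 6], [1, 2, 2, 3, 5, 5], [2, 4, 4, 5, 6], [1, 3, 5, 5, 6], [5, 6, 6], [2],
  [1, 3, 3, 4, 5, 5, 6], [2, 2, 3, 3, 4, 4, 5, 6, 6], [2, 2, 4, 4], [1], [0, 2, 6], [5, 5], [0, 0, 1, 1, 2, 2, 3, 3],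
  [1, 3, 4, 5, 6], [2, 2, 3, 6, 6], [0, 2, 2, 5, 5], [3, 5, 5, 6], [0, 0, 2, 6], [0, 2, 2], [0, 4, 4], [0, 0, 5, 5, 6],
  [2, 4, 4, 5, 5], [3, 3, 4], [4, 4, 6], [1, 1], [1, 1, 2, 6], [1, 1, 2, 2, 6, 6], [2, 3, 4, 5, 6, 6], [0, 2, 2, 3],
  [2, 4], [0, 1, 1, 2, 2, 5], [1, 1, 2, 5]]),
  (67, [[], [0, 3, 4], [0, 1, 3, 4, 4]]), (74, [[], [0, 1, 1, 3], [0, 0, 1, 3, 3, 5]]), (0, [[], [6], [6, 6]])]

/-- the action of the letter `7` -/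
def RA3 : List (List ℕ) := [[0, 1], [1, 1], [0, 0, 2, 0, 0, 2, 1], [0, 0, 0, 2, 2, 0, 2], [0, 0, 0, 2],
  [0, 0, 0, 0, 0, 2, 2], [0, 0, 0, 0, 0, 2, 1]]

/-- the action of the letter `8` -/
def RB3 : List (List ℕ) := [[1, 1], [0, 2], [0, 0, 1], [0, 0, 0, 2, 0, 1, 1], [0, 0, 0, 1, 1, 0, 1], [0, 0, 0, 0, 0, 2],
  [0, 0, 0, 0, 0, 2, 1]]

/-- the action of the outer automorphism -/
def RS3 : List (List ℕ) := [[1], [0, 1], [0, 0, 2], [0, 0, 0, 2], [0, 0, 0, 0, 2], [0, 0, 0, 0, 0, 2],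
  [0, 0, 0, 0, 0, 0, 2]]

/-- the enumeration of `N / Q` -/
def pg3 : List ℕ := [1, 1, 1, 1, 1, 0, 0, 0, 2, 1, 0, 0, 0, 2, 1, 1, 2, 0, 0, 0, 0, 0, 2, 1, 1, 2]

theorem syl3 : ∃ Q : Sylow 3 Suz, Syl 3 7 3 LW3 Q :=
  syl_of_chk (c := cert3) (lv := lv3) (o := 205004800) (by decide +kernel) (by decide +kernel) (by decide +kernel)
    (by norm_num) (by norm_num)

theorem ck3 : chkM 3 3 [RA3, RB3] (idM 3) pg3 16 18 = true := by decide +kernel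

theorem na3 : nrm (eqv LW3) 7 [7] RA3 = true := by decide +kernel

theorem nb3 : nrm (eqv LW3) 7 [8] RB3 = true := by decide +kernel

theorem ns3 : nrb LW3 7 [9] RS3 = true := by decide +kernel

variable {Q : Sylow 3 Suz} (h : Syl 3 7 3 LW3 Q)
include h

theorem bd3 : Nat.card (normalizer ((Q : Subgroup Suz) : Set Suz)) ≤ Nat.card (Q : Subgroup Suz) * 16 := by
  have : Fact (Nat.Prime 13) := ⟨by norm_num⟩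
  have h1 := Up.relIndex_dvd_GL Q (cen_3 h.card) h.idx h.exp
  have h2 := rel_mod Q (m := 205004800) (by rw [card_Suz, h.card]; norm_num)
  have h3 := not_dvd_norm Q (r := 13) (by rw [h.card]; norm_num) fun _ => not_39
  rw [card_norm] at h3 ⊢
  rw [show ∏ i : Fin 3, (3 ^ 3 - 3 ^ (i : ℕ)) = 13 * 864 by decide] at h1
  have h4 := (((Nat.Prime.coprime_iff_not_dvd this.out).2 fun e => h3 (e.mul_left _)).symm).dvd_of_dvd_mul_left h1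
  exact Nat.mul_le_mul_left _ ((by (refine of_decide_eq_true ?_; (try (rewrite [Cfsg.Agent.LsF.nmod_pat, Cfsg.Agent.LsF.instDecEq_eq, Cfsg.Agent.LsF.decLe_eq, Cfsg.Agent.LsF.dBallLE_eq, Cfsg.Agent.LsF.dAllP_eq, Cfsg.Agent.LsF.dDvd_eq, Cfsg.Agent.LsF.decide_eq])); decide +kernel) : ∀ r ≤ 864, r ∣ 864 → r % 3 = 205004800 % 3 → r ≤ 16) _
    (Nat.le_of_dvd (by norm_num) h4) h4 h2)

theorem ms3 {H : Subgroup Suz} (ha : lt LW3 7 ∈ H) (hb : lt LW3 8 ∈ H) : ∀ M ∈ [RA3, RB3],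
    ∃ g ∈ normalizer ((Q : Subgroup Suz) : Set Suz) ⊓ H, Mt 3 (Q : Subgroup Suz) (lt LW3) (fun x => g * x * g⁻¹) M :=
  List.forall_mem_cons.2 ⟨⟨_, ⟨(h.mt1 na3).1, ha⟩, (h.mt1 na3).2⟩,
    List.forall_mem_singleton.2 ⟨_, ⟨(h.mt1 nb3).1, hb⟩, (h.mt1 nb3).2⟩⟩

theorem kn3 : k0 3 (normalizer ((Q : Subgroup Suz) : Set Suz)) = 18 :=
  k0_norm h.loc (bd3 h) (fun M hM => (ms3 h (mem_top _) (mem_top _) M hM).imp fun _ e => ⟨e.1.1, e.2⟩) ck3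

theorem fn3 : fN 3 (normalizer ((Q : Subgroup Suz) : Set Suz)) (MulAut.conj (ev (lt LW3) [9]) * rho) = 12 :=
  fN_norm h.loc (bd3 h) (fun M hM => (ms3 h (mem_top _) (mem_top _) M hM).imp fun _ e => ⟨e.1.1, e.2⟩) (h.mtb ns3).1
    (h.mtb ns3).2 (prog := pg3) (by decide +kernel)

theorem dat3 : Dat 3 2 (Q : Subgroup Suz) (lt LW3 7) (lt LW3 8) 1 where
  ma := (h.mt1 na3).1
  mb := (h.mt1 nb3).1
  mu := one_mem _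
  gen _ h1 ha hb _ := gen_of_chk h.loc (bd3 h) h1 (ms3 h ha hb) ck3
  rel := by simpa only [ev, pow_succ, mul_assoc, _root_.Nat.reduceAdd, _root_.pow_zero, _root_.one_mul, _root_.List.map_cons, _root_.List.map_nil, _root_.List.prod_cons, _root_.List.prod_nil, _root_.mul_one] using he (LW := LW3) [8, 7] [7, 7, 7, 8] (by decide +kernel)
  sq := by simpa only [ev, _root_.List.map_cons, _root_.List.map_nil, _root_.List.prod_cons, _root_.List.prod_nil, _root_.mul_one] using he (LW := LW3) [8, 8] [] (by decide +kernel)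
  ord := orderOf_eq_prime_pow (p := 2) (n := 1)
    (by rw [← pow_mul, ← ev_replicate]; exact ne_one (by decide +kernel))
    (by rw [← pow_mul, ← ev_replicate]; exact he _ [] (by decide +kernel))
  cop := by norm_num

omit h

theorem sm_1_3 : SmC 3 1 Suz := by
  obtain ⟨Q, h⟩ := syl3
  refine smC_one_two (β := MulAut.conj (ev (lt LW3) [9]) * rho) (fun γ => ?_) fun _ =>
    ⟨Q, (h.mtb ns3).1, (kn3 h).trans k0_3.symm, by rw [fn3 h, f0_conj_mul, f0_3]⟩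
  obtain ⟨s, h1 | h1⟩ := out γ
  · exact ⟨s, Or.inl h1⟩
  · exact ⟨s * (ev (lt LW3) [9])⁻¹, Or.inr (by rw [h1, ← mul_assoc, ← map_mul, inv_mul_cancel_right])⟩

theorem lk_3_2 : LK 3 2 Suz 18 := syl3.elim fun _ h =>
  lk_of (a := wd LW3 7) (b := wd LW3 8) (u := []) (dat3 h) (by norm_num) (kn3 h) fun _ _ _ _ => by
    simp only [ev_nil, one_mul, mul_one, and_self]

theorem lf_3_2 : LF 3 2 Suz 12 := lf_of fun X _ _ φ v α h1 h2 => by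
  obtain ⟨Q, h⟩ := syl3
  obtain ⟨M⟩ := exists_mod v
  obtain ⟨P, hP⟩ := exists_lift v Q
  have h3 : ∀ x, φ ((MulAut.conj (ev M.y [3]) * α) x) = (MulAut.conj (ev (lt LW3) [9]) * rho) (φ x) := fun x => by
    rw [MulAut.mul_apply, MulAut.mul_apply, MulAut.conj_apply, MulAut.conj_apply, map_mul, map_mul, map_inv, h2, M.φ_ev,
      show ev (lt LW3) [9] = ev g0 [3] from mul_one _]
  have h4 := stab_lift v P h3 (hP ▸ fun y => ((h.mtb ns3).1 y).2)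
  have h5 : ∀ w r : List ℕ, (w.all (Nat.blt · 7) && (eqY ([3] ++ w.map sw) 0 (w ++ [3]) r &&
      eqb f1 [14, 98, 1, 1575, 0] ([3] ++ w.map sw) (w ++ [3]))) = true →
      (MulAut.conj (ev M.y [3]) * α) (ev M.y w) = ev M.y w := fun w r e => by
    rw [Bool.and_eq_true] at e
    rw [MulAut.mul_apply, M.aut_ev h2 e.1, MulAut.conj_apply, ← ev_append, M.eq e.2, pow_zero, one_mul, ev_append,
      mul_inv_cancel_right]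
  have D : Dat 3 2 ((P : Subgroup X).map φ) (φ (ev M.y (wd LW3 7))) (φ (ev M.y (wd LW3 8))) (φ 1) := by
    rw [M.φ_ev, M.φ_ev, map_one, hP]
    exact dat3 h
  refine ⟨P, ev M.y [3], h4, fun l hl => ?_⟩
  rw [D.fB_fix v P (by norm_num) (by simp) (by simp) rfl h3
    (fun z hz => by rw [MulAut.mul_apply, h1 z hz, MulAut.conj_apply, mem_center_iff.1 hz, mul_inv_cancel_right]) h4
    (h5 _ [5, 6, 2, 3, 2, 1, 0, 1, 6, 2, 3, 2, 1, 5, 1, 6, 2, 3, 2, 3] (by decide +kernel))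
    (h5 _ [1, 3, 7, 7, 7] (by decide +kernel)) (map_one _) hl, hP, fn3 h]

end Cfsg.Agent.MO.S.SuzL
end

-- part: MO/S/SuzL/L5
section
/-!
# MO, the Suzuki group : the normaliser `5 ^ 2 : (4 × S3)` of a Sylow `5`-subgroup (helper58)
-/

set_option autoImplicit false
set_option maxRecDepth 100000

namespace Cfsg.Agent.MO.S.SuzL

open Cfsg Subgroup Cfsg.Agent.MO.T Cfsg.Agent.MO.S.Pc Cfsg.Agent.MO.L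
open Cfsg.Spor (Suz)
open Cfsg.Agent.KFacts.SuzRho (rho)
open Cfsg.Agent.SporadicRecognition.SuzOrder (el finiteSuz card_Suz)
open Cfsg.Agent.MK.S.Pc (ev ev_nil ev_cons ev_append V V_le mem_V)

instance fact5 : Fact (Nat.Prime 5) := ⟨by norm_num⟩

/-- the letters -/
def LW5 : List (List ℕ) := [[1, 0, 1, 2, 3, 4, 2, 3, 0, 1, 2, 3, 4, 1, 2, 3, 1, 0, 1],
  [2, 3, 4, 2, 3, 0, 1, 2, 3, 4, 1, 2, 3], [1, 0, 1, 0, 2], [0, 2],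
  [4, 3, 2, 3, 6, 1, 2, 3, 2, 1, 6, 5, 1, 2, 3, 2, 1, 5, 6, 1, 2, 3, 2, 1, 6, 3, 2, 3]]

/-- the chain of stabilizers -/
def lv5 : List (ℕ × List (List ℕ)) := [(2, [[], [1], [1, 1], [0, 0], [0]]),
  (1, [[], [0, 0, 0, 1, 1, 1], [0, 1], [0, 0, 0, 0, 1, 1, 1, 1], [0, 0, 1, 1]])]

/-- the enumeration of `N / Q` -/
def pg5 : List ℕ := [1, 1, 3, 3, 3, 0, 0, 0, 0, 2, 3, 3, 3, 0, 0, 0, 0, 3, 3, 3, 0, 0, 0, 0, 2, 1, 3, 3, 3, 0, 0, 0, 0,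
  3, 3, 3, 0, 0, 0, 0, 3, 3, 3]

theorem syl5 : ∃ Q : Sylow 5 Suz, Syl 5 2 2 LW5 Q :=
  syl_of_chk (c := ⟨[], [], []⟩) (lv := lv5) (o := 17933819904) (by decide +kernel) (by decide +kernel)
    (by decide +kernel) (by norm_num) (by norm_num)

theorem ck5 : chkM 5 2 [[[4, 1], [4]], [[1, 4], [0, 4]], [[2], [0, 2]]] (idM 2) pg5 24 16 = true := by decide +kernel

theorem nt5 : nrm (eqv LW5) 2 [2] [[4, 1], [4]] = true := by decide +kernel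

theorem ns5 : nrm (eqv LW5) 2 [3] [[1, 4], [0, 4]] = true := by decide +kernel

theorem nu5 : nrm (eqv LW5) 2 [4] [[2], [0, 2]] = true := by decide +kernel

theorem rho5 : ∀ a < 5, rho (lt LW5 a) = lt LW5 a := fun a ha => by
  have h1 : ∀ a < 5, ((LW5.getD a []).all (Nat.blt · 7) && eqv LW5 [a + 100] [a]) = true := by decide +kernel
  have h2 := Bool.and_eq_true_iff.1 (h1 a ha)
  rw [rho_lt (by omega) h2.1]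
  exact mul_right_cancel ((he _ _ h2.2 :))

variable {Q : Sylow 5 Suz} (h : Syl 5 2 2 LW5 Q)
include h

theorem bd5 : Nat.card (normalizer ((Q : Subgroup Suz) : Set Suz)) ≤ Nat.card (Q : Subgroup Suz) * 24 := by
  have h1 := Up.relIndex_dvd_GL Q (cen_5 h.card) h.idx h.exp
  have h2 := rel_mod Q (m := 17933819904) (by rw [card_Suz, h.card]; norm_num)
  rw [card_norm]
  rw [show ∏ i : Fin 2, (5 ^ 2 - 5 ^ (i : ℕ)) = 480 by decide] at h1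
  exact Nat.mul_le_mul_left _ ((by decide +kernel : ∀ r ≤ 480, r ∣ 480 → r % 5 = 17933819904 % 5 → r ≤ 24) _
    (Nat.le_of_dvd (by norm_num) h1) h1 h2)

theorem ms5 {H : Subgroup Suz} (ha : lt LW5 2 ∈ H) (hb : lt LW5 3 ∈ H) (hu : lt LW5 4 ∈ H) :
    ∀ M ∈ [[[4, 1], [4]], [[1, 4], [0, 4]], [[2], [0, 2]]],
    ∃ g ∈ normalizer ((Q : Subgroup Suz) : Set Suz) ⊓ H, Mt 2 (Q : Subgroup Suz) (lt LW5) (fun x => g * x * g⁻¹) M :=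
  List.forall_mem_cons.2 ⟨⟨_, ⟨(h.mt1 nt5).1, ha⟩, (h.mt1 nt5).2⟩, List.forall_mem_cons.2
    ⟨⟨_, ⟨(h.mt1 ns5).1, hb⟩, (h.mt1 ns5).2⟩, List.forall_mem_singleton.2 ⟨_, ⟨(h.mt1 nu5).1, hu⟩, (h.mt1 nu5).2⟩⟩⟩

theorem kn5 : k0 5 (normalizer ((Q : Subgroup Suz) : Set Suz)) = 16 :=
  k0_norm h.loc (bd5 h) (fun M hM => (ms5 h (mem_top _) (mem_top _) (mem_top _) M hM).imp fun _ e => ⟨e.1.1, e.2⟩) ck5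

theorem dat5 : Dat 5 1 (Q : Subgroup Suz) (lt LW5 2) (lt LW5 3) (lt LW5 4) where
  ma := (h.mt1 nt5).1
  mb := (h.mt1 ns5).1
  mu := (h.mt1 nu5).1
  gen _ h1 ha hb hu := gen_of_chk h.loc (bd5 h) h1 (ms5 h ha hb hu) ck5
  rel := by simpa only [ev, pow_succ, mul_assoc, _root_.Nat.reduceAdd, _root_.pow_zero, _root_.one_mul, _root_.List.map_cons, _root_.List.map_nil, _root_.List.prod_cons, _root_.List.prod_nil, _root_.mul_one] using he (LW := LW5) [3, 2] [2, 2, 3] (by decide +kernel)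
  sq := by simpa only [ev, _root_.List.map_cons, _root_.List.map_nil, _root_.List.prod_cons, _root_.List.prod_nil, _root_.mul_one] using he (LW := LW5) [3, 3] [] (by decide +kernel)
  ord := orderOf_eq_prime (p := 3) (by rw [← pow_mul, ← ev_replicate]; exact he _ [] (by decide +kernel))
    (by rw [← ev_replicate]; exact ne_one (by decide +kernel))
  cop := by norm_num

/-- the outer automorphism centralises the normaliser -/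
theorem fix5 {y : Suz} (hy : y ∈ normalizer ((Q : Subgroup Suz) : Set Suz)) : rho y = y :=
  (dat5 h).gen (rho.toMonoidHom.eqLocus (MonoidHom.id Suz)) (h.eq ▸ V_le fun i _ hi => rho5 i (by omega))
    (rho5 2 (by decide)) (rho5 3 (by decide)) (rho5 4 (by decide)) hy

/-- the subgroup of index two -/
theorem kk5 {K : Subgroup Suz} (h1 : K ≤ normalizer ((Q : Subgroup Suz) : Set Suz)) (h2 : ∀ a < 4, lt LW5 a ∈ K)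
    (h3 : ev (lt LW5) [4, 4] ∈ K) (h4 : lt LW5 4 ∉ K) : k0 5 K = 14 := by
  refine k0_of_chk h.loc (h.eq ▸ V_le fun i _ hi => h2 i (by omega)) h1 (n := 12) ?_
    (Ms := [[[4, 1], [4]], [[1, 4], [0, 4]], [[4], [0, 4]]]) (List.forall_mem_cons.2
      ⟨⟨_, h2 2 (by decide), (h.mt1 nt5).2⟩, List.forall_mem_cons.2 ⟨⟨_, h2 3 (by decide), (h.mt1 ns5).2⟩,
        List.forall_mem_singleton.2 ⟨_, h3, (h.mt (by decide +kernel)).2⟩⟩⟩)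
    (prog := [1, 1, 3, 0, 0, 2, 3, 0, 0, 3, 0, 0, 2, 1, 3, 0, 0, 3, 0, 0, 3]) (by decide +kernel)
  have h5 := bd5 h
  rw [← (K.subgroupOf _).card_mul_index, Nat.card_congr (subgroupOfEquivOfLe h1).toEquiv] at h5
  have h6 := Nat.mul_le_mul_left (Nat.card K) (one_lt_index_of_ne_top (H := K.subgroupOf _) fun e =>
    h4 (subgroupOf_eq_top.1 e (dat5 h).mu))
  omega

omit h

theorem sm_1_5 : SmC 5 1 Suz := by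
  obtain ⟨Q, h⟩ := syl5
  refine smC_one_two out fun _ => ⟨Q, MK.T.stab_of_le fun x hx => (fix5 h (le_normalizer hx)).symm ▸ hx,
    (kn5 h).trans k0_5.symm, (k0_eq_of fun ψ _ y y' e => ?_).trans ((kn5 h).trans f0_5.symm)⟩
  rw [show y' = y from Subtype.ext (e.trans (fix5 h y.2))]

theorem cm5 {m : ℕ} (X : Type) [Group X] (φ : X →* Suz) (M : Mod m φ) :
    ev M.y (wd LW5 4) * ev M.y (wd LW5 2) = ev M.y (wd LW5 2) * ev M.y (wd LW5 4) ∧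
      ev M.y (wd LW5 4) * ev M.y (wd LW5 3) = ev M.y (wd LW5 3) * ev M.y (wd LW5 4) :=
  ⟨M.comm (r := (wd LW5 4 ++ wd LW5 2).reverse) (by decide +kernel),
    M.comm (r := (wd LW5 4 ++ wd LW5 3).reverse) (by decide +kernel)⟩

theorem lk_5 {m : ℕ} (hm : ¬ 5 ∣ m) : LK 5 m Suz 16 := syl5.elim fun _ h => lk_of (dat5 h) hm (kn5 h) cm5

theorem lf_5_2 : LF 5 2 Suz 4 := lf_of fun X _ _ φ v α h1 h2 => by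
  obtain ⟨Q, h⟩ := syl5
  obtain ⟨M⟩ := exists_mod v
  obtain ⟨P, hP⟩ := exists_lift v Q
  have h3 : ∀ a, φ (ev M.y (wd LW5 a)) = lt LW5 a := fun a => M.φ_ev _
  have D : Dat 5 1 ((P : Subgroup X).map φ) (φ (ev M.y (wd LW5 2))) (φ (ev M.y (wd LW5 3))) (φ (ev M.y (wd LW5 4))) := by
    rw [h3, h3, h3, hP]
    exact dat5 h
  have h4 : ∀ x, x ∈ normalizer ((P : Subgroup X) : Set X) ↔ φ x ∈ normalizer ((Q : Subgroup Suz) : Set Suz) :=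
    fun x => hP ▸ mem_norm v P
  have h5 : α (ev M.y (wd LW5 4)) = M.j ^ 3 * ev M.y (wd LW5 4) := by
    rw [M.aut_ev h2 (by decide +kernel), M.eq (w := wd LW5 4) (k := 3) (r := ((wd LW5 4).map sw).reverse)
      (by decide +kernel)]
  have h6 : α (ev M.y (wd LW5 4)) ≠ ev M.y (wd LW5 4) := fun e => by
    rw [h5, mul_eq_right, ← orderOf_dvd_iff_pow_eq_one, M.ord] at e
    omega
  have h7 : M.j ^ 3 ∈ center X := M.cen ▸ npow_mem_zpowers _ _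
  have h8 := (h4 _).2 (h3 4 ▸ (dat5 h).mu)
  refine ⟨P, 1, ?_⟩
  rw [map_one, one_mul]
  refine ⟨stab_lift v P h2 (hP ▸ fun y hy => (fix5 h (le_normalizer hy)).symm ▸ hy), fun l hl => ?_⟩
  have h9 := fB_sign (p := 5) (by norm_num) v.card (center_le_normalizer _) h1 (fun y hy => v.ker.le (by
    rw [MonoidHom.mem_ker, map_mul, map_inv, h2, fix5 h ((h4 y).1 hy), mul_inv_cancel])) h8 h6 hl
  have h10 := kk5 h (K := map φ (normalizer ((P : Subgroup X) : Set X) ⊓ α.toMonoidHom.eqLocus (MonoidHom.id X)))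
    (map_le_iff_le_comap.2 fun x hx => (h4 x).1 hx.1)
    (fun a ha => ⟨_, ⟨(h4 _).2 (by
      rw [h3]
      interval_cases a
      exacts [le_normalizer (h.loc.mem 0 (by decide)), le_normalizer (h.loc.mem 1 (by decide)), (dat5 h).ma, (dat5 h).mb]),
      (M.aut_ev h2 ((by decide : ∀ a < 4, (wd LW5 a).all (Nat.blt · 7) = true) a ha)).trans
        (congrArg _ ((by decide : ∀ a < 4, (wd LW5 a).map sw = wd LW5 a) a ha))⟩, h3 a⟩)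
    ⟨_, ⟨mul_mem h8 h8, show α _ = _ * _ by
      rw [map_mul, h5, mul_assoc, ← mul_assoc (ev _ _), mem_center_iff.1 h7, mul_assoc, ← mul_assoc, ← pow_add,
        orderOf_dvd_iff_pow_eq_one.1 (by rw [M.ord]; norm_num), one_mul]⟩,
      by rw [map_mul, h3, ev_cons, ev_cons, ev_nil, mul_one]⟩
    fun ⟨k, hk, e⟩ => h6 (by
      rw [← mul_inv_cancel_left k (ev M.y _), map_mul, h1 (_ * _) (v.ker.le (by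
        rw [MonoidHom.mem_ker, map_mul, map_inv, e, h3, inv_mul_cancel])), show α k = k from hk.2])
  rw [D.kk_eq v P (by norm_num) (cm5 X φ M).1 (cm5 X φ M).2 hl, hP, kn5 h, Up.kk_of_comm φ v.ker
    (K := _ ⊓ α.toMonoidHom.eqLocus (MonoidHom.id X)) (fun z hz => ⟨center_le_normalizer _ hz, h1 z hz⟩)
    (fun z hz e => D.cen_comm v P (by norm_num) (cm5 X φ M).1 (cm5 X φ M).2 z hz
      (commutator_mono inf_le_left inf_le_left e)) hl, h10] at h9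
  omega

end Cfsg.Agent.MO.S.SuzL
end

-- part: MO/S/Suz/CovT
section
/-!
# MO, the covers of `Suz` : traces of cubes and conjugating words in `6.Suz` (helper63)
-/

set_option autoImplicit false
set_option maxRecDepth 100000
set_option Elab.async false

namespace Cfsg.Agent.MO.S.Suz

open Cfsg Cfsg.Agent.TAB.Eng Cfsg.Agent.TAB.Sz Cfsg.Agent.MK.S4.Z

section data

local notation "Q" => Int.ofNat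
local notation "W" => Int.negSucc

/-- the traces of the cubes -/
def trs3 : List (List ℤ) := [
  [Q 24, W 11, W 11],
  [W 7, Q 4, Q 4],
  [Q 0, Q 0, Q 0],
  [W 7, Q 4, Q 4],
  [W 23, Q 12, Q 12],
  [W 1, Q 1, Q 1],
  [Q 24, W 11, W 11],
  [Q 8, W 3, W 3],
  [Q 0, Q 0, Q 0],
  [Q 2, W 0, W 0],
  [Q 0, Q 0, Q 0],
  [W 3, Q 2, Q 2],
  [Q 0, Q 0, Q 0],
  [Q 4, W 1, W 1],
  [Q 4, W 1, W 1],
  [Q 0, Q 0, Q 0],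
  [W 1, Q 1, Q 1],
  [Q 4, W 1, W 1],
  [W 5, Q 3, Q 3],
  [Q 0, Q 0, Q 0],
  [Q 3, Q 3, W 5],
  [Q 1, Q 4, W 4],
  [Q 0, Q 0, Q 0],
  [Q 0, Q 0, Q 0],
  [Q 0, Q 0, Q 0],
  [W 1, Q 1, Q 1],
  [W 7, Q 4, Q 4],
  [Q 0, Q 0, Q 0],
  [W 7, Q 4, Q 4],
  [Q 4, W 1, W 1],
  [Q 0, Q 0, Q 0],
  [Q 0, Q 0, Q 0],
  [W 7, Q 4, Q 4],
  [Q 0, Q 0, Q 0],
  [W 5, Q 3, Q 3],
  [W 7, Q 4, Q 4],
  [Q 24, W 11, W 11]]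

end data

/-- the conjugating words -/
def bw : List (ℕ × List ℕ × Bool × ℕ) := [
  (2, [2, 6, 4, 3, 6, 1, 2, 4, 3, 1, 2, 0, 6, 0, 4, 0, 3, 6, 0, 4, 2, 1, 2, 3, 4, 2], false, 3),
  (10, [5, 3, 4, 1, 3, 6, 0, 1, 5, 2, 6, 3, 4, 5, 6, 0, 1, 3, 0, 3, 5, 1, 6, 5, 6, 2, 3, 2, 4, 1, 5, 6, 1, 2, 1, 0, 6,
  5, 3, 2], false, 3),
  (12, [1, 4, 0, 4, 1, 2, 3, 4, 2, 3, 4, 5, 2, 5, 4, 1, 0, 3, 1, 6, 2, 0, 6, 0, 3, 4, 2, 6, 3, 0, 6, 0, 2, 0, 1, 0],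
  false, 3),
  (15, [1, 6, 1, 2, 6, 0, 3, 2, 4, 3, 5, 2, 3, 4, 6, 5, 1, 3, 2, 3, 4, 1, 2, 1, 6, 4, 0, 3, 1, 0, 5, 2, 6, 3, 0, 5, 4,
  6], false, 3),
  (22, [5, 2, 4, 0, 1, 5, 0, 5, 6, 1, 5, 2, 1, 2, 0, 1, 5, 6, 4, 1, 6, 0, 4, 6, 5, 1], false, 3),
  (23, [3, 6, 4, 2, 0, 5, 3, 1, 6, 1, 3, 4, 0, 5, 1, 4, 1, 0, 4, 1, 2, 3, 2, 1, 2, 1, 4, 5, 1, 0, 2, 1, 2, 0, 6, 3, 2,
  1, 0, 6, 1, 5, 6, 2, 3, 1, 3, 6, 2, 6], false, 3),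
  (24, [4, 0, 5, 1, 2, 5, 4, 5, 1, 0, 3, 5, 1, 2, 3, 1, 2, 5, 3, 1, 2, 6, 0, 6, 1, 3], false, 3),
  (30, [4, 6, 4, 3, 4, 1, 2, 4, 3, 1, 6, 0, 5, 1, 2, 6, 3, 2, 6, 4, 3, 6, 2, 0, 6, 3, 6, 1, 2, 4, 1, 6, 5, 4, 1, 6, 2,
  3], false, 3),
  (31, [1, 0, 2, 0, 6, 1, 0, 2, 3, 2, 6, 0, 2, 6, 3, 1, 2, 3, 6, 1], false, 3),
  (33, [4, 2, 5, 2, 5, 4, 0, 5, 3, 1, 0, 4, 5, 3, 4, 1, 3, 0, 3, 1, 3, 2, 1, 0], false, 3),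
  (8, [4, 0, 1, 0, 1, 3, 0, 6, 5, 2, 6, 3, 2, 0, 6, 1, 5, 2, 3, 2, 6, 3, 1, 0, 4, 1, 6, 4, 2, 5], true, 3),
  (19, [3, 2, 3, 4, 5, 0, 1, 3, 0, 3, 0, 4, 0, 1, 3, 6, 2, 3, 4, 1, 5, 1, 2, 3, 5, 0, 6, 5, 2, 3, 0, 1, 3, 4, 2, 0, 2,
  4, 0, 3, 6, 5, 1, 2, 5, 4, 1, 0, 5, 2, 0, 3, 0, 1, 2, 3, 0, 2, 4, 1, 2, 6, 2, 3, 5, 3, 2, 5], true, 3),
  (27, [0, 1, 0, 5, 4, 5, 2, 1, 5, 0, 3, 0, 6, 3, 2, 6, 3, 6, 1, 4, 2, 1, 5, 3, 2, 0, 4, 6, 1, 2, 5, 6, 3, 1, 2, 5, 3,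
  1, 3, 6], true, 3)]

/-- the traces of the three multiples of a cube -/
noncomputable def tw (t : ℕ) : ℤ × ℤ × ℤ := (nth (ntd trs3 [] t) 0, nth (ntd trs3 [] t) 1, nth (ntd trs3 [] t) 2)

theorem tw_chk0 : ∀ t < 12, tr3 (pw (wd (sw t)) 3) (tw t) = true := by decide +kernel

theorem tw_chk1 : ∀ s < 12, tr3 (pw (wd (sw (12 + s))) 3) (tw (12 + s)) = true := by decide +kernel

theorem tw_chk2 : ∀ s < 13, tr3 (pw (wd (sw (24 + s))) 3) (tw (24 + s)) = true := by decide +kernel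

theorem tw_chk (t : ℕ) (ht : t < 37) : tr3 (pw (wd (sw t)) 3) (tw t) = true := by
  rcases (by omega : t < 12 ∨ 12 ≤ t ∧ t < 24 ∨ 24 ≤ t) with h | h | h
  · exact tw_chk0 t h
  · have := tw_chk1 (t - 12) (by omega)
    rwa [Nat.add_sub_cancel' h.1] at this
  · have := tw_chk2 (t - 24) (by omega)
    rwa [Nat.add_sub_cancel' h] at this

/-- the inverse of a letter -/
def Q5.il (x : ℕ) : List ℕ := cond (Nat.beq x 3 || Nat.beq x 4 || Nat.beq x 9) [x, 8] [x]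

theorem Q5.il_chk : ∀ x < 10, x ≠ 7 → TAB.F22.relB 24 ms sc fs 8 (x :: Q5.il x) = true := by decide +kernel

/-- the check of an equation -/
noncomputable def Q5.eqC (v w : List ℕ) : Bool :=
  allL (fun a => Nat.blt a 10 && !Nat.beq a 7) w && TAB.F22.relB 24 ms sc fs 8 (v ++ w.reverse.flatMap Q5.il)

/-- the check of a conjugating word -/
noncomputable def bdB (x : ℕ × List ℕ × Bool × ℕ) : Bool :=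
  allL (fun a => Nat.blt a 7) x.2.1 && (x.2.2.2 == 3 &&
    Q5.eqC (x.2.1 ++ (cond x.2.2.1 [9] [] ++ wd (sw x.1))) ([8] ++ (wd (sw x.1) ++ (x.2.1 ++ cond x.2.2.1 [9] []))))

theorem bw_chk0 : bdB (bw.getD 0 (0, [], false, 0)) = true := by decide +kernel

theorem bw_chk1 : bdB (bw.getD 1 (0, [], false, 0)) = true := by decide +kernel

theorem bw_chk2 : bdB (bw.getD 2 (0, [], false, 0)) = true := by decide +kernel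

theorem bw_chk3 : bdB (bw.getD 3 (0, [], false, 0)) = true := by decide +kernel

theorem bw_chk4 : bdB (bw.getD 4 (0, [], false, 0)) = true := by decide +kernel

theorem bw_chk5 : bdB (bw.getD 5 (0, [], false, 0)) = true := by decide +kernel

theorem bw_chk6 : bdB (bw.getD 6 (0, [], false, 0)) = true := by decide +kernel

theorem bw_chk7 : bdB (bw.getD 7 (0, [], false, 0)) = true := by decide +kernel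

theorem bw_chk8 : bdB (bw.getD 8 (0, [], false, 0)) = true := by decide +kernel

theorem bw_chk9 : bdB (bw.getD 9 (0, [], false, 0)) = true := by decide +kernel

theorem bw_chk10 : bdB (bw.getD 10 (0, [], false, 0)) = true := by decide +kernel

theorem bw_chk11 : bdB (bw.getD 11 (0, [], false, 0)) = true := by decide +kernel

theorem bw_chk12 : bdB (bw.getD 12 (0, [], false, 0)) = true := by decide +kernel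

theorem bw_chk : ∀ x ∈ bw, bdB x = true :=
  List.forall_mem_cons.2 ⟨bw_chk0, List.forall_mem_cons.2 ⟨bw_chk1, List.forall_mem_cons.2 ⟨bw_chk2,
  List.forall_mem_cons.2 ⟨bw_chk3, List.forall_mem_cons.2 ⟨bw_chk4, List.forall_mem_cons.2 ⟨bw_chk5,
  List.forall_mem_cons.2 ⟨bw_chk6, List.forall_mem_cons.2 ⟨bw_chk7, List.forall_mem_cons.2 ⟨bw_chk8,
  List.forall_mem_cons.2 ⟨bw_chk9, List.forall_mem_cons.2 ⟨bw_chk10, List.forall_mem_cons.2 ⟨bw_chk11,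
  List.forall_mem_cons.2 ⟨bw_chk12, List.forall_mem_nil _⟩⟩⟩⟩⟩⟩⟩⟩⟩⟩⟩⟩⟩

end Cfsg.Agent.MO.S.Suz
end

-- part: MO/S/Suz/CovD
section
/-!
# MO, the covers of `Suz` : data and checks (helper63)

A pair `(a, b)` stands for `a + b ω`.  The rows are the values at the representatives in `6.Suz` of the faithful
characters of `6.Suz` (`1`), `3.Suz` (`2`), `2.Suz` (`3`).
-/

set_option autoImplicit false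
set_option maxRecDepth 100000
set_option Elab.async false
set_option synthInstance.maxSize 2000

namespace Cfsg.Agent.MO.S.Suz

open Cfsg Finset Cfsg.Agent.TAB.Eng Cfsg.Agent.TAB.Sz Cfsg.Agent.MK.S4.Z

section data

local notation "Q" => Int.ofNat
local notation "W" => Int.negSucc

/-- the seeds, first components -/
def sA : List (List ℤ) := [
  [Q 12, W 3, Q 0, W 0, W 2, W 0, Q 0, W 1, W 0, Q 0, Q 0, W 1, Q 0, W 0, Q 2, Q 0, W 0, W 0, Q 0, Q 0, W 0, Q 0, Q 0,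
  Q 0, Q 0, W 0, W 0, Q 0, Q 2, Q 2, Q 0, Q 0, W 2, Q 0, W 2, W 3, W 5],
  [Q 12, Q 12, W 3, Q 3, Q 3, Q 1, Q 0, Q 2, W 0, W 0, Q 2, Q 0, W 1, W 0, Q 2, Q 0, W 0, Q 1, Q 0, Q 0, Q 2, Q 1,
  Q 0, Q 0, W 1, W 2, W 0, Q 2, W 5, W 1, W 3, W 11, Q 0, Q 4, W 2, W 3, W 5],
  [Q 12, W 3, Q 0, W 3, W 11, W 0, Q 12, Q 4, Q 0, Q 1, Q 0, W 1, Q 0, Q 2, Q 2, Q 0, W 0, Q 2, W 2, Q 0, Q 0, W 0,
  Q 0, Q 0, Q 0, W 0, W 3, Q 0, W 3, Q 2, Q 0, Q 0, W 3, Q 0, W 2, W 3, Q 12],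
  [Q 12, Q 12, Q 12, Q 3, Q 3, W 2, Q 0, W 5, Q 3, Q 0, W 1, W 3, Q 2, W 0, Q 2, Q 0, W 0, Q 1, Q 0, Q 0, Q 1, Q 2,
  Q 0, W 3, W 5, W 2, Q 3, Q 2, W 5, W 1, W 3, Q 12, W 2, Q 12, W 2, Q 12, W 5],
  [Q 66, Q 2, Q 2, W 0, Q 3, Q 0, Q 0, Q 1, W 0, Q 0, W 0, Q 2, Q 1, Q 1, Q 1, Q 0, Q 1, Q 0, Q 0, Q 0, W 0, W 0, Q 0,
  Q 0, Q 1, Q 2, Q 1, W 0, Q 5, Q 3, Q 2, Q 6, Q 4, W 1, Q 6, Q 10, Q 21],
  [Q 66, Q 66, Q 2, Q 3, Q 3, Q 2, Q 0, Q 5, W 0, Q 0, Q 3, Q 2, Q 1, Q 1, Q 1, Q 0, Q 1, Q 0, Q 0, Q 0, Q 1, W 0,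
  Q 0, Q 2, Q 5, Q 6, W 0, Q 1, Q 21, Q 3, Q 10, Q 66, W 2, Q 2, Q 6, Q 2, Q 21],
  [Q 2145, W 30, Q 1, W 0, Q 3, W 0, Q 0, W 1, Q 1, Q 0, W 0, Q 1, Q 0, Q 0, Q 0, Q 0, Q 0, Q 0, Q 0, Q 0, W 1, Q 1,
  Q 0, W 0, W 1, W 0, Q 1, Q 0, Q 2, Q 3, W 2, W 14, Q 9, Q 1, Q 15, Q 49, Q 210],
  [W 571, Q 20, Q 0, W 0, Q 5, Q 0, Q 4, Q 4, W 0, Q 0, Q 0, Q 2, Q 0, Q 1, W 1, Q 0, Q 0, Q 1, W 0, Q 0, W 0, Q 0,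
  Q 0, Q 0, Q 0, Q 0, W 0, Q 0, W 3, W 1, Q 0, Q 0, Q 5, Q 0, Q 8, Q 20, Q 76],
  [Q 792, W 7, Q 0, Q 1, W 8, Q 0, Q 0, W 1, W 0, Q 0, Q 0, W 3, Q 0, W 0, Q 2, Q 0, W 0, Q 0, Q 0, Q 0, Q 0, W 0,
  Q 0, Q 0, Q 0, W 1, W 0, Q 0, Q 10, Q 6, Q 0, Q 0, W 8, Q 0, W 17, W 39, W 125],
  [Q 144, Q 16, Q 0, Q 1, Q 9, Q 1, Q 0, Q 4, W 2, W 0, Q 0, Q 4, Q 0, Q 1, Q 4, Q 0, Q 1, Q 1, Q 0, Q 0, Q 0, W 0,
  Q 0, Q 0, Q 0, Q 1, Q 1, Q 0, Q 4, Q 4, Q 0, Q 0, Q 8, Q 0, Q 9, Q 16, Q 36],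
  [Q 2145, W 30, Q 1, W 0, Q 3, W 0, Q 0, W 1, Q 1, Q 0, W 0, Q 1, Q 0, Q 0, Q 0, Q 0, Q 0, Q 0, Q 0, Q 0, W 0, Q 0,
  Q 3, Q 0, W 1, W 0, Q 1, Q 0, Q 2, Q 3, W 2, W 14, Q 4, Q 1, Q 15, Q 49, Q 210],
  [Q 792, W 7, Q 0, Q 1, W 8, Q 0, Q 0, W 1, Q 1, Q 0, Q 0, W 3, Q 0, W 0, Q 2, Q 0, W 0, Q 0, Q 0, Q 0, Q 3, Q 0,
  Q 0, Q 0, Q 0, W 1, W 0, Q 0, Q 10, Q 6, Q 0, Q 0, W 10, Q 0, W 17, W 39, W 125],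
  [Q 792, W 7, Q 0, Q 1, W 8, Q 0, Q 0, W 1, W 0, Q 0, Q 0, W 3, Q 0, W 0, Q 2, Q 0, W 0, Q 0, Q 0, Q 0, Q 0, W 0,
  Q 0, Q 0, Q 0, W 1, W 0, Q 0, Q 10, Q 6, Q 0, Q 0, W 4, Q 0, W 17, W 39, W 125],
  [Q 1728, W 63, Q 0, W 0, W 26, W 0, Q 0, W 7, Q 3, Q 1, Q 0, W 7, Q 0, W 0, Q 8, Q 0, W 0, W 0, Q 0, Q 0, Q 3, W 0,
  Q 0, Q 0, Q 0, W 0, W 0, Q 0, Q 8, Q 8, Q 0, Q 0, W 18, Q 0, W 26, W 63, W 215]]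

/-- the seeds, second components -/
def sB : List (List ℤ) := [
  [Q 0, Q 0, Q 0, Q 0, Q 0, Q 0, Q 0, Q 0, W 1, Q 1, Q 0, Q 0, Q 0, Q 0, Q 0, Q 0, Q 0, Q 0, Q 0, Q 0, Q 1, W 0, Q 0,
  Q 0, Q 0, Q 0, Q 0, Q 0, Q 0, Q 0, Q 0, Q 0, W 0, Q 0, Q 0, Q 0, Q 0],
  [Q 0, Q 0, Q 0, Q 0, Q 0, Q 0, Q 0, Q 0, Q 0, W 0, Q 0, Q 0, Q 0, Q 0, Q 0, Q 0, Q 0, Q 0, Q 0, Q 0, Q 1, W 0, Q 0,
  Q 0, Q 0, Q 0, Q 0, Q 0, Q 0, Q 0, Q 0, Q 0, Q 3, Q 0, Q 0, Q 0, Q 0],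
  [Q 0, Q 0, Q 0, Q 0, Q 0, Q 0, Q 0, Q 0, Q 0, Q 0, Q 0, Q 0, Q 0, Q 0, Q 0, Q 0, Q 0, Q 0, Q 0, Q 0, W 2, W 2, Q 0,
  Q 0, Q 0, Q 0, Q 0, Q 0, Q 0, Q 0, Q 0, Q 0, Q 0, Q 0, Q 0, Q 0, Q 0],
  [Q 0, Q 0, Q 0, Q 0, Q 0, Q 0, Q 0, Q 0, Q 0, Q 1, Q 0, Q 0, Q 0, Q 0, Q 0, Q 0, Q 0, Q 0, Q 0, Q 0, W 0, Q 1, W 11,
  W 3, Q 0, Q 0, Q 0, Q 0, Q 0, Q 0, Q 0, Q 0, W 2, Q 0, Q 0, Q 0, Q 0],
  [Q 0, Q 0, Q 0, Q 0, Q 0, Q 0, Q 0, Q 0, Q 0, Q 0, Q 0, Q 0, Q 0, Q 0, Q 0, Q 0, Q 0, Q 0, Q 0, Q 0, W 1, Q 0, Q 0,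
  Q 0, Q 0, Q 0, Q 0, Q 0, Q 0, Q 0, Q 0, Q 0, Q 1, Q 0, Q 0, Q 0, Q 0],
  [Q 0, Q 0, Q 0, Q 0, Q 0, Q 0, Q 0, Q 0, Q 0, Q 0, Q 0, Q 0, Q 0, Q 0, Q 0, Q 0, Q 0, Q 0, Q 0, Q 0, Q 2, W 1, Q 6,
  Q 2, Q 0, Q 0, Q 0, Q 0, Q 0, Q 0, Q 0, Q 0, W 2, Q 0, Q 0, Q 0, Q 0],
  [Q 0, Q 0, Q 0, Q 0, Q 0, Q 0, Q 0, Q 0, Q 0, Q 0, Q 0, Q 0, Q 0, Q 0, Q 0, Q 0, Q 0, Q 0, Q 0, Q 0, W 0, Q 1, W 2,
  W 0, Q 0, Q 0, Q 0, Q 0, Q 0, Q 0, Q 0, Q 0, Q 5, Q 0, Q 0, Q 0, Q 0],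
  [Q 0, Q 0, Q 0, Q 0, Q 0, Q 0, Q 0, Q 0, W 1, Q 0, Q 0, Q 0, Q 0, Q 0, Q 0, Q 0, Q 0, Q 0, Q 0, Q 0, W 2, W 0, Q 0,
  Q 0, Q 0, Q 0, Q 0, Q 0, Q 0, Q 0, Q 0, Q 0, Q 6, Q 0, Q 0, Q 0, Q 0],
  [Q 0, Q 0, Q 0, Q 0, Q 0, Q 0, Q 0, Q 0, W 1, Q 0, Q 0, Q 0, Q 0, Q 0, Q 0, Q 0, Q 0, Q 0, Q 0, Q 0, Q 3, W 0, Q 0,
  Q 0, Q 0, Q 0, Q 0, Q 0, Q 0, Q 0, Q 0, Q 0, Q 1, Q 0, Q 0, Q 0, Q 0],
  [Q 0, Q 0, Q 0, Q 0, Q 0, Q 0, Q 0, Q 0, Q 0, W 0, Q 0, Q 0, Q 0, Q 0, Q 0, Q 0, Q 0, Q 0, Q 0, Q 0, W 2, W 0, Q 0,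
  Q 0, Q 0, Q 0, Q 0, Q 0, Q 0, Q 0, Q 0, Q 0, Q 5, Q 0, Q 0, Q 0, Q 0],
  [Q 0, Q 0, Q 0, Q 0, Q 0, Q 0, Q 0, Q 0, Q 0, Q 0, Q 0, Q 0, Q 0, Q 0, Q 0, Q 0, Q 0, Q 0, Q 0, Q 0, Q 1, W 0, Q 3,
  Q 1, Q 0, Q 0, Q 0, Q 0, Q 0, Q 0, Q 0, Q 0, W 4, Q 0, Q 0, Q 0, Q 0],
  [Q 0, Q 0, Q 0, Q 0, Q 0, Q 0, Q 0, Q 0, Q 2, Q 0, Q 0, Q 0, Q 0, Q 0, Q 0, Q 0, Q 0, Q 0, Q 0, Q 0, Q 3, Q 1, Q 0,
  Q 0, Q 0, Q 0, Q 0, Q 0, Q 0, Q 0, Q 0, Q 0, W 5, Q 0, Q 0, Q 0, Q 0],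
  [Q 0, Q 0, Q 0, Q 0, Q 0, Q 0, Q 0, Q 0, W 1, Q 0, Q 0, Q 0, Q 0, Q 0, Q 0, Q 0, Q 0, Q 0, Q 0, Q 0, W 2, W 0, Q 0,
  Q 0, Q 0, Q 0, Q 0, Q 0, Q 0, Q 0, Q 0, Q 0, Q 6, Q 0, Q 0, Q 0, Q 0],
  [Q 0, Q 0, Q 0, Q 0, Q 0, Q 0, Q 0, Q 0, Q 6, Q 0, Q 0, Q 0, Q 0, Q 0, Q 0, Q 0, Q 0, Q 0, Q 0, Q 0, Q 6, Q 0, Q 0,
  Q 0, Q 0, Q 0, Q 0, Q 0, Q 0, Q 0, Q 0, Q 0, W 17, Q 0, Q 0, Q 0, Q 0]]

/-- the coefficients -/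
def cf1 : List (List (List (ℤ × ℕ))) := [
  [[(Q 1, 0)], []],
  [[(W 0, 0)], [(Q 1, 0)]],
  [[(Q 1, 1)], [(W 0, 0)]],
  [[(Q 1, 2)], []],
  [[(W 0, 0), (W 0, 1), (W 3, 3), (W 2, 4), (W 1, 5), (Q 1, 6), (W 1, 7), (W 0, 8), (W 0, 9), (W 0, 11), (W 0, 13),
  (Q 1, 14), (W 0, 17), (W 0, 18), (Q 1, 27)], [(Q 1, 0), (W 0, 1), (Q 2, 2), (Q 4, 3), (W 0, 5)]],
  [[(Q 1, 0), (Q 1, 3)], [(W 0, 0)]],
  [[(Q 1, 4)], []],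
  [[(Q 1, 0), (W 0, 2), (Q 3, 3), (Q 3, 4), (Q 1, 5), (W 0, 6), (Q 1, 7), (Q 1, 8), (Q 1, 9), (Q 2, 11), (Q 2, 13),
  (W 0, 14), (Q 1, 16), (Q 2, 18), (W 0, 27), (Q 1, 31)], [(W 0, 0), (Q 1, 1), (W 1, 2), (W 1, 3)]],
  [[(W 1, 1), (W 2, 3), (W 2, 4), (W 2, 5), (Q 1, 6), (W 1, 7), (W 0, 9), (W 1, 11), (W 0, 13), (Q 1, 14), (Q 1, 16),
  (Q 1, 31)], [(Q 1, 0), (W 0, 1), (Q 1, 2), (Q 4, 3), (W 0, 5)]],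
  [[(W 0, 0), (W 2, 3), (W 2, 4), (W 1, 5), (Q 1, 6), (W 1, 7), (W 0, 8), (W 0, 9), (W 0, 11), (W 0, 13), (Q 1, 14),
  (W 0, 17), (W 0, 18), (Q 1, 27), (Q 1, 31)], [(Q 2, 0), (W 1, 1), (Q 2, 2), (Q 4, 3), (W 0, 5)]],
  [[(Q 1, 0), (Q 1, 1), (Q 3, 3), (Q 3, 4), (Q 3, 5), (W 0, 6), (Q 2, 7), (Q 1, 8), (Q 1, 9), (Q 1, 11), (Q 1, 13),
  (W 0, 14), (Q 1, 17), (Q 1, 18), (W 0, 27)], [(W 0, 0), (Q 1, 1), (W 1, 2), (W 3, 3), (Q 1, 5)]],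
  [[(Q 1, 0), (Q 2, 3), (Q 2, 4), (Q 2, 5), (Q 1, 7), (Q 1, 9), (Q 1, 13), (W 0, 14), (W 0, 16), (W 0, 31)],
  [(W 0, 0), (Q 1, 1), (W 0, 2), (W 2, 3), (Q 1, 5)]],
  [[(W 0, 0), (W 0, 1), (W 1, 3), (W 1, 4), (W 1, 5), (Q 1, 6), (W 0, 7), (W 0, 9), (W 0, 13), (Q 1, 14), (Q 1, 16),
  (Q 1, 31)], [(Q 2, 0), (W 0, 1), (Q 1, 2), (Q 3, 3), (W 0, 5)]],
  [[(Q 1, 1), (Q 1, 3), (Q 2, 4), (Q 2, 5), (W 0, 6), (Q 2, 7), (Q 1, 9), (Q 1, 13), (W 0, 14), (W 0, 16), (W 0, 31)],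
  [(W 0, 0), (Q 1, 1), (W 0, 2), (W 2, 3), (Q 1, 5)]],
  [[(W 0, 0), (Q 1, 1), (Q 2, 2), (W 1, 4), (Q 2, 5), (Q 1, 6), (Q 2, 7), (W 0, 9), (W 0, 11), (W 1, 13), (Q 2, 14),
  (W 1, 16), (Q 2, 17), (W 1, 18), (W 1, 31), (W 0, 32), (Q 1, 33)], [(Q 1, 0), (W 1, 3), (Q 1, 5)]],
  [[(W 0, 0), (W 0, 2), (W 1, 3), (W 1, 4), (W 1, 5), (W 0, 7), (Q 1, 8), (W 0, 9), (W 0, 13), (Q 1, 14), (Q 1, 16),
  (Q 1, 31)], [(Q 1, 0), (W 0, 1), (Q 1, 2), (Q 3, 3), (W 0, 5)]],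
  [[(W 0, 1), (W 2, 3), (W 1, 4), (W 1, 5), (Q 1, 6), (W 1, 7), (W 0, 8), (W 0, 9), (W 1, 11), (Q 1, 16), (W 0, 17),
  (W 0, 18), (Q 1, 27)], [(W 0, 1), (Q 1, 2), (Q 4, 3), (W 0, 5)]],
  [[(W 0, 0), (W 1, 3), (W 1, 4), (W 1, 5), (W 0, 7), (W 0, 13), (Q 1, 14), (Q 1, 16), (Q 1, 31)], [(Q 1, 0),
  (W 0, 1), (Q 1, 2), (Q 3, 3), (W 0, 5)]],
  [[(Q 1, 1), (Q 2, 3), (Q 2, 4), (Q 1, 5), (W 0, 6), (Q 1, 7), (Q 1, 9), (Q 1, 11), (Q 1, 13), (W 0, 14), (W 0, 16),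
  (W 0, 31)], [(W 0, 0), (Q 1, 1), (W 0, 2), (W 2, 3), (Q 1, 5)]],
  [[(Q 1, 0), (Q 2, 3), (Q 2, 4), (Q 2, 5), (Q 1, 7), (W 0, 8), (Q 1, 9), (Q 1, 13), (W 0, 14), (W 0, 16), (W 0, 31)],
  [(W 0, 0), (Q 1, 1), (W 2, 3), (Q 1, 5)]],
  [[(W 0, 0), (Q 1, 2), (W 2, 3), (W 2, 4), (W 0, 5), (Q 1, 6), (W 0, 7), (W 0, 8), (W 0, 9), (W 1, 11), (W 0, 13),
  (Q 1, 14), (W 0, 16), (W 1, 18), (Q 1, 27), (W 0, 31)], [(Q 1, 0), (W 0, 1), (Q 1, 2), (Q 2, 3)]],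
  [[(Q 1, 0), (Q 2, 3), (Q 1, 4), (Q 2, 5), (Q 1, 7), (W 0, 16), (W 0, 31)], [(W 0, 0), (Q 1, 1), (W 2, 3), (Q 1, 5)]],
  [[(Q 1, 0), (Q 3, 3), (Q 3, 4), (Q 1, 5), (W 0, 6), (Q 1, 7), (Q 1, 8), (Q 1, 9), (Q 2, 11), (Q 1, 13), (W 0, 14),
  (Q 1, 16), (Q 1, 17), (Q 2, 18), (W 0, 27), (Q 1, 31)], [(W 0, 0), (Q 1, 1), (W 1, 2), (W 1, 3)]],
  [[(W 1, 0), (W 0, 2), (W 4, 3), (W 3, 4), (W 3, 5), (W 2, 7), (W 0, 9), (W 0, 11), (W 0, 13), (Q 1, 14), (W 2, 17),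
  (W 0, 18), (Q 1, 21), (Q 1, 27), (Q 1, 31), (Q 1, 32), (W 0, 33)], [(Q 2, 0), (W 1, 1), (Q 2, 2), (Q 5, 3),
  (W 0, 5)]],
  [[(Q 2, 1), (W 1, 2), (Q 4, 3), (Q 6, 4), (Q 2, 5), (W 2, 6), (Q 3, 7), (Q 1, 8), (Q 3, 9), (Q 3, 11), (Q 3, 13),
  (W 2, 14), (W 0, 17), (Q 1, 18), (W 0, 27), (Q 1, 32), (Q 1, 35)], [(W 1, 0), (Q 2, 1), (W 1, 2), (W 4, 3),
  (Q 1, 5)]],
  [[(W 1, 2), (Q 2, 4), (Q 2, 13), (W 1, 14), (W 1, 17), (Q 1, 36)], []]]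

/-- the rows, first components -/
def ra1 : List (List ℤ) := [
  [Q 12, W 3, Q 0, W 0, W 2, W 0, Q 0, W 1, W 0, Q 0, Q 0, W 1, Q 0, W 0, Q 2, Q 0, W 0, W 0, Q 0, Q 0, W 0, Q 0, Q 0,
  Q 0, Q 0, W 0, W 0, Q 0, Q 2, Q 2, Q 0, Q 0, W 2, Q 0, W 2, W 3, W 5],
  [Q 780, W 3, Q 0, Q 2, W 5, Q 1, Q 0, Q 0, Q 0, Q 0, Q 0, W 1, Q 0, Q 0, Q 0, Q 0, Q 0, Q 1, Q 0, Q 0, Q 1, W 0,
  Q 0, Q 0, Q 0, W 0, Q 0, Q 0, Q 8, Q 4, Q 0, Q 0, W 5, Q 0, W 14, W 35, W 119],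
  [Q 924, W 51, Q 0, W 0, W 14, Q 0, Q 0, W 3, W 0, Q 0, Q 0, W 1, Q 0, Q 1, Q 4, Q 0, Q 1, Q 0, Q 0, Q 0, W 1, Q 1,
  Q 0, Q 0, Q 0, Q 2, Q 1, Q 0, W 3, Q 0, Q 0, Q 0, W 8, Q 0, W 5, W 19, W 83],
  [Q 4368, W 175, Q 0, W 4, W 38, Q 1, Q 0, Q 4, Q 1, Q 0, Q 0, Q 0, Q 0, W 0, Q 8, Q 0, Q 0, Q 0, Q 0, Q 0, W 0, Q 0,
  Q 0, Q 0, Q 0, Q 1, W 0, Q 0, Q 4, Q 0, Q 0, Q 0, Q 3, Q 0, Q 3, W 15, Q 84],
  [Q 4368, Q 80, Q 0, W 3, W 11, W 1, Q 0, Q 6, Q 0, Q 0, Q 0, Q 0, Q 0, Q 1, W 1, Q 0, Q 0, Q 0, Q 0, Q 0, Q 2, Q 1,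
  Q 0, Q 0, Q 0, Q 0, Q 0, Q 0, Q 2, Q 0, Q 0, Q 0, Q 0, Q 0, W 11, W 47, W 293],
  [Q 8580, W 43, Q 0, Q 1, Q 15, Q 1, Q 0, W 1, Q 1, Q 0, Q 0, Q 2, Q 0, Q 0, Q 0, Q 0, Q 0, W 0, Q 0, Q 0, W 0, Q 1,
  Q 0, Q 0, Q 0, W 0, W 0, Q 0, Q 10, Q 2, Q 0, Q 0, W 2, Q 0, W 14, W 75, W 509],
  [Q 12012, W 163, Q 0, W 1, W 5, W 0, Q 0, W 7, Q 0, Q 0, Q 0, W 1, Q 0, W 0, Q 2, Q 0, Q 0, Q 0, Q 0, Q 0, Q 1, Q 0,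
  Q 0, Q 0, Q 0, W 0, Q 2, Q 0, Q 16, Q 0, Q 0, Q 0, Q 12, Q 0, W 2, W 3, W 335],
  [Q 12012, W 163, Q 0, Q 1, W 32, W 0, Q 0, W 1, Q 1, Q 0, Q 0, W 1, Q 0, Q 2, Q 2, Q 0, Q 0, Q 0, Q 0, Q 0, W 1,
  W 0, Q 0, Q 0, Q 0, W 0, W 0, Q 0, W 13, Q 0, Q 0, Q 0, Q 9, Q 0, W 2, W 3, Q 42],
  [Q 12012, Q 92, Q 0, Q 2, W 5, Q 1, Q 0, Q 0, Q 0, Q 0, Q 0, W 1, Q 0, W 0, Q 2, Q 0, Q 0, Q 0, Q 0, Q 0, Q 1, Q 0,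
  Q 0, Q 0, Q 0, Q 3, Q 0, Q 0, W 15, Q 0, Q 0, Q 0, Q 6, Q 0, W 2, W 35, W 335],
  [Q 23100, W 19, Q 0, Q 4, W 23, Q 0, Q 0, Q 2, Q 0, Q 0, Q 0, W 1, Q 0, Q 0, Q 0, Q 0, W 0, Q 0, Q 0, Q 0, Q 1, Q 0,
  Q 0, Q 0, Q 0, Q 0, W 1, Q 0, W 25, Q 0, Q 0, Q 0, W 5, Q 0, Q 0, W 19, W 209],
  [Q 27456, Q 64, Q 0, W 1, W 5, W 0, Q 0, Q 4, Q 0, Q 0, Q 0, Q 0, Q 0, W 0, W 3, Q 0, Q 0, Q 1, Q 0, Q 0, W 1, W 0,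
  Q 0, Q 0, Q 0, Q 1, Q 2, Q 0, Q 4, W 1, Q 0, Q 0, Q 0, Q 0, W 8, W 63, W 875],
  [Q 27456, W 447, Q 0, W 3, W 59, Q 0, Q 0, Q 0, Q 0, Q 0, Q 0, Q 0, Q 0, Q 0, Q 6, Q 0, Q 0, Q 1, Q 0, Q 0, Q 1,
  Q 0, Q 0, Q 0, Q 0, W 1, Q 0, Q 0, Q 8, W 1, Q 0, Q 0, W 11, Q 0, Q 6, Q 0, W 119],
  [Q 42900, W 219, Q 0, Q 2, W 5, Q 0, Q 0, W 5, Q 0, Q 0, Q 0, Q 2, Q 0, Q 0, Q 0, Q 0, Q 0, W 0, Q 0, Q 0, Q 1, W 0,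
  Q 0, Q 0, Q 0, Q 0, Q 0, Q 0, W 9, W 3, Q 0, Q 0, W 5, Q 0, Q 0, W 59, W 929],
  [Q 77220, W 395, Q 0, W 5, Q 54, W 0, Q 0, W 3, Q 0, Q 0, Q 0, Q 2, Q 0, Q 0, Q 0, Q 0, Q 0, Q 1, Q 0, Q 0, Q 0,
  Q 0, Q 0, Q 0, Q 0, Q 1, W 1, Q 0, W 11, Q 4, Q 0, Q 0, Q 0, Q 0, Q 15, W 43, W 539],
  [Q 105600, Q 640, Q 0, W 7, W 47, Q 0, Q 0, Q 0, Q 0, Q 0, Q 0, Q 0, Q 0, Q 0, Q 0, Q 0, Q 1, W 0, Q 0, Q 0, Q 2,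
  W 0, Q 0, Q 0, Q 0, Q 0, Q 0, Q 0, W 7, Q 2, Q 0, Q 0, Q 0, Q 0, Q 0, Q 0, Q 120],
  [Q 112320, W 575, Q 0, Q 6, W 53, W 0, Q 0, Q 4, Q 0, Q 0, Q 0, Q 0, Q 0, Q 0, Q 0, Q 0, Q 0, W 0, Q 0, Q 0, Q 0,
  Q 0, Q 0, Q 0, Q 0, Q 1, Q 2, Q 0, Q 12, Q 2, Q 0, Q 0, Q 0, Q 0, Q 15, W 63, Q 540],
  [Q 139776, Q 512, Q 0, W 3, W 59, Q 0, Q 0, Q 0, Q 0, Q 0, Q 0, Q 0, Q 0, W 0, W 3, Q 0, Q 0, Q 0, Q 0, Q 0, W 1,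
  Q 1, Q 0, Q 0, Q 0, W 1, Q 0, Q 0, W 15, Q 0, Q 0, Q 0, Q 0, Q 0, Q 6, Q 0, W 335],
  [Q 144144, W 431, Q 0, Q 0, W 71, Q 0, Q 0, W 1, Q 0, Q 0, Q 0, Q 0, Q 0, Q 0, W 5, Q 0, Q 0, Q 0, Q 0, Q 0, Q 0,
  Q 0, Q 0, Q 0, Q 0, Q 2, W 3, Q 0, Q 18, Q 0, Q 0, Q 0, Q 0, Q 0, W 5, Q 80, W 629],
  [Q 144144, Q 336, Q 0, Q 3, Q 9, Q 1, Q 0, Q 4, W 0, Q 0, Q 0, Q 0, Q 0, Q 1, Q 4, Q 0, Q 0, Q 0, Q 0, Q 0, Q 0,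
  Q 0, Q 0, Q 0, Q 0, W 0, W 0, Q 0, Q 12, Q 0, Q 0, Q 0, Q 9, Q 0, Q 9, W 15, W 1763],
  [Q 171600, Q 400, Q 0, Q 4, W 23, Q 0, Q 0, W 3, Q 0, Q 0, Q 0, Q 0, Q 0, Q 0, Q 0, Q 0, Q 0, Q 1, Q 0, Q 0, Q 1,
  Q 1, Q 0, Q 0, Q 0, Q 0, W 1, Q 0, Q 4, W 1, Q 0, Q 0, Q 6, Q 0, Q 0, W 79, Q 1140],
  [Q 180180, W 923, Q 0, W 2, W 8, Q 1, Q 0, Q 2, W 0, Q 0, Q 0, Q 2, Q 0, Q 0, Q 0, Q 0, Q 0, Q 0, Q 0, Q 0, Q 0,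
  Q 0, Q 0, Q 0, Q 0, W 0, Q 1, Q 0, W 17, Q 0, Q 0, Q 0, Q 9, Q 0, W 14, Q 4, Q 630],
  [Q 300300, W 259, Q 0, Q 1, Q 39, Q 0, Q 0, Q 0, Q 1, Q 0, Q 0, W 1, Q 0, Q 0, Q 0, Q 0, Q 0, Q 0, Q 0, Q 0, Q 1,
  Q 1, Q 0, Q 0, Q 0, Q 0, Q 3, Q 0, W 7, Q 0, Q 0, Q 0, W 2, Q 0, Q 0, Q 60, W 839],
  [Q 436800, Q 320, Q 0, Q 2, Q 42, Q 0, Q 0, Q 0, Q 0, Q 0, Q 0, Q 0, Q 0, Q 0, Q 0, Q 0, Q 0, Q 0, Q 0, Q 0, W 0,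
  W 0, Q 0, Q 0, Q 0, Q 0, Q 0, Q 0, Q 8, Q 0, Q 0, Q 0, W 5, Q 0, Q 0, Q 0, Q 840],
  [Q 22176, Q 288, Q 0, W 11, W 35, Q 2, Q 0, W 3, Q 0, Q 0, Q 0, Q 0, Q 0, Q 2, W 3, Q 0, W 1, Q 0, Q 0, Q 0, Q 0,
  Q 0, Q 0, Q 0, Q 0, Q 2, Q 4, Q 0, Q 12, Q 0, Q 0, Q 0, Q 0, Q 0, Q 6, W 31, Q 252],
  [Q 70200, W 359, Q 0, W 11, Q 108, Q 0, Q 0, Q 4, Q 0, Q 0, Q 0, W 3, Q 0, Q 0, Q 0, Q 0, Q 0, W 0, Q 0, Q 0, Q 0,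
  Q 0, Q 0, Q 0, Q 0, Q 0, W 3, Q 0, Q 12, W 3, Q 0, Q 0, Q 0, Q 0, Q 0, W 39, Q 540],
  [Q 122472, Q 648, Q 0, Q 0, Q 0, W 1, Q 0, Q 0, Q 0, Q 0, Q 0, Q 4, Q 0, Q 0, Q 12, Q 0, W 0, Q 0, Q 0, Q 0, Q 0,
  Q 0, Q 0, Q 0, Q 0, Q 2, Q 0, Q 0, Q 0, Q 0, Q 0, Q 0, Q 0, Q 0, W 17, Q 72, Q 0]]

/-- the rows, second components -/
def rb1 : List (List ℤ) := [
  [Q 0, Q 0, Q 0, Q 0, Q 0, Q 0, Q 0, Q 0, W 1, Q 1, Q 0, Q 0, Q 0, Q 0, Q 0, Q 0, Q 0, Q 0, Q 0, Q 0, Q 1, W 0, Q 0,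
  Q 0, Q 0, Q 0, Q 0, Q 0, Q 0, Q 0, Q 0, Q 0, W 0, Q 0, Q 0, Q 0, Q 0],
  [Q 0, Q 0, Q 0, Q 0, Q 0, Q 0, Q 0, Q 0, Q 0, W 0, Q 0, Q 0, Q 0, Q 0, Q 0, Q 0, Q 0, Q 0, Q 0, Q 0, Q 2, Q 0, Q 0,
  Q 0, Q 0, Q 0, Q 0, Q 0, Q 0, Q 0, Q 0, Q 0, Q 2, Q 0, Q 0, Q 0, Q 0],
  [Q 0, Q 0, Q 0, Q 0, Q 0, Q 0, Q 0, Q 0, W 1, Q 0, Q 0, Q 0, Q 0, Q 0, Q 0, Q 0, Q 0, Q 0, Q 0, Q 0, W 0, Q 1, Q 0,
  Q 0, Q 0, Q 0, Q 0, Q 0, Q 0, Q 0, Q 0, Q 0, W 6, Q 0, Q 0, Q 0, Q 0],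
  [Q 0, Q 0, Q 0, Q 0, Q 0, Q 0, Q 0, Q 0, Q 2, Q 1, Q 0, Q 0, Q 0, Q 0, Q 0, Q 0, Q 0, Q 0, Q 0, Q 0, Q 1, Q 1, Q 0,
  Q 0, Q 0, Q 0, Q 0, Q 0, Q 0, Q 0, Q 0, Q 0, Q 1, Q 0, Q 0, Q 0, Q 0],
  [Q 0, Q 0, Q 0, Q 0, Q 0, Q 0, Q 0, Q 0, Q 0, Q 1, Q 0, Q 0, Q 0, Q 0, Q 0, Q 0, Q 0, Q 0, Q 0, Q 0, Q 1, Q 1, Q 0,
  Q 0, Q 0, Q 0, Q 0, Q 0, Q 0, Q 0, Q 0, Q 0, Q 8, Q 0, Q 0, Q 0, Q 0],
  [Q 0, Q 0, Q 0, Q 0, Q 0, Q 0, Q 0, Q 0, Q 2, Q 0, Q 0, Q 0, Q 0, Q 0, Q 0, Q 0, Q 0, Q 0, Q 0, Q 0, W 1, Q 0, Q 0,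
  Q 0, Q 0, Q 0, Q 0, Q 0, Q 0, Q 0, Q 0, Q 0, W 4, Q 0, Q 0, Q 0, Q 0],
  [Q 0, Q 0, Q 0, Q 0, Q 0, Q 0, Q 0, Q 0, Q 0, Q 0, Q 0, Q 0, Q 0, Q 0, Q 0, Q 0, Q 0, Q 0, Q 0, Q 0, W 0, Q 1, Q 0,
  Q 0, Q 0, Q 0, Q 0, Q 0, Q 0, Q 0, Q 0, Q 0, Q 4, Q 0, Q 0, Q 0, Q 0],
  [Q 0, Q 0, Q 0, Q 0, Q 0, Q 0, Q 0, Q 0, Q 2, Q 0, Q 0, Q 0, Q 0, Q 0, Q 0, Q 0, Q 0, Q 0, Q 0, Q 0, W 0, W 0, Q 0,
  Q 0, Q 0, Q 0, Q 0, Q 0, Q 0, Q 0, Q 0, Q 0, Q 7, Q 0, Q 0, Q 0, Q 0],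
  [Q 0, Q 0, Q 0, Q 0, Q 0, Q 0, Q 0, Q 0, Q 0, Q 0, Q 0, Q 0, Q 0, Q 0, Q 0, Q 0, Q 0, Q 0, Q 0, Q 0, W 0, W 0, Q 0,
  Q 0, Q 0, Q 0, Q 0, Q 0, Q 0, Q 0, Q 0, Q 0, Q 14, Q 0, Q 0, Q 0, Q 0],
  [Q 0, Q 0, Q 0, Q 0, Q 0, Q 0, Q 0, Q 0, Q 0, Q 0, Q 0, Q 0, Q 0, Q 0, Q 0, Q 0, Q 0, Q 0, Q 0, Q 0, W 0, Q 1, Q 0,
  Q 0, Q 0, Q 0, Q 0, Q 0, Q 0, Q 0, Q 0, Q 0, W 13, Q 0, Q 0, Q 0, Q 0],
  [Q 0, Q 0, Q 0, Q 0, Q 0, Q 0, Q 0, Q 0, Q 0, Q 0, Q 0, Q 0, Q 0, Q 0, Q 0, Q 0, Q 0, Q 0, Q 0, Q 0, W 0, W 0, Q 0,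
  Q 0, Q 0, Q 0, Q 0, Q 0, Q 0, Q 0, Q 0, Q 0, W 7, Q 0, Q 0, Q 0, Q 0],
  [Q 0, Q 0, Q 0, Q 0, Q 0, Q 0, Q 0, Q 0, Q 0, Q 0, Q 0, Q 0, Q 0, Q 0, Q 0, Q 0, Q 0, Q 0, Q 0, Q 0, W 0, W 0, Q 0,
  Q 0, Q 0, Q 0, Q 0, Q 0, Q 0, Q 0, Q 0, Q 0, W 3, Q 0, Q 0, Q 0, Q 0],
  [Q 0, Q 0, Q 0, Q 0, Q 0, Q 0, Q 0, Q 0, Q 0, Q 0, Q 0, Q 0, Q 0, Q 0, Q 0, Q 0, Q 0, Q 0, Q 0, Q 0, Q 2, Q 0, Q 0,
  Q 0, Q 0, Q 0, Q 0, Q 0, Q 0, Q 0, Q 0, Q 0, Q 2, Q 0, Q 0, Q 0, Q 0],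
  [Q 0, Q 0, Q 0, Q 0, Q 0, Q 0, Q 0, Q 0, Q 0, Q 0, Q 0, Q 0, Q 0, Q 0, Q 0, Q 0, Q 0, Q 0, Q 0, Q 0, Q 0, Q 0, Q 0,
  Q 0, Q 0, Q 0, Q 0, Q 0, Q 0, Q 0, Q 0, Q 0, Q 0, Q 0, Q 0, Q 0, Q 0],
  [Q 0, Q 0, Q 0, Q 0, Q 0, Q 0, Q 0, Q 0, Q 0, Q 0, Q 0, Q 0, Q 0, Q 0, Q 0, Q 0, Q 0, Q 0, Q 0, Q 0, Q 1, W 0, Q 0,
  Q 0, Q 0, Q 0, Q 0, Q 0, Q 0, Q 0, Q 0, Q 0, W 7, Q 0, Q 0, Q 0, Q 0],
  [Q 0, Q 0, Q 0, Q 0, Q 0, Q 0, Q 0, Q 0, Q 0, W 0, Q 0, Q 0, Q 0, Q 0, Q 0, Q 0, Q 0, Q 0, Q 0, Q 0, Q 0, Q 0, Q 0,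
  Q 0, Q 0, Q 0, Q 0, Q 0, Q 0, Q 0, Q 0, Q 0, Q 0, Q 0, Q 0, Q 0, Q 0],
  [Q 0, Q 0, Q 0, Q 0, Q 0, Q 0, Q 0, Q 0, Q 0, W 0, Q 0, Q 0, Q 0, Q 0, Q 0, Q 0, Q 0, Q 0, Q 0, Q 0, W 0, Q 1, Q 0,
  Q 0, Q 0, Q 0, Q 0, Q 0, Q 0, Q 0, Q 0, Q 0, Q 8, Q 0, Q 0, Q 0, Q 0],
  [Q 0, Q 0, Q 0, Q 0, Q 0, Q 0, Q 0, Q 0, Q 0, Q 0, Q 0, Q 0, Q 0, Q 0, Q 0, Q 0, Q 0, Q 0, Q 0, Q 0, Q 0, Q 0, Q 0,
  Q 0, Q 0, Q 0, Q 0, Q 0, Q 0, Q 0, Q 0, Q 0, Q 0, Q 0, Q 0, Q 0, Q 0],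
  [Q 0, Q 0, Q 0, Q 0, Q 0, Q 0, Q 0, Q 0, W 1, Q 0, Q 0, Q 0, Q 0, Q 0, Q 0, Q 0, Q 0, Q 0, Q 0, Q 0, Q 0, Q 0, Q 0,
  Q 0, Q 0, Q 0, Q 0, Q 0, Q 0, Q 0, Q 0, Q 0, Q 3, Q 0, Q 0, Q 0, Q 0],
  [Q 0, Q 0, Q 0, Q 0, Q 0, Q 0, Q 0, Q 0, Q 0, Q 0, Q 0, Q 0, Q 0, Q 0, Q 0, Q 0, Q 0, Q 0, Q 0, Q 0, Q 2, Q 0, Q 0,
  Q 0, Q 0, Q 0, Q 0, Q 0, Q 0, Q 0, Q 0, Q 0, W 1, Q 0, Q 0, Q 0, Q 0],
  [Q 0, Q 0, Q 0, Q 0, Q 0, Q 0, Q 0, Q 0, W 1, Q 0, Q 0, Q 0, Q 0, Q 0, Q 0, Q 0, Q 0, Q 0, Q 0, Q 0, Q 0, Q 0, Q 0,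
  Q 0, Q 0, Q 0, Q 0, Q 0, Q 0, Q 0, Q 0, Q 0, Q 3, Q 0, Q 0, Q 0, Q 0],
  [Q 0, Q 0, Q 0, Q 0, Q 0, Q 0, Q 0, Q 0, Q 2, Q 0, Q 0, Q 0, Q 0, Q 0, Q 0, Q 0, Q 0, Q 0, Q 0, Q 0, Q 2, Q 0, Q 0,
  Q 0, Q 0, Q 0, Q 0, Q 0, Q 0, Q 0, Q 0, Q 0, W 4, Q 0, Q 0, Q 0, Q 0],
  [Q 0, Q 0, Q 0, Q 0, Q 0, Q 0, Q 0, Q 0, Q 0, Q 1, Q 0, Q 0, Q 0, Q 0, Q 0, Q 0, Q 0, Q 0, Q 0, Q 0, W 1, Q 0, Q 0,
  Q 0, Q 0, Q 0, Q 0, Q 0, Q 0, Q 0, Q 0, Q 0, Q 2, Q 0, Q 0, Q 0, Q 0],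
  [Q 0, Q 0, Q 0, Q 0, Q 0, Q 0, Q 0, Q 0, Q 0, Q 0, Q 0, Q 0, Q 0, Q 0, Q 0, Q 0, Q 0, Q 0, Q 0, Q 0, Q 0, Q 0, Q 0,
  Q 0, Q 0, Q 0, Q 0, Q 0, Q 0, Q 0, Q 0, Q 0, Q 0, Q 0, Q 0, Q 0, Q 0],
  [Q 0, Q 0, Q 0, Q 0, Q 0, Q 0, Q 0, Q 0, Q 0, W 1, Q 0, Q 0, Q 0, Q 0, Q 0, Q 0, Q 0, Q 0, Q 0, Q 0, Q 0, Q 0, Q 0,
  Q 0, Q 0, Q 0, Q 0, Q 0, Q 0, Q 0, Q 0, Q 0, Q 0, Q 0, Q 0, Q 0, Q 0],
  [Q 0, Q 0, Q 0, Q 0, Q 0, Q 0, Q 0, Q 0, Q 0, W 1, Q 0, Q 0, Q 0, Q 0, Q 0, Q 0, Q 0, Q 0, Q 0, Q 0, Q 0, Q 0, Q 0,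
  Q 0, Q 0, Q 0, Q 0, Q 0, Q 0, Q 0, Q 0, Q 0, Q 0, Q 0, Q 0, Q 0, Q 0]]

/-- the norms -/
def mm1 : List ℕ := [
  1, 1, 1, 1, 1, 1, 1, 1, 1, 1, 1, 1, 1, 1, 1, 1, 1, 1, 1, 1, 1, 1, 1, 2, 2, 2]

/-- the degrees -/
def bb1 : List ℕ := [
  12, 780, 924, 4368, 4368, 8580, 12012, 12012, 12012, 23100, 27456, 27456, 42900, 77220, 105600, 112320, 139776,
  144144, 144144, 171600, 180180, 300300, 436800, 11088, 35100, 61236]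

/-- the coefficients -/
def cf2 : List (List (List (ℤ × ℕ))) := [
  [[(Q 1, 0)], [], []],
  [[(W 0, 0)], [(Q 1, 0)], []],
  [[(Q 1, 1), (Q 2, 3), (W 0, 5), (Q 1, 6), (Q 3, 7), (W 0, 8), (Q 1, 11), (Q 1, 31), (W 0, 33)], [(W 0, 2), (W 0, 3),
  (Q 1, 4), (W 0, 6), (W 0, 7), (Q 1, 8)], [(W 0, 3), (Q 1, 4)]],
  [[(W 0, 0), (W 6, 1), (W 0, 2), (W 4, 3), (W 5, 5), (W 0, 7), (W 0, 11), (W 0, 12), (W 0, 15), (W 3, 31),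
  (W 0, 33)], [(W 0, 0), (Q 6, 1), (Q 1, 2), (Q 2, 3), (Q 2, 4), (Q 2, 5), (W 1, 6), (Q 1, 7), (Q 1, 9), (Q 3, 11),
  (Q 1, 31)], [(Q 3, 0), (Q 2, 1), (Q 1, 3)]],
  [[(W 3, 1), (W 4, 3), (Q 1, 4), (W 2, 5), (W 1, 6), (W 3, 7), (Q 1, 8), (W 1, 11), (W 0, 15), (W 2, 31), (Q 1, 33)],
  [(W 0, 0), (Q 3, 1), (Q 1, 2), (Q 2, 3), (Q 2, 5), (Q 1, 6), (Q 2, 7), (W 0, 8), (Q 2, 11)], [(Q 1, 0), (Q 2, 1),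
  (Q 1, 3), (W 0, 4)]],
  [[], [], [(Q 1, 0)]],
  [[(W 0, 0), (W 1, 1), (W 1, 3), (W 0, 4), (W 0, 5), (W 0, 31)], [(Q 1, 0), (Q 1, 1), (Q 1, 3), (Q 1, 4), (Q 1, 5)],
  [(Q 1, 1)]],
  [[(W 0, 1), (Q 2, 3), (W 0, 5), (Q 1, 6), (Q 3, 7), (W 0, 8), (Q 1, 11), (Q 1, 31), (W 0, 33)], [(Q 1, 1), (W 0, 2),
  (W 0, 3), (Q 1, 4), (W 0, 6), (W 0, 7), (Q 1, 8)], [(Q 1, 0), (W 0, 3), (Q 1, 4)]],
  [[(W 1, 3), (Q 1, 5), (W 0, 6), (W 2, 7), (Q 1, 8), (W 0, 11), (W 0, 31), (Q 1, 33)], [(W 0, 0), (Q 1, 2), (Q 1, 3),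
  (W 0, 4), (Q 1, 6), (Q 1, 7), (W 0, 8)], [(W 0, 0), (Q 1, 3), (W 0, 4)]],
  [[(W 0, 0), (W 1, 1), (W 1, 3), (W 0, 4), (W 0, 5), (W 0, 6), (W 0, 11), (W 0, 31)], [(Q 2, 1), (Q 1, 3), (Q 1, 4),
  (Q 1, 5), (Q 2, 11)], [(Q 1, 1), (W 0, 3), (W 0, 4)]],
  [[(Q 5, 1), (Q 8, 3), (Q 4, 5), (Q 3, 6), (Q 4, 7), (W 0, 8), (Q 3, 11), (Q 1, 15), (Q 4, 31), (W 0, 33)],
  [(Q 2, 0), (W 4, 1), (W 0, 2), (W 2, 3), (W 0, 4), (W 2, 5), (W 0, 6), (W 1, 7), (Q 1, 8), (W 3, 11)], [(W 0, 0),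
  (W 2, 1), (Q 2, 4)]],
  [[(W 1, 0), (W 4, 1), (Q 1, 2), (W 2, 3), (W 0, 4), (W 2, 5), (W 1, 6), (W 1, 7), (Q 1, 8), (W 0, 10), (W 1, 11),
  (W 0, 12), (Q 1, 13), (W 0, 14), (W 3, 31)], [(W 0, 0), (Q 4, 1), (Q 1, 3), (Q 1, 4), (Q 1, 5), (Q 1, 7), (W 0, 8),
  (Q 1, 9), (Q 2, 11), (Q 1, 31)], [(Q 2, 0), (Q 2, 1), (W 0, 2), (Q 1, 3)]],
  [[(Q 1, 2)], [], []],
  [[(Q 1, 0), (Q 7, 1), (Q 5, 3), (Q 6, 5), (Q 1, 7), (Q 1, 11), (Q 1, 12), (Q 1, 15), (Q 4, 31), (Q 1, 33)],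
  [(Q 1, 0), (W 5, 1), (W 1, 3), (W 1, 4), (W 1, 5), (Q 2, 6), (W 0, 7), (W 0, 9), (W 2, 11), (W 0, 31)], [(W 2, 0),
  (W 1, 1), (W 0, 3)]],
  [[(Q 1, 0), (Q 6, 1), (Q 7, 3), (Q 1, 4), (Q 3, 5), (Q 3, 6), (Q 3, 7), (W 0, 8), (Q 1, 11), (Q 1, 15), (Q 4, 31),
  (W 0, 33)], [(Q 1, 0), (W 4, 1), (W 0, 2), (W 1, 3), (W 0, 4), (W 2, 5), (W 0, 6), (W 1, 7), (Q 1, 8), (W 1, 11)],
  [(W 1, 0), (W 2, 1), (Q 1, 4)]],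
  [[(Q 9, 1), (Q 1, 2), (Q 11, 3), (W 0, 4), (Q 5, 5), (Q 6, 6), (Q 6, 7), (W 2, 8), (Q 1, 9), (W 0, 10), (Q 5, 11),
  (W 0, 12), (W 0, 14), (Q 1, 15), (Q 8, 31), (W 0, 33)], [(Q 3, 0), (W 5, 1), (W 2, 2), (W 3, 3), (Q 2, 4), (W 2, 5),
  (W 2, 6), (W 1, 7), (Q 3, 8), (W 3, 11), (W 1, 31)], [(W 3, 1), (Q 1, 2), (W 2, 3), (Q 4, 4)]],
  [[(Q 1, 3), (W 0, 5), (Q 1, 6), (Q 3, 7), (W 0, 8), (Q 1, 11), (Q 1, 31), (W 0, 33)], [(Q 1, 0), (W 0, 2), (Q 1, 4),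
  (W 0, 6), (W 0, 7), (Q 1, 8)], [(W 0, 3), (Q 1, 4)]],
  [[(Q 1, 0), (Q 2, 1), (W 0, 3), (Q 2, 5), (W 1, 6), (W 1, 7), (Q 1, 8), (Q 1, 9), (W 0, 11), (Q 1, 12), (Q 1, 31),
  (Q 2, 33)], [(W 0, 0), (W 0, 1), (Q 1, 2), (W 0, 4), (Q 1, 5), (Q 2, 6), (Q 1, 7), (W 0, 8), (W 0, 9), (W 0, 31)],
  [(W 1, 0), (W 0, 3), (W 1, 4)]],
  [[(Q 4, 1), (Q 5, 3), (Q 3, 5), (Q 2, 6), (Q 4, 7), (W 0, 8), (Q 2, 11), (Q 1, 15), (Q 3, 31), (W 0, 33)],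
  [(Q 1, 0), (W 2, 1), (W 0, 2), (W 1, 3), (W 1, 5), (W 0, 6), (W 1, 7), (Q 1, 8), (W 1, 11)], [(W 0, 0), (W 1, 1),
  (W 0, 3), (Q 1, 4)]],
  [[(Q 1, 0), (Q 2, 1), (Q 2, 3), (Q 1, 5), (Q 1, 31)], [(W 0, 0), (W 0, 1), (W 0, 3), (W 0, 5)], [(W 0, 1)]],
  [[(W 0, 0), (W 5, 1), (W 4, 3), (W 2, 5), (W 2, 6), (W 2, 7), (Q 1, 8), (W 1, 11), (W 0, 12), (W 3, 31)], [(W 1, 0),
  (Q 5, 1), (Q 1, 2), (Q 2, 3), (Q 1, 5), (Q 1, 7), (W 0, 8), (Q 1, 9), (Q 3, 11), (Q 1, 31)], [(Q 1, 0), (Q 2, 1),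
  (Q 1, 3), (W 1, 4)]],
  [[(Q 6, 1), (Q 7, 3), (Q 4, 5), (Q 2, 6), (Q 3, 7), (W 0, 8), (Q 1, 11), (Q 1, 15), (Q 3, 31), (W 0, 33)],
  [(Q 1, 0), (W 4, 1), (W 0, 2), (W 1, 3), (W 0, 4), (W 3, 5), (W 0, 6), (W 1, 7), (Q 1, 8), (W 1, 11), (Q 1, 31)],
  [(W 1, 0), (W 2, 1), (Q 1, 4)]],
  [[(W 0, 0), (W 2, 1), (W 1, 3), (W 1, 5), (W 0, 9), (W 0, 11), (W 1, 31), (W 0, 33)], [(Q 2, 1), (Q 1, 3), (W 0, 6),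
  (Q 1, 9), (Q 1, 11), (Q 1, 31)], [(Q 1, 1), (Q 1, 3)]],
  [[(W 0, 1), (W 1, 3), (Q 1, 5), (W 1, 6), (W 1, 7), (Q 1, 8), (W 0, 31), (Q 1, 33)], [(W 0, 0), (Q 1, 1), (Q 1, 2),
  (W 0, 4), (Q 1, 6), (Q 1, 7), (W 0, 8)], [(Q 1, 1), (W 0, 4)]],
  [[(Q 1, 0), (W 1, 1), (W 0, 2), (W 2, 3), (W 2, 5), (Q 1, 10), (W 0, 15)], [(Q 2, 1), (Q 2, 3), (Q 2, 4), (Q 2, 5),
  (Q 2, 11), (W 0, 31)], [(Q 1, 0), (Q 1, 1), (W 0, 3)]],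
  [[(W 1, 1), (W 3, 3), (W 1, 5), (W 1, 6), (W 2, 7), (Q 1, 8), (W 1, 11), (W 1, 31), (Q 1, 33)], [(W 0, 0), (Q 2, 1),
  (Q 1, 2), (Q 2, 3), (Q 2, 5), (Q 1, 6), (Q 1, 7), (W 0, 8), (Q 2, 11)], [(Q 1, 1), (W 1, 4)]],
  [[(Q 2, 1), (Q 1, 3), (Q 2, 6), (Q 2, 7), (W 0, 8), (Q 1, 11), (Q 2, 31)], [(Q 1, 0), (W 0, 1), (W 0, 2), (Q 1, 3),
  (Q 1, 4), (W 0, 6), (W 0, 7), (Q 1, 8), (W 0, 31)], [(W 0, 0), (W 0, 1), (W 0, 3)]],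
  [[(W 0, 0), (Q 1, 1), (Q 1, 2), (Q 1, 3), (W 0, 4), (Q 1, 5), (Q 1, 6), (W 0, 8), (Q 1, 9), (W 0, 10), (Q 1, 11),
  (W 0, 12), (W 0, 14), (Q 2, 31), (Q 1, 33)], [(Q 1, 1), (W 0, 2), (W 0, 3), (Q 2, 4), (Q 1, 5), (W 0, 6), (Q 1, 7),
  (Q 1, 8), (W 1, 31)], [(Q 1, 0), (Q 1, 2), (W 1, 3), (Q 1, 4)]],
  [[(W 2, 1), (W 0, 2), (W 3, 3), (Q 1, 4), (W 3, 5), (W 0, 6), (Q 1, 8), (W 0, 9), (Q 1, 10), (W 2, 11), (Q 1, 12),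
  (Q 1, 14), (W 3, 31), (W 0, 33)], [(Q 1, 1), (Q 1, 2), (Q 3, 3), (W 0, 4), (Q 1, 5), (Q 1, 6), (W 0, 7), (W 0, 8),
  (Q 2, 11), (Q 2, 31)], [(W 0, 0), (Q 1, 1), (W 0, 2), (Q 2, 3), (W 1, 4)]],
  [[(W 0, 1), (W 2, 5), (Q 1, 6), (Q 1, 7), (W 0, 8), (W 0, 11), (W 0, 33)], [(Q 1, 1), (W 0, 2), (Q 2, 3), (Q 1, 4),
  (W 0, 6), (W 0, 7), (Q 1, 8), (Q 2, 11)], []],
  [[(Q 3, 1), (Q 6, 3), (Q 3, 5), (Q 3, 6), (Q 2, 7), (W 0, 10), (Q 3, 11), (Q 2, 31), (W 0, 33)], [(Q 1, 0),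
  (W 2, 1), (W 0, 2), (W 3, 3), (W 0, 4), (W 2, 5), (W 1, 6), (Q 1, 8), (W 3, 11), (Q 1, 31)], [(Q 1, 0), (W 1, 1),
  (Q 1, 3), (Q 3, 4)]],
  [[(W 7, 1), (W 10, 3), (Q 1, 4), (W 4, 5), (W 5, 6), (W 4, 7), (Q 2, 8), (W 0, 9), (Q 1, 10), (W 4, 11), (Q 1, 12),
  (Q 1, 14), (W 6, 31), (Q 1, 33)], [(W 1, 0), (Q 5, 1), (Q 3, 2), (Q 5, 3), (W 1, 4), (Q 4, 5), (Q 4, 6), (Q 1, 7),
  (W 2, 8), (Q 4, 11), (Q 1, 31)], [(W 0, 0), (Q 4, 1), (Q 2, 3), (W 4, 4)]],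
  [[(Q 1, 0), (W 2, 1), (W 4, 3), (W 0, 5), (W 2, 6), (W 4, 7), (Q 1, 8), (Q 1, 9), (W 0, 11), (W 0, 15), (W 1, 31),
  (Q 2, 33)], [(W 1, 0), (Q 3, 1), (Q 1, 2), (Q 3, 5), (Q 2, 6), (Q 3, 7), (W 0, 8), (W 0, 9), (Q 1, 11), (W 0, 31)],
  [(Q 2, 0), (Q 2, 1), (W 0, 4)]],
  [[(Q 3, 1), (Q 4, 3), (Q 4, 5), (Q 1, 6), (Q 1, 7), (Q 2, 11), (Q 2, 31)], [(Q 1, 0), (W 2, 1), (W 2, 3), (W 0, 4),
  (W 1, 5), (W 2, 11)], [(W 0, 1), (Q 2, 4)]],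
  [[(W 4, 0), (Q 45, 1), (Q 2, 2), (Q 57, 3), (W 4, 4), (Q 16, 5), (Q 31, 6), (Q 48, 7), (W 18, 8), (W 0, 9),
  (W 1, 10), (Q 15, 11), (W 3, 12), (W 0, 13), (W 4, 14), (Q 10, 15), (Q 1, 26), (Q 37, 31), (W 12, 33)], [(Q 16, 0),
  (W 29, 1), (W 15, 2), (W 4, 3), (Q 13, 4), (W 21, 5), (W 19, 6), (W 25, 7), (Q 17, 8), (Q 4, 9), (W 6, 11),
  (W 2, 31)], [(W 14, 0), (W 23, 1), (W 14, 3), (Q 11, 4)]],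
  [[(W 3, 0), (Q 18, 1), (Q 2, 2), (Q 30, 3), (W 5, 4), (Q 4, 5), (Q 20, 6), (Q 26, 7), (W 9, 8), (Q 2, 9), (W 3, 10),
  (Q 14, 11), (W 5, 12), (W 5, 14), (Q 2, 15), (Q 20, 31), (W 5, 33), (Q 1, 36)], [(Q 8, 0), (W 7, 1), (W 11, 2),
  (W 5, 3), (Q 16, 4), (W 7, 5), (W 15, 6), (W 9, 7), (Q 12, 8), (Q 2, 9), (W 3, 11), (W 3, 31)], [(Q 2, 0),
  (W 11, 1), (W 9, 3), (Q 12, 4)]]]

/-- the rows, first components -/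
def ra2 : List (List ℤ) := [
  [Q 66, Q 2, Q 2, W 0, Q 3, Q 0, Q 0, Q 1, W 0, Q 0, W 0, Q 2, Q 1, Q 1, Q 1, Q 0, Q 1, Q 0, Q 0, Q 0, W 0, W 0, Q 0,
  Q 0, Q 1, Q 2, Q 1, W 0, Q 5, Q 3, Q 2, Q 6, Q 4, W 1, Q 6, Q 10, Q 21],
  [Q 78, Q 14, W 1, Q 2, Q 6, Q 1, Q 0, Q 3, W 1, W 0, Q 1, Q 2, W 0, Q 0, Q 3, Q 0, Q 0, Q 1, Q 0, Q 0, Q 1, Q 0,
  Q 0, Q 0, W 0, W 0, Q 0, Q 1, W 0, Q 1, W 1, W 5, Q 4, Q 2, Q 3, Q 6, Q 15],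
  [Q 429, W 18, W 2, Q 2, Q 6, Q 1, Q 0, W 2, Q 0, Q 0, Q 2, Q 1, W 0, W 0, W 0, Q 0, Q 0, W 0, Q 0, Q 0, W 1, Q 1,
  W 2, Q 0, Q 1, Q 1, Q 0, Q 1, Q 5, Q 2, Q 1, Q 9, Q 4, Q 1, Q 9, Q 21, Q 69],
  [Q 1365, Q 85, Q 5, Q 4, Q 24, Q 0, Q 0, W 0, Q 2, W 0, Q 0, Q 1, Q 1, W 0, Q 5, Q 0, Q 0, Q 0, Q 0, Q 0, Q 1, Q 0,
  Q 3, Q 0, W 0, Q 0, Q 2, Q 1, W 4, Q 0, Q 1, Q 21, W 3, Q 5, Q 0, Q 5, W 20],
  [Q 1716, Q 52, Q 4, Q 1, W 2, Q 0, Q 0, Q 5, Q 1, Q 0, Q 1, Q 0, Q 1, Q 1, Q 1, Q 0, Q 0, Q 1, Q 0, Q 0, Q 1, Q 1,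
  Q 0, Q 0, Q 1, Q 2, W 0, Q 1, Q 13, Q 1, Q 4, Q 36, W 3, Q 4, Q 6, Q 20, Q 141],
  [Q 2145, W 30, Q 1, W 0, Q 3, W 0, Q 0, W 1, Q 1, Q 0, W 0, Q 1, Q 0, Q 0, Q 0, Q 0, Q 0, Q 0, Q 0, Q 0, W 0, Q 0,
  Q 3, Q 0, W 1, W 0, Q 1, Q 0, Q 2, Q 3, W 2, W 14, Q 4, Q 1, Q 15, Q 49, Q 210],
  [Q 3003, Q 59, W 4, W 0, Q 15, Q 1, Q 0, Q 5, Q 1, Q 0, Q 0, Q 3, W 0, Q 0, Q 3, Q 0, Q 0, Q 0, Q 0, Q 0, Q 1, W 0,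
  W 2, Q 0, Q 1, W 0, W 0, W 0, W 6, Q 0, W 0, W 20, W 7, W 4, Q 3, Q 11, Q 105],
  [Q 4290, Q 130, Q 2, Q 1, Q 33, Q 0, Q 0, Q 1, W 0, Q 0, W 0, Q 2, Q 1, W 0, Q 5, Q 0, Q 0, W 0, Q 0, Q 0, Q 1, Q 1,
  Q 0, Q 0, Q 1, Q 0, Q 1, W 0, W 10, W 0, Q 2, Q 6, Q 8, W 1, Q 0, Q 10, Q 69],
  [Q 6720, Q 64, Q 0, W 1, Q 6, W 0, Q 0, Q 4, Q 0, Q 1, Q 0, Q 0, Q 0, Q 0, Q 0, Q 0, W 0, Q 0, Q 0, Q 0, Q 1, Q 0,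
  Q 0, Q 0, Q 0, W 0, W 1, Q 0, Q 4, Q 0, Q 0, Q 0, Q 8, Q 0, Q 15, Q 64, Q 420],
  [Q 18954, W 53, W 5, Q 0, Q 0, Q 1, Q 0, W 2, Q 0, W 0, W 1, W 1, W 0, W 0, W 0, Q 0, Q 0, Q 1, Q 0, Q 0, Q 0, Q 0,
  Q 0, Q 0, Q 1, Q 1, Q 0, W 0, Q 9, W 1, Q 2, Q 54, Q 0, W 1, Q 9, Q 66, Q 729],
  [Q 21450, Q 10, W 5, Q 4, W 23, Q 0, Q 0, W 0, Q 0, Q 0, Q 2, W 1, Q 0, Q 0, Q 0, Q 0, Q 0, W 0, Q 0, Q 0, Q 2, W 0,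
  Q 0, Q 0, W 0, Q 0, Q 2, W 0, Q 7, Q 2, Q 2, Q 30, W 3, W 9, Q 0, Q 50, Q 615],
  [Q 23100, W 259, Q 12, Q 4, Q 24, Q 0, Q 0, Q 2, Q 0, Q 0, Q 0, Q 0, Q 0, Q 0, Q 0, Q 0, W 0, Q 0, Q 0, Q 0, W 1,
  W 0, Q 6, Q 0, Q 2, Q 0, Q 2, Q 0, W 1, Q 0, Q 0, Q 0, W 3, Q 8, Q 0, Q 20, W 209],
  [Q 24024, Q 88, W 7, W 4, Q 39, Q 0, Q 0, W 1, Q 1, Q 0, Q 0, Q 0, Q 0, Q 1, Q 4, Q 0, Q 0, Q 0, Q 0, Q 0, W 0, Q 1,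
  Q 0, Q 0, Q 2, W 1, Q 1, Q 0, Q 10, Q 0, Q 0, Q 0, W 3, W 15, W 5, Q 40, W 293],
  [Q 27027, Q 531, Q 3, Q 6, Q 54, W 0, Q 0, W 4, Q 0, Q 0, Q 0, W 0, W 0, Q 1, Q 7, Q 0, Q 0, Q 0, Q 0, Q 0, Q 0,
  Q 0, W 2, Q 0, W 0, Q 1, W 1, W 0, Q 3, Q 0, W 0, W 20, Q 0, Q 11, W 2, Q 19, W 188],
  [Q 30888, W 215, Q 8, Q 3, Q 27, Q 1, Q 0, W 3, W 0, Q 0, Q 1, Q 0, Q 2, Q 1, W 1, Q 0, Q 0, Q 0, Q 0, Q 0, Q 0,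
  Q 0, Q 0, Q 0, Q 0, W 0, W 0, Q 0, W 11, W 2, Q 0, W 47, Q 0, Q 0, Q 3, Q 56, Q 756],
  [Q 42900, Q 340, Q 4, Q 1, Q 33, Q 0, Q 0, Q 4, Q 1, Q 0, Q 1, Q 0, Q 0, Q 0, Q 0, Q 0, Q 0, Q 0, Q 0, Q 0, W 1,
  W 0, W 5, Q 0, Q 0, Q 0, Q 1, Q 0, Q 4, W 2, Q 0, Q 120, Q 8, Q 0, Q 0, W 19, Q 420],
  [Q 51975, Q 135, Q 7, W 2, W 26, Q 0, Q 0, Q 1, Q 1, Q 0, Q 0, W 0, Q 0, Q 0, Q 0, Q 0, Q 1, Q 0, Q 0, Q 0, Q 0,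
  Q 0, W 2, Q 0, Q 1, Q 0, Q 1, Q 1, W 14, Q 0, W 4, W 104, Q 0, Q 7, Q 0, Q 55, Q 945],
  [Q 60060, W 99, Q 12, Q 2, Q 30, Q 0, Q 0, Q 1, Q 0, Q 0, Q 0, Q 0, W 0, Q 1, W 4, Q 0, Q 0, Q 0, Q 0, Q 0, Q 2,
  Q 1, Q 0, Q 0, Q 1, Q 0, Q 4, W 0, Q 5, Q 0, W 3, Q 84, Q 4, Q 4, Q 0, W 19, Q 21],
  [Q 64350, Q 30, Q 14, W 2, Q 9, Q 0, Q 0, W 0, W 0, Q 0, W 0, Q 2, Q 0, Q 0, Q 0, Q 0, Q 0, W 0, Q 0, Q 0, Q 0, Q 0,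
  Q 0, Q 0, W 0, Q 0, W 0, Q 1, Q 27, W 0, W 1, Q 90, W 11, Q 2, Q 0, W 9, Q 1035],
  [Q 75075, Q 515, W 12, Q 5, W 2, Q 0, Q 0, Q 7, W 0, Q 0, Q 0, W 0, Q 0, Q 0, Q 0, Q 0, Q 0, Q 0, Q 0, Q 0, W 1,
  Q 1, Q 3, Q 0, W 0, Q 0, Q 1, W 0, W 0, Q 0, W 0, W 104, W 7, W 0, Q 0, W 4, Q 735],
  [Q 75075, Q 515, W 12, W 0, Q 51, Q 0, Q 0, W 1, W 0, Q 0, Q 0, W 0, Q 0, Q 0, Q 0, Q 0, Q 0, Q 0, Q 0, Q 0, Q 1,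
  W 0, Q 3, Q 0, Q 2, Q 0, Q 1, Q 2, Q 14, Q 0, W 0, W 104, Q 4, W 0, Q 0, W 4, W 209],
  [Q 85800, Q 40, Q 8, W 4, Q 39, Q 0, Q 0, W 1, W 0, Q 0, Q 1, Q 0, Q 0, Q 0, Q 0, Q 0, Q 0, Q 1, Q 0, Q 0, W 0, Q 0,
  Q 0, Q 0, W 1, Q 0, Q 1, Q 0, W 13, Q 1, Q 0, Q 120, W 3, W 7, Q 0, Q 40, W 509],
  [Q 104247, Q 567, W 8, Q 0, Q 0, Q 1, Q 0, Q 0, Q 0, Q 0, W 0, W 0, Q 1, Q 0, W 2, Q 0, Q 0, Q 0, Q 0, Q 0, Q 0,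
  Q 0, W 2, Q 0, Q 0, W 2, Q 0, Q 0, Q 0, Q 3, Q 3, Q 111, Q 0, Q 15, W 2, W 8, Q 0],
  [Q 108108, W 179, W 3, W 2, W 26, W 1, Q 0, Q 1, W 0, Q 0, Q 0, Q 0, W 0, Q 0, Q 3, Q 0, Q 0, Q 0, Q 0, Q 0, Q 0,
  Q 0, Q 0, Q 0, Q 1, Q 0, Q 1, Q 1, W 14, Q 0, Q 4, Q 84, Q 0, Q 4, W 11, Q 28, Q 945],
  [Q 133056, W 575, Q 0, Q 6, Q 54, W 0, Q 0, Q 4, Q 0, Q 0, Q 0, Q 0, Q 0, W 0, W 3, Q 0, Q 1, Q 0, Q 0, Q 0, Q 0,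
  Q 0, Q 0, Q 0, Q 0, W 0, W 1, Q 0, Q 12, Q 0, Q 0, Q 0, Q 0, Q 0, W 8, Q 64, W 755],
  [Q 135135, W 224, W 16, Q 3, Q 27, Q 0, Q 0, W 3, Q 1, Q 0, Q 0, Q 3, W 0, Q 1, W 4, Q 0, Q 0, Q 0, Q 0, Q 0, Q 0,
  Q 0, Q 3, Q 0, Q 0, Q 0, W 0, Q 0, W 11, Q 0, Q 3, W 20, Q 0, Q 3, Q 0, W 24, Q 756],
  [Q 139776, Q 512, Q 0, W 3, Q 60, Q 0, Q 0, Q 0, Q 0, Q 1, Q 0, Q 0, Q 0, W 0, W 3, Q 0, Q 0, Q 0, Q 0, Q 0, Q 1,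
  Q 0, Q 0, Q 0, Q 0, Q 2, Q 0, Q 0, W 15, Q 0, Q 0, Q 0, W 7, Q 0, Q 6, Q 0, W 335],
  [Q 160380, W 323, Q 12, Q 0, Q 0, Q 1, Q 0, Q 0, Q 0, Q 0, W 0, Q 0, Q 0, Q 0, Q 0, Q 0, W 0, Q 0, Q 0, Q 0, Q 0,
  Q 0, W 5, Q 0, Q 0, Q 1, Q 0, Q 0, Q 0, Q 3, Q 0, W 119, Q 0, Q 0, W 14, Q 36, Q 0],
  [Q 180180, Q 276, Q 4, W 2, Q 9, Q 1, Q 0, Q 2, Q 1, Q 0, Q 0, Q 0, Q 0, Q 0, Q 0, Q 0, Q 0, Q 0, Q 0, Q 0, Q 0,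
  Q 0, Q 6, Q 0, W 1, Q 1, W 0, Q 0, Q 6, Q 0, Q 0, Q 0, Q 12, W 7, W 14, W 3, Q 630],
  [Q 189540, W 539, W 11, Q 0, Q 0, Q 0, Q 0, W 2, Q 0, Q 1, Q 1, Q 0, Q 1, W 0, Q 5, Q 0, Q 0, Q 1, Q 0, Q 0, Q 0,
  Q 0, Q 0, Q 0, Q 1, Q 0, Q 0, W 0, Q 9, Q 1, W 3, Q 36, Q 0, Q 4, Q 0, W 59, Q 729],
  [Q 193050, Q 90, W 5, W 5, W 53, Q 0, Q 0, W 0, Q 0, Q 0, Q 1, Q 2, Q 0, Q 0, Q 0, Q 0, Q 0, Q 0, Q 0, Q 0, Q 0,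
  Q 0, Q 0, Q 0, W 0, Q 0, Q 2, W 0, Q 15, W 2, Q 2, W 89, Q 0, Q 14, Q 0, Q 50, W 944],
  [Q 208494, W 593, W 17, Q 0, Q 0, Q 1, Q 0, Q 3, Q 0, Q 0, W 0, W 1, Q 0, Q 1, Q 4, Q 0, Q 0, W 0, Q 0, Q 0, Q 0,
  Q 0, Q 0, Q 0, W 0, Q 1, Q 0, Q 1, W 8, W 0, W 1, Q 90, Q 0, Q 2, Q 9, Q 6, W 728],
  [Q 225225, Q 585, Q 9, Q 6, W 89, Q 0, Q 0, W 1, Q 0, Q 0, Q 0, Q 1, Q 0, Q 0, Q 0, Q 0, Q 0, Q 0, Q 0, Q 0, Q 0,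
  Q 0, Q 3, Q 0, Q 2, Q 0, W 1, Q 0, W 5, Q 0, W 2, Q 105, Q 0, W 6, Q 0, Q 25, W 629],
  [Q 331695, W 80, Q 15, Q 0, Q 0, W 0, Q 0, Q 0, Q 0, W 0, Q 0, W 0, Q 0, Q 0, Q 0, Q 0, Q 0, Q 0, Q 0, Q 0, Q 0,
  Q 0, W 2, Q 0, Q 0, W 0, Q 0, Q 0, Q 0, Q 0, Q 3, W 104, Q 0, W 8, Q 15, W 80, Q 0],
  [Q 5850, Q 90, W 5, Q 12, W 35, Q 0, Q 0, W 1, Q 0, Q 2, W 1, Q 2, Q 0, Q 0, Q 0, Q 0, Q 0, Q 1, Q 0, Q 0, Q 0, Q 0,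
  W 5, Q 0, W 1, Q 0, Q 4, Q 2, Q 6, W 1, Q 2, W 29, Q 0, W 13, Q 0, Q 10, W 89],
  [Q 10206, W 161, Q 30, Q 0, Q 0, Q 2, Q 0, Q 0, Q 0, Q 2, Q 0, W 1, W 1, Q 0, Q 6, Q 0, Q 1, Q 0, Q 0, Q 0, Q 0,
  Q 0, Q 6, Q 0, Q 0, W 1, Q 0, Q 0, Q 0, Q 0, Q 6, W 41, Q 0, Q 6, Q 6, W 17, Q 0]]

/-- the rows, second components -/
def rb2 : List (List ℤ) := [
  [Q 0, Q 0, Q 0, Q 0, Q 0, Q 0, Q 0, Q 0, Q 0, Q 0, Q 0, Q 0, Q 0, Q 0, Q 0, Q 0, Q 0, Q 0, Q 0, Q 0, W 1, Q 0, Q 0,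
  Q 0, Q 0, Q 0, Q 0, Q 0, Q 0, Q 0, Q 0, Q 0, Q 1, Q 0, Q 0, Q 0, Q 0],
  [Q 0, Q 0, Q 0, Q 0, Q 0, Q 0, Q 0, Q 0, Q 0, W 0, Q 0, Q 0, Q 0, Q 0, Q 0, Q 0, Q 0, Q 0, Q 0, Q 0, W 0, W 0, Q 0,
  Q 0, Q 0, Q 0, Q 0, Q 0, Q 0, Q 0, Q 0, Q 0, Q 4, Q 0, Q 0, Q 0, Q 0],
  [Q 0, Q 0, Q 0, Q 0, Q 0, Q 0, Q 0, Q 0, Q 0, Q 0, Q 0, Q 0, Q 0, Q 0, Q 0, Q 0, Q 0, Q 0, Q 0, Q 0, W 0, Q 1, W 2,
  W 0, Q 0, Q 0, Q 0, Q 0, Q 0, Q 0, Q 0, Q 0, W 1, Q 0, Q 0, Q 0, Q 0],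
  [Q 0, Q 0, Q 0, Q 0, Q 0, Q 0, Q 0, Q 0, Q 0, W 0, Q 0, Q 0, Q 0, Q 0, Q 0, Q 0, Q 0, Q 0, Q 0, Q 0, W 0, Q 1, Q 3,
  Q 1, Q 0, Q 0, Q 0, Q 0, Q 0, Q 0, Q 0, Q 0, W 3, Q 0, Q 0, Q 0, Q 0],
  [Q 0, Q 0, Q 0, Q 0, Q 0, Q 0, Q 0, Q 0, Q 0, Q 0, Q 0, Q 0, Q 0, Q 0, Q 0, Q 0, Q 0, Q 0, Q 0, Q 0, Q 2, Q 0, Q 0,
  Q 0, Q 0, Q 0, Q 0, Q 0, Q 0, Q 0, Q 0, Q 0, W 0, Q 0, Q 0, Q 0, Q 0],
  [Q 0, Q 0, Q 0, Q 0, Q 0, Q 0, Q 0, Q 0, Q 0, Q 0, Q 0, Q 0, Q 0, Q 0, Q 0, Q 0, Q 0, Q 0, Q 0, Q 0, Q 1, W 0, Q 3,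
  Q 1, Q 0, Q 0, Q 0, Q 0, Q 0, Q 0, Q 0, Q 0, W 4, Q 0, Q 0, Q 0, Q 0],
  [Q 0, Q 0, Q 0, Q 0, Q 0, Q 0, Q 0, Q 0, Q 0, Q 0, Q 0, Q 0, Q 0, Q 0, Q 0, Q 0, Q 0, Q 0, Q 0, Q 0, Q 2, Q 0, W 2,
  W 0, Q 0, Q 0, Q 0, Q 0, Q 0, Q 0, Q 0, Q 0, W 10, Q 0, Q 0, Q 0, Q 0],
  [Q 0, Q 0, Q 0, Q 0, Q 0, Q 0, Q 0, Q 0, Q 0, Q 0, Q 0, Q 0, Q 0, Q 0, Q 0, Q 0, Q 0, Q 0, Q 0, Q 0, Q 2, Q 0, Q 0,
  Q 0, Q 0, Q 0, Q 0, Q 0, Q 0, Q 0, Q 0, Q 0, Q 11, Q 0, Q 0, Q 0, Q 0],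
  [Q 0, Q 0, Q 0, Q 0, Q 0, Q 0, Q 0, Q 0, Q 0, Q 1, Q 0, Q 0, Q 0, Q 0, Q 0, Q 0, Q 0, Q 0, Q 0, Q 0, W 0, Q 1, Q 0,
  Q 0, Q 0, Q 0, Q 0, Q 0, Q 0, Q 0, Q 0, Q 0, Q 8, Q 0, Q 0, Q 0, Q 0],
  [Q 0, Q 0, Q 0, Q 0, Q 0, Q 0, Q 0, Q 0, Q 0, W 0, Q 0, Q 0, Q 0, Q 0, Q 0, Q 0, Q 0, Q 0, Q 0, Q 0, Q 0, Q 0, Q 0,
  Q 0, Q 0, Q 0, Q 0, Q 0, Q 0, Q 0, Q 0, Q 0, Q 0, Q 0, Q 0, Q 0, Q 0],
  [Q 0, Q 0, Q 0, Q 0, Q 0, Q 0, Q 0, Q 0, Q 0, Q 0, Q 0, Q 0, Q 0, Q 0, Q 0, Q 0, Q 0, Q 0, Q 0, Q 0, Q 1, W 0, Q 0,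
  Q 0, Q 0, Q 0, Q 0, Q 0, Q 0, Q 0, Q 0, Q 0, Q 2, Q 0, Q 0, Q 0, Q 0],
  [Q 0, Q 0, Q 0, Q 0, Q 0, Q 0, Q 0, Q 0, Q 0, Q 0, Q 0, Q 0, Q 0, Q 0, Q 0, Q 0, Q 0, Q 0, Q 0, Q 0, W 0, W 0, Q 6,
  W 1, Q 0, Q 0, Q 0, Q 0, Q 0, Q 0, Q 0, Q 0, Q 2, Q 0, Q 0, Q 0, Q 0],
  [Q 0, Q 0, Q 0, Q 0, Q 0, Q 0, Q 0, Q 0, Q 0, Q 0, Q 0, Q 0, Q 0, Q 0, Q 0, Q 0, Q 0, Q 0, Q 0, Q 0, W 1, Q 0, Q 0,
  Q 0, Q 0, Q 0, Q 0, Q 0, Q 0, Q 0, Q 0, Q 0, W 0, Q 0, Q 0, Q 0, Q 0],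
  [Q 0, Q 0, Q 0, Q 0, Q 0, Q 0, Q 0, Q 0, Q 0, Q 0, Q 0, Q 0, Q 0, Q 0, Q 0, Q 0, Q 0, Q 0, Q 0, Q 0, Q 0, Q 0, W 2,
  W 0, Q 0, Q 0, Q 0, Q 0, Q 0, Q 0, Q 0, Q 0, Q 0, Q 0, Q 0, Q 0, Q 0],
  [Q 0, Q 0, Q 0, Q 0, Q 0, Q 0, Q 0, Q 0, Q 0, Q 0, Q 0, Q 0, Q 0, Q 0, Q 0, Q 0, Q 0, Q 0, Q 0, Q 0, Q 0, Q 0, Q 0,
  Q 0, Q 0, Q 0, Q 0, Q 0, Q 0, Q 0, Q 0, Q 0, W 8, Q 0, Q 0, Q 0, Q 0],
  [Q 0, Q 0, Q 0, Q 0, Q 0, Q 0, Q 0, Q 0, Q 0, Q 0, Q 0, Q 0, Q 0, Q 0, Q 0, Q 0, Q 0, Q 0, Q 0, Q 0, W 0, W 0, W 5,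
  Q 2, Q 0, Q 0, Q 0, Q 0, Q 0, Q 0, Q 0, Q 0, Q 5, Q 0, Q 0, Q 0, Q 0],
  [Q 0, Q 0, Q 0, Q 0, Q 0, Q 0, Q 0, Q 0, Q 0, Q 0, Q 0, Q 0, Q 0, Q 0, Q 0, Q 0, Q 0, Q 0, Q 0, Q 0, Q 0, Q 0, W 2,
  W 0, Q 0, Q 0, Q 0, Q 0, Q 0, Q 0, Q 0, Q 0, Q 9, Q 0, Q 0, Q 0, Q 0],
  [Q 0, Q 0, Q 0, Q 0, Q 0, Q 0, Q 0, Q 0, Q 0, Q 0, Q 0, Q 0, Q 0, Q 0, Q 0, Q 0, Q 0, Q 0, Q 0, Q 0, Q 1, Q 1, Q 0,
  Q 0, Q 0, Q 0, Q 0, Q 0, Q 0, Q 0, Q 0, Q 0, W 1, Q 0, Q 0, Q 0, Q 0],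
  [Q 0, Q 0, Q 0, Q 0, Q 0, Q 0, Q 0, Q 0, Q 0, Q 0, Q 0, Q 0, Q 0, Q 0, Q 0, Q 0, Q 0, Q 0, Q 0, Q 0, Q 0, Q 0, Q 0,
  Q 0, Q 0, Q 0, Q 0, Q 0, Q 0, Q 0, Q 0, Q 0, W 2, Q 0, Q 0, Q 0, Q 0],
  [Q 0, Q 0, Q 0, Q 0, Q 0, Q 0, Q 0, Q 0, Q 0, Q 0, Q 0, Q 0, Q 0, Q 0, Q 0, Q 0, Q 0, Q 0, Q 0, Q 0, W 0, Q 1, Q 3,
  Q 1, Q 0, Q 0, Q 0, Q 0, Q 0, Q 0, Q 0, Q 0, W 4, Q 0, Q 0, Q 0, Q 0],
  [Q 0, Q 0, Q 0, Q 0, Q 0, Q 0, Q 0, Q 0, Q 0, Q 0, Q 0, Q 0, Q 0, Q 0, Q 0, Q 0, Q 0, Q 0, Q 0, Q 0, Q 2, Q 0, Q 3,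
  Q 1, Q 0, Q 0, Q 0, Q 0, Q 0, Q 0, Q 0, Q 0, Q 1, Q 0, Q 0, Q 0, Q 0],
  [Q 0, Q 0, Q 0, Q 0, Q 0, Q 0, Q 0, Q 0, Q 0, Q 0, Q 0, Q 0, Q 0, Q 0, Q 0, Q 0, Q 0, Q 0, Q 0, Q 0, Q 1, Q 1, Q 0,
  Q 0, Q 0, Q 0, Q 0, Q 0, Q 0, Q 0, Q 0, Q 0, Q 5, Q 0, Q 0, Q 0, Q 0],
  [Q 0, Q 0, Q 0, Q 0, Q 0, Q 0, Q 0, Q 0, Q 0, Q 0, Q 0, Q 0, Q 0, Q 0, Q 0, Q 0, Q 0, Q 0, Q 0, Q 0, Q 0, Q 0, W 2,
  W 0, Q 0, Q 0, Q 0, Q 0, Q 0, Q 0, Q 0, Q 0, Q 0, Q 0, Q 0, Q 0, Q 0],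
  [Q 0, Q 0, Q 0, Q 0, Q 0, Q 0, Q 0, Q 0, Q 0, Q 0, Q 0, Q 0, Q 0, Q 0, Q 0, Q 0, Q 0, Q 0, Q 0, Q 0, Q 0, Q 0, Q 0,
  Q 0, Q 0, Q 0, Q 0, Q 0, Q 0, Q 0, Q 0, Q 0, W 8, Q 0, Q 0, Q 0, Q 0],
  [Q 0, Q 0, Q 0, Q 0, Q 0, Q 0, Q 0, Q 0, Q 0, Q 0, Q 0, Q 0, Q 0, Q 0, Q 0, Q 0, Q 0, Q 0, Q 0, Q 0, Q 0, Q 0, Q 0,
  Q 0, Q 0, Q 0, Q 0, Q 0, Q 0, Q 0, Q 0, Q 0, Q 0, Q 0, Q 0, Q 0, Q 0],
  [Q 0, Q 0, Q 0, Q 0, Q 0, Q 0, Q 0, Q 0, Q 0, Q 0, Q 0, Q 0, Q 0, Q 0, Q 0, Q 0, Q 0, Q 0, Q 0, Q 0, Q 0, Q 0, Q 3,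
  Q 1, Q 0, Q 0, Q 0, Q 0, Q 0, Q 0, Q 0, Q 0, Q 9, Q 0, Q 0, Q 0, Q 0],
  [Q 0, Q 0, Q 0, Q 0, Q 0, Q 0, Q 0, Q 0, Q 0, Q 1, Q 0, Q 0, Q 0, Q 0, Q 0, Q 0, Q 0, Q 0, Q 0, Q 0, W 0, W 0, Q 0,
  Q 0, Q 0, Q 0, Q 0, Q 0, Q 0, Q 0, Q 0, Q 0, W 7, Q 0, Q 0, Q 0, Q 0],
  [Q 0, Q 0, Q 0, Q 0, Q 0, Q 0, Q 0, Q 0, Q 0, Q 0, Q 0, Q 0, Q 0, Q 0, Q 0, Q 0, Q 0, Q 0, Q 0, Q 0, Q 0, Q 0, W 5,
  Q 2, Q 0, Q 0, Q 0, Q 0, Q 0, Q 0, Q 0, Q 0, Q 0, Q 0, Q 0, Q 0, Q 0],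
  [Q 0, Q 0, Q 0, Q 0, Q 0, Q 0, Q 0, Q 0, Q 0, Q 0, Q 0, Q 0, Q 0, Q 0, Q 0, Q 0, Q 0, Q 0, Q 0, Q 0, Q 0, Q 0, Q 6,
  W 1, Q 0, Q 0, Q 0, Q 0, Q 0, Q 0, Q 0, Q 0, Q 3, Q 0, Q 0, Q 0, Q 0],
  [Q 0, Q 0, Q 0, Q 0, Q 0, Q 0, Q 0, Q 0, Q 0, Q 1, Q 0, Q 0, Q 0, Q 0, Q 0, Q 0, Q 0, Q 0, Q 0, Q 0, Q 0, Q 0, Q 0,
  Q 0, Q 0, Q 0, Q 0, Q 0, Q 0, Q 0, Q 0, Q 0, Q 0, Q 0, Q 0, Q 0, Q 0],
  [Q 0, Q 0, Q 0, Q 0, Q 0, Q 0, Q 0, Q 0, Q 0, Q 0, Q 0, Q 0, Q 0, Q 0, Q 0, Q 0, Q 0, Q 0, Q 0, Q 0, Q 0, Q 0, Q 0,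
  Q 0, Q 0, Q 0, Q 0, Q 0, Q 0, Q 0, Q 0, Q 0, Q 0, Q 0, Q 0, Q 0, Q 0],
  [Q 0, Q 0, Q 0, Q 0, Q 0, Q 0, Q 0, Q 0, Q 0, Q 0, Q 0, Q 0, Q 0, Q 0, Q 0, Q 0, Q 0, Q 0, Q 0, Q 0, Q 0, Q 0, Q 0,
  Q 0, Q 0, Q 0, Q 0, Q 0, Q 0, Q 0, Q 0, Q 0, Q 0, Q 0, Q 0, Q 0, Q 0],
  [Q 0, Q 0, Q 0, Q 0, Q 0, Q 0, Q 0, Q 0, Q 0, Q 0, Q 0, Q 0, Q 0, Q 0, Q 0, Q 0, Q 0, Q 0, Q 0, Q 0, Q 0, Q 0, Q 3,
  Q 1, Q 0, Q 0, Q 0, Q 0, Q 0, Q 0, Q 0, Q 0, Q 0, Q 0, Q 0, Q 0, Q 0],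
  [Q 0, Q 0, Q 0, Q 0, Q 0, Q 0, Q 0, Q 0, Q 0, W 0, Q 0, Q 0, Q 0, Q 0, Q 0, Q 0, Q 0, Q 0, Q 0, Q 0, Q 0, Q 0, W 2,
  W 0, Q 0, Q 0, Q 0, Q 0, Q 0, Q 0, Q 0, Q 0, Q 0, Q 0, Q 0, Q 0, Q 0],
  [Q 0, Q 0, Q 0, Q 0, Q 0, Q 0, Q 0, Q 0, Q 0, Q 2, Q 0, Q 0, Q 0, Q 0, Q 0, Q 0, Q 0, Q 0, Q 0, Q 0, Q 0, Q 0, W 5,
  W 1, Q 0, Q 0, Q 0, Q 0, Q 0, Q 0, Q 0, Q 0, Q 0, Q 0, Q 0, Q 0, Q 0],
  [Q 0, Q 0, Q 0, Q 0, Q 0, Q 0, Q 0, Q 0, Q 0, Q 2, Q 0, Q 0, Q 0, Q 0, Q 0, Q 0, Q 0, Q 0, Q 0, Q 0, Q 0, Q 0, Q 6,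
  Q 2, Q 0, Q 0, Q 0, Q 0, Q 0, Q 0, Q 0, Q 0, Q 0, Q 0, Q 0, Q 0, Q 0]]

/-- the norms -/
def mm2 : List ℕ := [
  1, 1, 1, 1, 1, 1, 1, 1, 1, 1, 1, 1, 1, 1, 1, 1, 1, 1, 1, 1, 1, 1, 1, 1, 1, 1, 1, 1, 1, 1, 1, 1, 1, 1, 2, 2]

/-- the degrees -/
def bb2 : List ℕ := [
  66, 78, 429, 1365, 1716, 2145, 3003, 4290, 6720, 18954, 21450, 23100, 24024, 27027, 30888, 42900, 51975, 60060,
  64350, 75075, 75075, 85800, 104247, 108108, 133056, 135135, 139776, 160380, 180180, 189540, 193050, 208494, 225225,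
  331695, 2925, 5103]

/-- the coefficients -/
def cf3 : List (List (List (ℤ × ℕ))) := [
  [[(Q 1, 0)], [(Q 1, 0)], [], []],
  [[(Q 1, 0)], [(W 0, 0)], [], [(Q 1, 0)]],
  [[(Q 1, 0)], [(Q 1, 0), (W 0, 1), (Q 1, 3)], [(W 1, 0), (Q 1, 1), (W 0, 3)], [(Q 1, 0)]],
  [[(W 0, 0)], [], [], []],
  [[(W 0, 0)], [(W 0, 0)], [(Q 1, 0)], []],
  [[(W 5, 0), (W 100, 1), (Q 19, 2), (W 45, 3), (Q 27, 4), (Q 12, 5), (W 24, 6), (Q 2, 7), (W 13, 8), (Q 3, 9),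
  (Q 2, 11), (W 0, 16), (W 15, 31)], [(Q 37, 0), (W 17, 1), (Q 44, 2), (W 3, 3), (Q 58, 4), (W 17, 5), (W 1, 6),
  (W 14, 8)], [(W 22, 0), (Q 48, 1), (Q 9, 2), (Q 28, 3)], [(W 16, 0), (W 34, 1), (W 7, 2), (W 24, 3), (W 39, 4)]],
  [[(Q 7, 0), (Q 95, 1), (W 18, 2), (Q 42, 3), (W 24, 4), (W 9, 5), (Q 23, 6), (W 0, 7), (Q 13, 8), (W 2, 9),
  (W 1, 11), (Q 1, 16), (Q 14, 31)], [(W 32, 0), (Q 17, 1), (W 39, 2), (Q 4, 3), (W 52, 4), (Q 16, 5), (Q 2, 6),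
  (Q 14, 8)], [(Q 18, 0), (W 43, 1), (W 8, 2), (W 25, 3)], [(Q 17, 0), (Q 32, 1), (Q 7, 2), (Q 24, 3), (Q 37, 4)]],
  [[(Q 7, 0), (Q 95, 1), (W 18, 2), (Q 42, 3), (W 24, 4), (W 9, 5), (Q 23, 6), (W 0, 7), (Q 13, 8), (W 2, 9),
  (W 1, 11), (Q 1, 16), (Q 14, 31)], [(W 32, 0), (Q 17, 1), (W 40, 2), (Q 4, 3), (W 52, 4), (Q 16, 5), (Q 2, 6),
  (Q 14, 8)], [(Q 18, 0), (W 43, 1), (W 7, 2), (W 25, 3)], [(Q 17, 0), (Q 32, 1), (Q 7, 2), (Q 24, 3), (Q 37, 4)]],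
  [[(W 0, 0), (Q 2, 2), (Q 2, 3), (W 0, 4), (W 0, 5), (Q 1, 6), (W 0, 7), (Q 1, 31)], [(W 1, 0), (W 0, 2), (W 0, 3),
  (W 0, 4), (Q 1, 5)], [(Q 3, 0), (W 0, 1)], [(W 0, 0), (Q 1, 1), (Q 1, 2)]],
  [[(Q 1, 0), (W 8, 1), (W 3, 3), (Q 2, 4), (Q 2, 5), (W 1, 6), (Q 1, 7), (W 0, 8), (W 1, 31)], [(Q 4, 0), (W 0, 1),
  (Q 3, 2), (Q 5, 4), (W 1, 5), (W 0, 8)], [(W 3, 0), (Q 4, 1), (Q 1, 2), (Q 2, 3)], [(W 3, 1), (W 0, 2), (W 0, 3),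
  (W 2, 4)]],
  [[(W 6, 0), (W 93, 1), (Q 19, 2), (W 41, 3), (Q 25, 4), (Q 10, 5), (W 22, 6), (Q 1, 7), (W 12, 8), (Q 3, 9),
  (Q 2, 11), (W 0, 16), (W 13, 31)], [(Q 34, 0), (W 17, 1), (Q 41, 2), (W 3, 3), (Q 53, 4), (W 15, 5), (W 1, 6),
  (W 13, 8)], [(W 17, 0), (Q 44, 1), (Q 8, 2), (Q 26, 3)], [(W 17, 0), (W 30, 1), (W 6, 2), (W 23, 3), (W 36, 4)]],
  [[(W 6, 0), (W 93, 1), (Q 19, 2), (W 41, 3), (Q 25, 4), (Q 10, 5), (W 22, 6), (Q 1, 7), (W 12, 8), (Q 3, 9),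
  (Q 2, 11), (W 0, 16), (W 13, 31)], [(Q 34, 0), (W 17, 1), (Q 41, 2), (W 4, 3), (Q 53, 4), (W 15, 5), (W 1, 6),
  (W 13, 8)], [(W 17, 0), (Q 44, 1), (Q 8, 2), (Q 27, 3)], [(W 17, 0), (W 30, 1), (W 6, 2), (W 23, 3), (W 36, 4)]],
  [[(Q 1, 2)], [(Q 1, 2)], [], []],
  [[(W 0, 0), (Q 4, 1), (Q 1, 2), (Q 2, 3), (W 0, 5), (Q 1, 6), (W 0, 7), (Q 1, 31)], [(W 0, 0), (W 1, 1), (Q 1, 2),
  (Q 2, 3), (W 1, 4), (Q 1, 5)], [(Q 2, 0), (W 0, 1), (W 0, 2), (W 0, 3)], [(W 0, 0), (Q 3, 1), (W 0, 3), (Q 1, 4)]],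
  [[(W 1, 0), (Q 2, 2), (Q 1, 3), (W 0, 5), (Q 1, 6), (W 0, 7), (Q 1, 31)], [(W 2, 0), (Q 1, 1), (W 0, 2), (W 1, 4),
  (Q 1, 5)], [(Q 5, 0), (W 1, 1)], [(W 1, 0), (Q 1, 1), (Q 1, 2), (W 0, 3), (Q 1, 4)]],
  [[(Q 8, 0), (Q 94, 1), (W 18, 2), (Q 42, 3), (W 24, 4), (W 8, 5), (Q 23, 6), (W 0, 7), (Q 13, 8), (W 2, 9),
  (W 1, 11), (Q 1, 16), (Q 14, 31)], [(W 32, 0), (Q 18, 1), (W 40, 2), (Q 4, 3), (W 52, 4), (Q 17, 5), (Q 2, 6),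
  (Q 14, 8)], [(Q 18, 0), (W 43, 1), (W 7, 2), (W 26, 3)], [(Q 18, 0), (Q 31, 1), (Q 7, 2), (Q 24, 3), (Q 37, 4)]],
  [[(W 6, 0), (W 102, 1), (Q 15, 2), (W 47, 3), (Q 26, 4), (Q 11, 5), (W 25, 6), (Q 4, 7), (W 12, 8), (Q 3, 9),
  (Q 2, 11), (W 0, 16), (W 16, 31)], [(Q 36, 0), (W 14, 1), (Q 40, 2), (W 5, 3), (Q 57, 4), (W 19, 5), (W 1, 6),
  (W 13, 8)], [(W 22, 0), (Q 47, 1), (Q 10, 2), (Q 29, 3)], [(W 14, 0), (W 37, 1), (W 7, 2), (W 22, 3), (W 38, 4)]],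
  [[(W 1, 3), (W 0, 5)], [(W 0, 3), (W 0, 5)], [(Q 1, 3)], []],
  [[(W 6, 0), (W 94, 1), (Q 18, 2), (W 41, 3), (Q 25, 4), (Q 10, 5), (W 22, 6), (Q 1, 7), (W 12, 8), (Q 3, 9),
  (Q 2, 11), (W 0, 16), (W 13, 31)], [(Q 33, 0), (W 16, 1), (Q 40, 2), (W 3, 3), (Q 53, 4), (W 15, 5), (W 1, 6),
  (W 13, 8)], [(W 17, 0), (Q 44, 1), (Q 9, 2), (Q 26, 3)], [(W 16, 0), (W 31, 1), (W 6, 2), (W 23, 3), (W 36, 4)]],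
  [[(W 2, 0), (Q 7, 1), (Q 7, 2), (Q 11, 3), (W 2, 4), (W 1, 5), (Q 6, 6), (W 4, 7), (Q 4, 31)], [(W 6, 0), (W 0, 1),
  (W 1, 2), (Q 5, 3), (W 6, 4), (Q 6, 5)], [(Q 12, 0), (W 5, 1), (W 0, 2), (W 4, 3)], [(W 5, 0), (Q 8, 1), (Q 3, 2),
  (W 2, 3), (Q 3, 4)]],
  [[(Q 8, 0), (Q 94, 1), (W 20, 2), (Q 41, 3), (W 23, 4), (W 8, 5), (Q 22, 6), (Q 13, 8), (W 2, 9), (W 1, 11),
  (Q 1, 16), (Q 13, 31)], [(W 31, 0), (Q 18, 1), (W 39, 2), (Q 4, 3), (W 51, 4), (Q 15, 5), (Q 2, 6), (Q 14, 8)],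
  [(Q 15, 0), (W 42, 1), (W 7, 2), (W 25, 3)], [(Q 19, 0), (Q 30, 1), (Q 6, 2), (Q 25, 3), (Q 37, 4)]],
  [[(W 0, 0), (Q 9, 1), (Q 6, 3), (W 2, 4), (W 1, 5), (Q 2, 6), (W 0, 7), (Q 1, 8), (Q 2, 31)], [(W 3, 0), (Q 1, 1),
  (W 2, 2), (Q 2, 3), (W 4, 4), (Q 2, 5), (Q 1, 8)], [(Q 3, 0), (W 3, 1), (W 0, 2), (W 2, 3)], [(Q 4, 1), (Q 1, 2),
  (Q 1, 3), (Q 3, 4)]],
  [[(Q 7, 0), (Q 82, 1), (W 19, 2), (Q 34, 3), (W 21, 4), (W 7, 5), (Q 18, 6), (Q 1, 7), (Q 12, 8), (W 2, 9),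
  (W 1, 11), (Q 1, 16), (Q 11, 31)], [(W 26, 0), (Q 15, 1), (W 35, 2), (Q 2, 3), (W 45, 4), (Q 13, 5), (Q 1, 6),
  (Q 13, 8)], [(Q 12, 0), (W 36, 1), (W 7, 2), (W 21, 3)], [(Q 17, 0), (Q 26, 1), (Q 5, 2), (Q 22, 3), (Q 32, 4)]],
  [[(W 1, 0), (Q 3, 1), (W 2, 2), (W 0, 4), (W 0, 5), (Q 2, 7), (Q 1, 9), (W 0, 11), (Q 1, 31)], [(W 3, 0), (Q 4, 1),
  (W 4, 2), (W 0, 3), (W 4, 4), (Q 1, 8)], [(Q 4, 0), (W 3, 1), (W 0, 3)], [(Q 2, 3), (Q 4, 4)]],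
  [[(Q 5, 1), (W 0, 2), (Q 2, 3), (W 0, 4), (W 0, 5), (Q 1, 6), (Q 1, 8), (Q 1, 31)], [(W 2, 0), (Q 3, 1), (W 3, 2),
  (W 1, 3), (W 1, 4), (Q 1, 5), (Q 1, 8)], [(Q 2, 0), (W 2, 1), (W 0, 3)], [(Q 1, 0), (Q 1, 1), (Q 1, 2), (Q 2, 3),
  (Q 2, 4)]],
  [[(Q 6, 1), (W 4, 2), (W 1, 3), (Q 2, 7), (Q 1, 8), (W 0, 11), (Q 1, 31)], [(W 1, 0), (W 1, 2), (W 0, 3), (W 5, 4),
  (Q 1, 8)], [(Q 2, 0), (W 2, 1)], [(Q 1, 0), (Q 2, 1), (W 0, 2), (Q 2, 3), (Q 4, 4)]],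
  [[(W 97, 1), (Q 22, 2), (W 45, 3), (Q 27, 4), (Q 12, 5), (W 19, 6), (Q 1, 7), (W 14, 8), (Q 2, 9), (Q 3, 11),
  (W 0, 16), (W 15, 31)], [(Q 40, 0), (W 20, 1), (Q 47, 2), (W 4, 3), (Q 60, 4), (W 18, 5), (Q 1, 6), (W 15, 8)],
  [(W 26, 0), (Q 48, 1), (Q 9, 2), (Q 28, 3)], [(W 11, 0), (W 33, 1), (W 7, 2), (W 21, 3), (W 39, 4)]],
  [[(Q 3, 0), (Q 11, 1), (Q 4, 3), (W 0, 4), (Q 3, 6), (W 0, 7), (Q 1, 8), (Q 2, 31)], [(W 1, 0), (Q 1, 1), (W 2, 2),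
  (W 0, 3), (W 2, 4), (Q 2, 5), (Q 1, 6), (Q 1, 8)], [(Q 1, 0), (W 3, 1), (W 0, 2), (W 1, 3)], [(Q 2, 0), (Q 4, 1),
  (Q 1, 2), (Q 3, 3), (Q 3, 4)]]]

/-- the rows, first components -/
def ra3 : List (List ℤ) := [
  [Q 220, Q 12, Q 0, Q 0, W 3, Q 0, Q 4, Q 2, Q 0, Q 0, Q 0, W 1, Q 0, Q 0, Q 0, Q 0, W 0, Q 1, W 0, Q 0, Q 2, Q 0,
  Q 0, Q 0, Q 0, W 1, W 1, Q 0, Q 6, Q 4, Q 0, Q 0, W 5, Q 0, W 9, W 19, W 49],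
  [Q 364, W 35, Q 0, W 2, W 12, W 0, Q 4, W 1, Q 1, Q 1, Q 0, W 1, Q 0, Q 1, Q 4, Q 0, Q 0, Q 0, W 0, Q 0, W 0, W 0,
  Q 0, Q 0, Q 0, Q 1, W 0, Q 0, W 5, Q 0, Q 0, Q 0, W 2, Q 0, W 0, W 3, W 13],
  [Q 364, W 35, Q 0, W 2, W 12, W 0, Q 4, W 1, W 0, Q 1, Q 0, W 1, Q 0, Q 1, Q 4, Q 0, Q 0, Q 0, W 0, Q 0, W 0, Q 1,
  Q 0, Q 0, Q 0, Q 1, W 0, Q 0, W 5, Q 0, Q 0, Q 0, Q 3, Q 0, W 0, W 3, W 13],
  [Q 572, W 19, Q 0, Q 1, W 4, Q 0, W 3, W 3, Q 1, Q 0, Q 0, W 1, Q 0, W 0, Q 2, Q 0, Q 0, W 0, Q 1, Q 0, Q 1, Q 0,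
  Q 0, Q 0, Q 0, Q 0, Q 1, Q 0, Q 4, Q 2, Q 0, Q 0, W 4, Q 0, W 7, W 19, W 75],
  [Q 572, W 19, Q 0, Q 1, W 4, Q 0, W 3, W 3, W 0, Q 0, Q 0, W 1, Q 0, W 0, Q 2, Q 0, Q 0, W 0, Q 1, Q 0, W 1, W 0,
  Q 0, Q 0, Q 0, Q 0, Q 1, Q 0, Q 4, Q 2, Q 0, Q 0, Q 1, Q 0, W 7, W 19, W 75],
  [Q 4928, Q 64, Q 0, W 1, W 13, W 0, W 3, Q 4, Q 0, Q 0, Q 0, Q 0, Q 0, Q 1, W 1, Q 0, Q 1, Q 0, Q 1, Q 0, Q 1, Q 1,
  Q 0, Q 0, Q 0, Q 1, Q 2, Q 0, Q 4, Q 0, Q 0, Q 0, W 7, Q 0, W 16, W 63, W 363],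
  [Q 16016, W 303, Q 0, W 0, W 58, Q 1, W 3, Q 4, W 0, Q 0, Q 0, Q 0, Q 0, Q 0, Q 6, Q 0, Q 0, Q 0, Q 1, Q 0, Q 1,
  Q 0, Q 0, Q 0, Q 0, W 0, W 0, Q 0, W 3, Q 0, Q 0, Q 0, Q 5, Q 0, Q 1, W 15, Q 140],
  [Q 16016, W 303, Q 0, W 0, W 58, Q 1, W 3, Q 4, Q 1, Q 0, Q 0, Q 0, Q 0, Q 0, Q 6, Q 0, Q 0, Q 0, Q 1, Q 0, W 1,
  Q 1, Q 0, Q 0, Q 0, W 0, W 0, Q 0, W 3, Q 0, Q 0, Q 0, W 0, Q 0, Q 1, W 15, Q 140],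
  [Q 20020, Q 68, Q 0, Q 2, Q 14, Q 2, Q 4, Q 2, Q 0, Q 0, Q 0, Q 2, Q 0, Q 0, Q 0, Q 0, Q 0, Q 0, W 0, Q 0, W 0, W 0,
  Q 0, Q 0, Q 0, Q 2, W 1, Q 0, W 9, Q 0, Q 0, Q 0, W 3, Q 0, W 9, W 91, W 769],
  [Q 20020, W 187, Q 0, W 1, Q 14, Q 0, Q 4, W 5, Q 0, Q 0, Q 0, Q 2, Q 0, Q 0, Q 0, Q 0, Q 0, Q 0, W 0, Q 0, W 0,
  Q 1, Q 0, Q 0, Q 0, W 1, Q 0, Q 0, Q 22, Q 0, Q 0, Q 0, Q 10, Q 0, W 9, W 59, W 769],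
  [Q 35100, W 179, Q 0, Q 3, W 26, Q 0, Q 0, W 3, W 0, W 0, Q 0, W 1, Q 0, Q 0, Q 0, Q 0, Q 0, Q 1, Q 0, Q 0, Q 0,
  Q 0, Q 0, Q 0, Q 0, Q 0, Q 1, Q 0, W 11, W 1, Q 0, Q 0, W 8, Q 0, Q 0, W 19, W 539],
  [Q 35100, W 179, Q 0, Q 3, W 26, Q 0, Q 0, W 3, Q 1, W 0, Q 0, W 1, Q 0, Q 0, Q 0, Q 0, Q 0, Q 1, Q 0, Q 0, Q 0,
  Q 0, Q 0, Q 0, Q 0, Q 0, Q 1, Q 0, W 11, W 1, Q 0, Q 0, Q 9, Q 0, Q 0, W 19, W 539],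
  [Q 80080, Q 528, Q 0, Q 0, W 51, Q 0, Q 16, W 3, Q 0, Q 0, Q 0, Q 0, Q 0, Q 0, Q 0, Q 0, Q 0, Q 0, Q 1, Q 0, Q 2,
  Q 0, Q 0, Q 0, Q 0, Q 2, W 1, Q 0, Q 12, Q 0, Q 0, Q 0, Q 6, Q 0, Q 10, W 79, Q 700],
  [Q 80080, Q 272, Q 0, Q 2, Q 2, W 1, Q 16, Q 6, Q 0, Q 0, Q 0, Q 0, Q 0, Q 0, Q 0, Q 0, Q 0, Q 0, Q 1, Q 0, W 0,
  W 0, Q 0, Q 0, Q 0, W 1, Q 0, Q 0, Q 2, Q 0, Q 0, Q 0, Q 2, Q 0, Q 10, W 47, W 1189],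
  [Q 100100, W 939, Q 0, W 9, W 37, Q 0, Q 20, W 1, Q 0, Q 0, Q 0, Q 2, Q 0, Q 0, Q 0, Q 0, Q 0, Q 0, Q 0, Q 0, Q 1,
  W 0, Q 0, Q 0, Q 0, Q 0, Q 2, Q 0, Q 2, Q 0, Q 0, Q 0, W 3, Q 0, Q 0, Q 20, W 69],
  [Q 102400, Q 0, Q 0, Q 0, W 15, Q 0, W 19, Q 0, Q 0, Q 1, Q 0, Q 0, Q 0, Q 0, Q 0, Q 0, W 0, W 0, Q 0, Q 0, Q 2,
  Q 0, Q 0, Q 0, Q 0, Q 0, Q 0, Q 0, Q 0, W 3, Q 0, Q 0, Q 0, Q 0, Q 0, Q 0, W 1279],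
  [Q 128128, Q 640, Q 0, W 7, W 39, Q 0, Q 4, Q 0, Q 0, Q 0, Q 0, Q 0, Q 0, W 1, W 1, Q 0, Q 0, Q 0, W 0, Q 0, W 0,
  Q 1, Q 0, Q 0, Q 0, Q 0, Q 0, Q 0, W 7, Q 0, Q 0, Q 0, W 7, Q 0, Q 8, Q 0, W 391],
  [Q 137280, W 191, Q 0, W 5, Q 42, Q 0, W 23, Q 0, Q 0, Q 0, Q 0, Q 0, Q 0, Q 0, Q 0, Q 0, Q 0, Q 1, Q 1, Q 0, Q 0,
  Q 0, Q 0, Q 0, Q 0, Q 2, Q 0, Q 0, Q 0, Q 4, Q 0, Q 0, Q 6, Q 0, Q 10, Q 0, W 959],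
  [Q 192192, W 575, Q 0, Q 6, W 5, W 0, W 11, Q 4, Q 0, Q 0, Q 0, Q 0, Q 0, W 0, Q 2, Q 0, Q 0, Q 0, W 1, Q 0, Q 0,
  Q 0, Q 0, Q 0, Q 0, Q 1, Q 2, Q 0, Q 12, Q 0, Q 0, Q 0, Q 0, Q 0, Q 7, W 63, Q 924],
  [Q 197120, Q 512, Q 0, W 3, W 19, Q 0, W 15, Q 0, Q 0, Q 0, Q 0, Q 0, Q 0, Q 0, Q 0, Q 0, Q 1, Q 0, W 0, Q 0, Q 1,
  W 0, Q 0, Q 0, Q 0, W 1, Q 0, Q 0, W 15, Q 0, Q 0, Q 0, Q 8, Q 0, W 9, Q 0, Q 560],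
  [Q 228800, W 319, Q 0, Q 4, Q 52, Q 0, Q 20, Q 0, Q 0, Q 0, Q 0, Q 0, Q 0, Q 0, Q 0, Q 0, Q 0, W 0, Q 0, Q 0, Q 1,
  Q 1, Q 0, Q 0, Q 0, Q 0, Q 0, Q 0, W 31, Q 2, Q 0, Q 0, Q 4, Q 0, Q 0, Q 0, W 159],
  [Q 277200, W 239, Q 0, Q 6, W 17, Q 0, Q 0, W 1, Q 0, Q 0, Q 0, Q 0, Q 0, Q 0, Q 0, Q 0, Q 1, Q 0, Q 0, Q 0, Q 0,
  Q 0, Q 0, Q 0, Q 0, Q 0, W 3, Q 0, Q 18, Q 0, Q 0, Q 0, W 5, Q 0, Q 0, Q 80, W 629],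
  [Q 315392, Q 0, Q 0, Q 0, W 31, Q 0, W 3, Q 0, Q 0, Q 0, Q 0, Q 0, Q 0, Q 1, W 7, Q 0, W 0, Q 0, Q 1, Q 0, W 1, Q 0,
  Q 0, Q 0, Q 0, Q 0, Q 0, Q 0, Q 0, Q 0, Q 0, Q 0, Q 0, Q 0, W 7, Q 0, Q 896],
  [Q 70200, W 359, Q 0, W 11, Q 108, Q 0, Q 0, Q 4, Q 0, W 1, Q 0, W 3, Q 0, Q 0, Q 0, Q 0, Q 0, W 0, Q 0, Q 0, Q 0,
  Q 0, Q 0, Q 0, Q 0, Q 0, W 3, Q 0, Q 12, W 3, Q 0, Q 0, Q 0, Q 0, Q 0, W 39, Q 540],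
  [Q 120120, Q 408, Q 0, Q 0, W 23, Q 2, Q 24, Q 8, Q 0, Q 0, Q 0, W 3, Q 0, Q 0, Q 0, Q 0, Q 0, Q 0, W 0, Q 0, Q 0,
  Q 0, Q 0, Q 0, Q 0, Q 2, Q 4, Q 0, Q 24, Q 0, Q 0, Q 0, Q 12, Q 0, W 9, Q 88, W 839],
  [Q 122472, Q 648, Q 0, Q 0, Q 0, W 1, Q 0, Q 0, Q 0, W 1, Q 0, Q 4, Q 0, Q 0, Q 12, Q 0, W 0, Q 0, Q 0, Q 0, Q 0,
  Q 0, Q 0, Q 0, Q 0, Q 2, Q 0, Q 0, Q 0, Q 0, Q 0, Q 0, Q 0, Q 0, W 17, Q 72, Q 0],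
  [Q 159744, Q 0, Q 0, Q 0, Q 96, Q 0, Q 12, Q 0, Q 0, Q 2, Q 0, Q 0, Q 0, W 1, Q 4, Q 0, Q 0, Q 2, Q 2, Q 0, Q 0,
  Q 0, Q 0, Q 0, Q 0, Q 0, Q 0, Q 0, Q 0, W 3, Q 0, Q 0, Q 0, Q 0, W 15, Q 0, Q 768],
  [Q 288288, Q 672, Q 0, Q 0, Q 72, Q 2, Q 0, W 3, Q 0, Q 0, Q 0, Q 0, Q 0, Q 2, Q 8, Q 0, Q 0, Q 0, Q 0, Q 0, Q 0,
  Q 0, Q 0, Q 0, Q 0, W 1, Q 4, Q 0, Q 12, Q 0, Q 0, Q 0, W 11, Q 0, Q 18, W 31, Q 252]]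

/-- the rows, second components -/
def rb3 : List (List ℤ) := [
  [Q 0, Q 0, Q 0, Q 0, Q 0, Q 0, Q 0, Q 0, Q 0, Q 0, Q 0, Q 0, Q 0, Q 0, Q 0, Q 0, Q 0, Q 0, Q 0, Q 0, Q 0, Q 0, Q 0,
  Q 0, Q 0, Q 0, Q 0, Q 0, Q 0, Q 0, Q 0, Q 0, Q 0, Q 0, Q 0, Q 0, Q 0],
  [Q 0, Q 0, Q 0, Q 0, Q 0, Q 0, Q 0, Q 0, Q 2, Q 0, Q 0, Q 0, Q 0, Q 0, Q 0, Q 0, Q 0, Q 0, Q 0, Q 0, Q 0, W 1, Q 0,
  Q 0, Q 0, Q 0, Q 0, Q 0, Q 0, Q 0, Q 0, Q 0, W 5, Q 0, Q 0, Q 0, Q 0],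
  [Q 0, Q 0, Q 0, Q 0, Q 0, Q 0, Q 0, Q 0, W 1, Q 0, Q 0, Q 0, Q 0, Q 0, Q 0, Q 0, Q 0, Q 0, Q 0, Q 0, Q 0, Q 2, Q 0,
  Q 0, Q 0, Q 0, Q 0, Q 0, Q 0, Q 0, Q 0, Q 0, Q 6, Q 0, Q 0, Q 0, Q 0],
  [Q 0, Q 0, Q 0, Q 0, Q 0, Q 0, Q 0, Q 0, Q 2, Q 0, Q 0, Q 0, Q 0, Q 0, Q 0, Q 0, Q 0, Q 0, Q 0, Q 0, Q 3, Q 1, Q 0,
  Q 0, Q 0, Q 0, Q 0, Q 0, Q 0, Q 0, Q 0, Q 0, W 5, Q 0, Q 0, Q 0, Q 0],
  [Q 0, Q 0, Q 0, Q 0, Q 0, Q 0, Q 0, Q 0, W 1, Q 0, Q 0, Q 0, Q 0, Q 0, Q 0, Q 0, Q 0, Q 0, Q 0, Q 0, W 2, W 0, Q 0,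
  Q 0, Q 0, Q 0, Q 0, Q 0, Q 0, Q 0, Q 0, Q 0, Q 6, Q 0, Q 0, Q 0, Q 0],
  [Q 0, Q 0, Q 0, Q 0, Q 0, Q 0, Q 0, Q 0, Q 0, Q 0, Q 0, Q 0, Q 0, Q 0, Q 0, Q 0, Q 0, Q 0, Q 0, Q 0, Q 0, Q 0, Q 0,
  Q 0, Q 0, Q 0, Q 0, Q 0, Q 0, Q 0, Q 0, Q 0, Q 0, Q 0, Q 0, Q 0, Q 0],
  [Q 0, Q 0, Q 0, Q 0, Q 0, Q 0, Q 0, Q 0, W 1, Q 0, Q 0, Q 0, Q 0, Q 0, Q 0, Q 0, Q 0, Q 0, Q 0, Q 0, Q 3, W 0, Q 0,
  Q 0, Q 0, Q 0, Q 0, Q 0, Q 0, Q 0, Q 0, Q 0, Q 6, Q 0, Q 0, Q 0, Q 0],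
  [Q 0, Q 0, Q 0, Q 0, Q 0, Q 0, Q 0, Q 0, Q 2, Q 0, Q 0, Q 0, Q 0, Q 0, Q 0, Q 0, Q 0, Q 0, Q 0, Q 0, W 2, Q 1, Q 0,
  Q 0, Q 0, Q 0, Q 0, Q 0, Q 0, Q 0, Q 0, Q 0, W 5, Q 0, Q 0, Q 0, Q 0],
  [Q 0, Q 0, Q 0, Q 0, Q 0, Q 0, Q 0, Q 0, Q 0, Q 0, Q 0, Q 0, Q 0, Q 0, Q 0, Q 0, Q 0, Q 0, Q 0, Q 0, Q 0, Q 0, Q 0,
  Q 0, Q 0, Q 0, Q 0, Q 0, Q 0, Q 0, Q 0, Q 0, Q 0, Q 0, Q 0, Q 0, Q 0],
  [Q 0, Q 0, Q 0, Q 0, Q 0, Q 0, Q 0, Q 0, Q 0, Q 0, Q 0, Q 0, Q 0, Q 0, Q 0, Q 0, Q 0, Q 0, Q 0, Q 0, Q 0, Q 0, Q 0,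
  Q 0, Q 0, Q 0, Q 0, Q 0, Q 0, Q 0, Q 0, Q 0, Q 0, Q 0, Q 0, Q 0, Q 0],
  [Q 0, Q 0, Q 0, Q 0, Q 0, Q 0, Q 0, Q 0, W 1, Q 0, Q 0, Q 0, Q 0, Q 0, Q 0, Q 0, Q 0, Q 0, Q 0, Q 0, Q 0, Q 0, Q 0,
  Q 0, Q 0, Q 0, Q 0, Q 0, Q 0, Q 0, Q 0, Q 0, W 17, Q 0, Q 0, Q 0, Q 0],
  [Q 0, Q 0, Q 0, Q 0, Q 0, Q 0, Q 0, Q 0, Q 2, Q 0, Q 0, Q 0, Q 0, Q 0, Q 0, Q 0, Q 0, Q 0, Q 0, Q 0, Q 0, Q 0, Q 0,
  Q 0, Q 0, Q 0, Q 0, Q 0, Q 0, Q 0, Q 0, Q 0, Q 18, Q 0, Q 0, Q 0, Q 0],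
  [Q 0, Q 0, Q 0, Q 0, Q 0, Q 0, Q 0, Q 0, Q 0, Q 0, Q 0, Q 0, Q 0, Q 0, Q 0, Q 0, Q 0, Q 0, Q 0, Q 0, Q 0, Q 0, Q 0,
  Q 0, Q 0, Q 0, Q 0, Q 0, Q 0, Q 0, Q 0, Q 0, Q 0, Q 0, Q 0, Q 0, Q 0],
  [Q 0, Q 0, Q 0, Q 0, Q 0, Q 0, Q 0, Q 0, Q 0, Q 0, Q 0, Q 0, Q 0, Q 0, Q 0, Q 0, Q 0, Q 0, Q 0, Q 0, Q 0, Q 0, Q 0,
  Q 0, Q 0, Q 0, Q 0, Q 0, Q 0, Q 0, Q 0, Q 0, Q 0, Q 0, Q 0, Q 0, Q 0],
  [Q 0, Q 0, Q 0, Q 0, Q 0, Q 0, Q 0, Q 0, Q 0, Q 0, Q 0, Q 0, Q 0, Q 0, Q 0, Q 0, Q 0, Q 0, Q 0, Q 0, Q 0, Q 0, Q 0,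
  Q 0, Q 0, Q 0, Q 0, Q 0, Q 0, Q 0, Q 0, Q 0, Q 0, Q 0, Q 0, Q 0, Q 0],
  [Q 0, Q 0, Q 0, Q 0, Q 0, Q 0, Q 0, Q 0, Q 0, Q 0, Q 0, Q 0, Q 0, Q 0, Q 0, Q 0, Q 0, Q 0, Q 0, Q 0, Q 0, Q 0, Q 0,
  Q 0, Q 0, Q 0, Q 0, Q 0, Q 0, Q 0, Q 0, Q 0, Q 0, Q 0, Q 0, Q 0, Q 0],
  [Q 0, Q 0, Q 0, Q 0, Q 0, Q 0, Q 0, Q 0, Q 0, Q 0, Q 0, Q 0, Q 0, Q 0, Q 0, Q 0, Q 0, Q 0, Q 0, Q 0, Q 0, Q 0, Q 0,
  Q 0, Q 0, Q 0, Q 0, Q 0, Q 0, Q 0, Q 0, Q 0, Q 0, Q 0, Q 0, Q 0, Q 0],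
  [Q 0, Q 0, Q 0, Q 0, Q 0, Q 0, Q 0, Q 0, Q 0, Q 0, Q 0, Q 0, Q 0, Q 0, Q 0, Q 0, Q 0, Q 0, Q 0, Q 0, Q 0, Q 0, Q 0,
  Q 0, Q 0, Q 0, Q 0, Q 0, Q 0, Q 0, Q 0, Q 0, Q 0, Q 0, Q 0, Q 0, Q 0],
  [Q 0, Q 0, Q 0, Q 0, Q 0, Q 0, Q 0, Q 0, Q 0, Q 0, Q 0, Q 0, Q 0, Q 0, Q 0, Q 0, Q 0, Q 0, Q 0, Q 0, Q 0, Q 0, Q 0,
  Q 0, Q 0, Q 0, Q 0, Q 0, Q 0, Q 0, Q 0, Q 0, Q 0, Q 0, Q 0, Q 0, Q 0],
  [Q 0, Q 0, Q 0, Q 0, Q 0, Q 0, Q 0, Q 0, Q 0, Q 0, Q 0, Q 0, Q 0, Q 0, Q 0, Q 0, Q 0, Q 0, Q 0, Q 0, Q 0, Q 0, Q 0,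
  Q 0, Q 0, Q 0, Q 0, Q 0, Q 0, Q 0, Q 0, Q 0, Q 0, Q 0, Q 0, Q 0, Q 0],
  [Q 0, Q 0, Q 0, Q 0, Q 0, Q 0, Q 0, Q 0, Q 0, Q 0, Q 0, Q 0, Q 0, Q 0, Q 0, Q 0, Q 0, Q 0, Q 0, Q 0, Q 0, Q 0, Q 0,
  Q 0, Q 0, Q 0, Q 0, Q 0, Q 0, Q 0, Q 0, Q 0, Q 0, Q 0, Q 0, Q 0, Q 0],
  [Q 0, Q 0, Q 0, Q 0, Q 0, Q 0, Q 0, Q 0, Q 0, Q 0, Q 0, Q 0, Q 0, Q 0, Q 0, Q 0, Q 0, Q 0, Q 0, Q 0, Q 0, Q 0, Q 0,
  Q 0, Q 0, Q 0, Q 0, Q 0, Q 0, Q 0, Q 0, Q 0, Q 0, Q 0, Q 0, Q 0, Q 0],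
  [Q 0, Q 0, Q 0, Q 0, Q 0, Q 0, Q 0, Q 0, Q 0, Q 0, Q 0, Q 0, Q 0, Q 0, Q 0, Q 0, Q 0, Q 0, Q 0, Q 0, Q 0, Q 0, Q 0,
  Q 0, Q 0, Q 0, Q 0, Q 0, Q 0, Q 0, Q 0, Q 0, Q 0, Q 0, Q 0, Q 0, Q 0],
  [Q 0, Q 0, Q 0, Q 0, Q 0, Q 0, Q 0, Q 0, Q 0, Q 0, Q 0, Q 0, Q 0, Q 0, Q 0, Q 0, Q 0, Q 0, Q 0, Q 0, Q 0, Q 0, Q 0,
  Q 0, Q 0, Q 0, Q 0, Q 0, Q 0, Q 0, Q 0, Q 0, Q 0, Q 0, Q 0, Q 0, Q 0],
  [Q 0, Q 0, Q 0, Q 0, Q 0, Q 0, Q 0, Q 0, Q 0, Q 0, Q 0, Q 0, Q 0, Q 0, Q 0, Q 0, Q 0, Q 0, Q 0, Q 0, Q 0, Q 0, Q 0,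
  Q 0, Q 0, Q 0, Q 0, Q 0, Q 0, Q 0, Q 0, Q 0, Q 0, Q 0, Q 0, Q 0, Q 0],
  [Q 0, Q 0, Q 0, Q 0, Q 0, Q 0, Q 0, Q 0, Q 0, Q 0, Q 0, Q 0, Q 0, Q 0, Q 0, Q 0, Q 0, Q 0, Q 0, Q 0, Q 0, Q 0, Q 0,
  Q 0, Q 0, Q 0, Q 0, Q 0, Q 0, Q 0, Q 0, Q 0, Q 0, Q 0, Q 0, Q 0, Q 0],
  [Q 0, Q 0, Q 0, Q 0, Q 0, Q 0, Q 0, Q 0, Q 0, Q 0, Q 0, Q 0, Q 0, Q 0, Q 0, Q 0, Q 0, Q 0, Q 0, Q 0, Q 0, Q 0, Q 0,
  Q 0, Q 0, Q 0, Q 0, Q 0, Q 0, Q 0, Q 0, Q 0, Q 0, Q 0, Q 0, Q 0, Q 0],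
  [Q 0, Q 0, Q 0, Q 0, Q 0, Q 0, Q 0, Q 0, Q 0, Q 0, Q 0, Q 0, Q 0, Q 0, Q 0, Q 0, Q 0, Q 0, Q 0, Q 0, Q 0, Q 0, Q 0,
  Q 0, Q 0, Q 0, Q 0, Q 0, Q 0, Q 0, Q 0, Q 0, Q 0, Q 0, Q 0, Q 0, Q 0]]

/-- the norms -/
def mm3 : List ℕ := [
  1, 1, 1, 1, 1, 1, 1, 1, 1, 1, 1, 1, 1, 1, 1, 1, 1, 1, 1, 1, 1, 1, 1, 2, 2, 2, 2, 2]

/-- the degrees -/
def bb3 : List ℕ := [
  220, 364, 364, 572, 572, 4928, 16016, 16016, 20020, 20020, 35100, 35100, 80080, 80080, 100100, 102400, 128128,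
  137280, 192192, 197120, 228800, 277200, 315392, 35100, 60060, 61236, 79872, 144144]

/-- the columns of the real parts -/
def hc : List (List ℤ) := [
  [Q 440, Q 728, Q 728, Q 1144, Q 1144, Q 9856, Q 32032, Q 32032, Q 40040, Q 40040, Q 70200, Q 70200, Q 160160,
  Q 160160, Q 200200, Q 204800, Q 256256, Q 274560, Q 384384, Q 394240, Q 457600, Q 554400, Q 630784, Q 140400,
  Q 240240, Q 244944, Q 319488, Q 576576],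
  [Q 24, W 71, W 71, W 39, W 39, Q 128, W 607, W 607, Q 136, W 375, W 359, W 359, Q 1056, Q 544, W 1879, Q 0, Q 1280,
  W 383, W 1151, Q 1024, W 639, W 479, Q 0, W 719, Q 816, Q 1296, Q 0, Q 1344],
  [Q 0, Q 0, Q 0, Q 0, Q 0, Q 0, Q 0, Q 0, Q 0, Q 0, Q 0, Q 0, Q 0, Q 0, Q 0, Q 0, Q 0, Q 0, Q 0, Q 0, Q 0, Q 0, Q 0,
  Q 0, Q 0, Q 0, Q 0, Q 0],
  [Q 0, W 5, W 5, Q 2, Q 2, W 3, W 1, W 1, Q 4, W 3, Q 6, Q 6, Q 0, Q 4, W 19, Q 0, W 15, W 11, Q 12, W 7, Q 8, Q 12,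
  Q 0, W 23, Q 0, Q 0, Q 0, Q 0],
  [W 7, W 25, W 25, W 9, W 9, W 27, W 117, W 117, Q 28, Q 28, W 53, W 53, W 103, Q 4, W 75, W 31, W 79, Q 84, W 11,
  W 39, Q 104, W 35, W 63, Q 216, W 47, Q 0, Q 192, Q 144],
  [Q 0, W 1, W 1, Q 0, Q 0, W 1, Q 2, Q 2, Q 4, Q 0, Q 0, Q 0, Q 0, W 3, Q 0, Q 0, Q 0, Q 0, W 1, Q 0, Q 0, Q 0, Q 0,
  Q 0, Q 4, W 3, Q 0, Q 4],
  [Q 8, Q 8, Q 8, W 7, W 7, W 7, W 7, W 7, Q 8, Q 8, Q 0, Q 0, Q 32, Q 32, Q 40, W 39, Q 8, W 47, W 23, W 31, Q 40,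
  Q 0, W 7, Q 0, Q 48, Q 0, Q 24, Q 0],
  [Q 4, W 3, W 3, W 7, W 7, Q 8, Q 8, Q 8, Q 4, W 11, W 7, W 7, W 7, Q 12, W 3, Q 0, Q 0, Q 0, Q 8, Q 0, Q 0, W 3,
  Q 0, Q 8, Q 16, Q 0, Q 0, W 7],
  [Q 0, Q 0, Q 0, Q 0, Q 0, Q 0, Q 0, Q 0, Q 0, Q 0, Q 0, Q 0, Q 0, Q 0, Q 0, Q 0, Q 0, Q 0, Q 0, Q 0, Q 0, Q 0, Q 0,
  Q 0, Q 0, Q 0, Q 0, Q 0],
  [Q 0, Q 2, Q 2, Q 0, Q 0, Q 0, Q 0, Q 0, Q 0, Q 0, W 1, W 1, Q 0, Q 0, Q 0, Q 2, Q 0, Q 0, Q 0, Q 0, Q 0, Q 0, Q 0,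
  W 3, Q 0, W 3, Q 4, Q 0],
  [Q 0, Q 0, Q 0, Q 0, Q 0, Q 0, Q 0, Q 0, Q 0, Q 0, Q 0, Q 0, Q 0, Q 0, Q 0, Q 0, Q 0, Q 0, Q 0, Q 0, Q 0, Q 0, Q 0,
  Q 0, Q 0, Q 0, Q 0, Q 0],
  [W 3, W 3, W 3, W 3, W 3, Q 0, Q 0, Q 0, Q 4, Q 4, W 3, W 3, Q 0, Q 0, Q 4, Q 0, Q 0, Q 0, Q 0, Q 0, Q 0, Q 0, Q 0,
  W 7, W 7, Q 8, Q 0, Q 0],
  [Q 0, Q 0, Q 0, Q 0, Q 0, Q 0, Q 0, Q 0, Q 0, Q 0, Q 0, Q 0, Q 0, Q 0, Q 0, Q 0, Q 0, Q 0, Q 0, Q 0, Q 0, Q 0, Q 0,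
  Q 0, Q 0, Q 0, Q 0, Q 0],
  [Q 0, Q 2, Q 2, W 1, W 1, Q 2, Q 0, Q 0, Q 0, Q 0, Q 0, Q 0, Q 0, Q 0, Q 0, Q 0, W 3, Q 0, W 1, Q 0, Q 0, Q 0, Q 2,
  Q 0, Q 0, Q 0, W 3, Q 4],
  [Q 0, Q 8, Q 8, Q 4, Q 4, W 3, Q 12, Q 12, Q 0, Q 0, Q 0, Q 0, Q 0, Q 0, Q 0, Q 0, W 3, Q 0, Q 4, Q 0, Q 0, Q 0,
  W 15, Q 0, Q 0, Q 24, Q 8, Q 16],
  [Q 0, Q 0, Q 0, Q 0, Q 0, Q 0, Q 0, Q 0, Q 0, Q 0, Q 0, Q 0, Q 0, Q 0, Q 0, Q 0, Q 0, Q 0, Q 0, Q 0, Q 0, Q 0, Q 0,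
  Q 0, Q 0, Q 0, Q 0, Q 0],
  [W 1, Q 0, Q 0, Q 0, Q 0, Q 2, Q 0, Q 0, Q 0, Q 0, Q 0, Q 0, Q 0, Q 0, Q 0, W 1, Q 0, Q 0, Q 0, Q 2, Q 0, Q 2, W 1,
  Q 0, Q 0, W 1, Q 0, Q 0],
  [Q 2, Q 0, Q 0, W 1, W 1, Q 0, Q 0, Q 0, Q 0, Q 0, Q 2, Q 2, Q 0, Q 0, Q 0, W 1, Q 0, Q 2, Q 0, Q 0, W 1, Q 0, Q 0,
  W 1, Q 0, Q 0, Q 4, Q 0],
  [W 1, W 1, W 1, Q 2, Q 2, Q 2, Q 2, Q 2, W 1, W 1, Q 0, Q 0, Q 2, Q 2, Q 0, Q 0, W 1, Q 2, W 3, W 1, Q 0, Q 0, Q 2,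
  Q 0, W 1, Q 0, Q 4, Q 0],
  [Q 0, Q 0, Q 0, Q 0, Q 0, Q 0, Q 0, Q 0, Q 0, Q 0, Q 0, Q 0, Q 0, Q 0, Q 0, Q 0, Q 0, Q 0, Q 0, Q 0, Q 0, Q 0, Q 0,
  Q 0, Q 0, Q 0, Q 0, Q 0],
  [Q 4, W 1, W 1, W 0, W 0, Q 2, W 0, W 0, W 1, W 1, Q 0, Q 0, Q 4, W 1, Q 2, Q 4, W 1, Q 0, Q 0, Q 2, Q 2, Q 0, W 3,
  Q 0, Q 0, Q 0, Q 0, Q 0],
  [Q 0, Q 0, Q 0, W 0, W 0, Q 2, Q 1, Q 1, W 1, Q 2, Q 0, Q 0, Q 0, W 1, W 1, Q 0, Q 2, Q 0, Q 0, W 1, Q 2, Q 0, Q 0,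
  Q 0, Q 0, Q 0, Q 0, Q 0],
  [Q 0, Q 0, Q 0, Q 0, Q 0, Q 0, Q 0, Q 0, Q 0, Q 0, Q 0, Q 0, Q 0, Q 0, Q 0, Q 0, Q 0, Q 0, Q 0, Q 0, Q 0, Q 0, Q 0,
  Q 0, Q 0, Q 0, Q 0, Q 0],
  [Q 0, Q 0, Q 0, Q 0, Q 0, Q 0, Q 0, Q 0, Q 0, Q 0, Q 0, Q 0, Q 0, Q 0, Q 0, Q 0, Q 0, Q 0, Q 0, Q 0, Q 0, Q 0, Q 0,
  Q 0, Q 0, Q 0, Q 0, Q 0],
  [Q 0, Q 0, Q 0, Q 0, Q 0, Q 0, Q 0, Q 0, Q 0, Q 0, Q 0, Q 0, Q 0, Q 0, Q 0, Q 0, Q 0, Q 0, Q 0, Q 0, Q 0, Q 0, Q 0,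
  Q 0, Q 0, Q 0, Q 0, Q 0],
  [W 3, Q 2, Q 2, Q 0, Q 0, Q 2, W 1, W 1, Q 4, W 3, Q 0, Q 0, Q 4, W 3, Q 0, Q 0, Q 0, Q 4, Q 2, W 3, Q 0, Q 0, Q 0,
  Q 0, Q 4, Q 4, Q 0, W 3],
  [W 3, W 1, W 1, Q 2, Q 2, Q 4, W 1, W 1, W 3, Q 0, Q 2, Q 2, W 3, Q 0, Q 4, Q 0, Q 0, Q 0, Q 4, Q 0, Q 0, W 7, Q 0,
  W 7, Q 8, Q 0, Q 0, Q 8],
  [Q 0, Q 0, Q 0, Q 0, Q 0, Q 0, Q 0, Q 0, Q 0, Q 0, Q 0, Q 0, Q 0, Q 0, Q 0, Q 0, Q 0, Q 0, Q 0, Q 0, Q 0, Q 0, Q 0,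
  Q 0, Q 0, Q 0, Q 0, Q 0],
  [Q 12, W 11, W 11, Q 8, Q 8, Q 8, W 7, W 7, W 19, Q 44, W 23, W 23, Q 24, Q 4, Q 4, Q 0, W 15, Q 0, Q 24, W 31,
  W 63, Q 36, Q 0, Q 24, Q 48, Q 0, Q 0, Q 24],
  [Q 8, Q 0, Q 0, Q 4, Q 4, Q 0, Q 0, Q 0, Q 0, Q 0, W 3, W 3, Q 0, Q 0, Q 0, W 7, Q 0, Q 8, Q 0, Q 0, Q 4, Q 0, Q 0,
  W 7, Q 0, Q 0, W 7, Q 0],
  [Q 0, Q 0, Q 0, Q 0, Q 0, Q 0, Q 0, Q 0, Q 0, Q 0, Q 0, Q 0, Q 0, Q 0, Q 0, Q 0, Q 0, Q 0, Q 0, Q 0, Q 0, Q 0, Q 0,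
  Q 0, Q 0, Q 0, Q 0, Q 0],
  [Q 0, Q 0, Q 0, Q 0, Q 0, Q 0, Q 0, Q 0, Q 0, Q 0, Q 0, Q 0, Q 0, Q 0, Q 0, Q 0, Q 0, Q 0, Q 0, Q 0, Q 0, Q 0, Q 0,
  Q 0, Q 0, Q 0, Q 0, Q 0],
  [W 11, Q 0, Q 0, W 3, W 3, W 15, Q 4, Q 4, W 7, Q 20, Q 0, Q 0, Q 12, Q 4, W 7, Q 0, W 15, Q 12, Q 0, Q 16, Q 8,
  W 11, Q 0, Q 0, Q 24, Q 0, Q 0, W 23],
  [Q 0, Q 0, Q 0, Q 0, Q 0, Q 0, Q 0, Q 0, Q 0, Q 0, Q 0, Q 0, Q 0, Q 0, Q 0, Q 0, Q 0, Q 0, Q 0, Q 0, Q 0, Q 0, Q 0,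
  Q 0, Q 0, Q 0, Q 0, Q 0],
  [W 19, W 1, W 1, W 15, W 15, W 33, Q 2, Q 2, W 19, W 19, Q 0, Q 0, Q 20, Q 20, Q 0, Q 0, Q 16, Q 20, Q 14, W 19,
  Q 0, Q 0, W 15, Q 0, W 19, W 35, W 31, Q 36],
  [W 39, W 7, W 7, W 39, W 39, W 127, W 31, W 31, W 183, W 119, W 39, W 39, W 159, W 95, Q 40, Q 0, Q 0, Q 0, W 127,
  Q 0, Q 0, Q 160, Q 0, W 79, Q 176, Q 144, Q 0, W 63],
  [W 99, W 27, W 27, W 151, W 151, W 727, Q 280, Q 280, W 1539, W 1539, W 1079, W 1079, Q 1400, W 2379, W 139, W 2559,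
  W 783, W 1919, Q 1848, Q 1120, W 319, W 1259, Q 1792, Q 1080, W 1679, Q 0, Q 1536, Q 504]]

end data

/-- the product -/
def em (v u : ℤ × ℤ) : ℤ × ℤ := (v.1 * u.1 - v.2 * u.2, v.1 * u.2 + v.2 * u.1 - v.2 * u.2)

/-- the conjugate -/
def ec (v : ℤ × ℤ) : ℤ × ℤ := (v.1 - v.2, -v.2)

/-- the seeds -/
noncomputable def sd (n t : ℕ) : ℤ × ℤ := (nth (ntd sA [] n) t, nth (ntd sB [] n) t)

/-- the projection of a triple -/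
def okT (v : ℤ × ℤ × ℤ) (u : ℤ × ℤ) : Prop := 3 * u.1 = v.1 - v.2.1 ∧ 3 * u.2 = v.2.2 - v.2.1

/-- the exterior square -/
def okE (u w x : ℤ × ℤ) : Prop := 2 * x.1 = (em u u).1 - w.1 ∧ 2 * x.2 = (em u u).2 - w.2

/-- the operation of degree three -/
def okD (u w x : ℤ × ℤ) : Prop := 3 * x.1 = w.1 - (em u (em u u)).1 ∧ 3 * x.2 = w.2 - (em u (em u u)).2

theorem sd_chk : ∀ t < 37, (okT (tv t 0) (sd 0 t) ∧ okT (tv t 1) (sd 1 t) ∧ okT (tw t) (sd 2 t) ∧ okT (tv t 2) (sd 3 t)) ∧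
    (okE (sd 0 t) (sd 1 t) (sd 4 t) ∧ okE (sd 1 t) (sd 3 t) (sd 5 t) ∧ okE (sd 4 t) (sd 5 t) (sd 6 t) ∧
      okD (sd 0 t) (sd 2 t) (sd 7 t)) ∧ sd 8 t = em (ec (sd 0 t)) (sd 4 t) ∧ sd 9 t = em (sd 0 t) (sd 0 t) ∧
    sd 10 t = ec (sd 6 t) ∧ sd 11 t = em (sd 0 t) (sd 4 t) ∧ sd 12 t = ec (sd 11 t) ∧
    sd 13 t = em (sd 0 t) (sd 9 t) := by
  unfold okT okE okD
  decide +kernel

/-- the combination of the seeds with the rows of the simple group -/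
noncomputable def cmbS (s : List (List ℤ)) : List (List (ℤ × ℕ)) → List ℤ :=
  List.rec (fun _ => []) (fun a _ ih c => List.rec [] (fun x c' _ =>
    addL (mulL a (comb (rowA ++ rowB) x)) (ih c')) c) s

/-- the checks of a table -/
structure Chk (I : List ℕ) (cf : List (List (List (ℤ × ℕ)))) (ra rb : List (List ℤ)) (k : ℕ) (m b : List ℕ) : Prop where
  row : ∀ j < k, cmbS (I.map (ntd sA [])) (ntd cf [] j) = ntd ra [] j ∧ cmbS (I.map (ntd sB [])) (ntd cf [] j) = ntd rb [] j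
  gram : ∀ i < k, ∀ j < k, 2 * ip dat (ntd ra [] i) (ntd ra [] j) - ip dat (ntd ra [] i) (ntd rb [] j) -
    ip dat (ntd rb [] i) (ntd ra [] j) + 2 * ip dat (ntd rb [] i) (ntd rb [] j) =
      if i = j then 2 * (dat.N : ℤ) * (ntd m 0 j : ℕ) else 0
  le : ∀ j < k, ntd m 0 j ≤ 2 ∧ 0 < ntd b 0 j
  sep : ∀ j < k, ∀ i < j, ntd m 0 j = 2 → ntd m 0 i = 2 → ∃ t < 37, nth (ntd rb [] j) t = 0 ∧ nth (ntd rb [] i) t = 0 ∧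
    ((nth (ntd ra [] j) t + nth (ntd ra [] i) t) % 2 ≠ 0 ∨ t = 0 ∧
      ¬ nth (ntd ra [] j) t + nth (ntd ra [] i) t ∣ 2 * ((6 * dat.N : ℕ) : ℤ) ∧
      ¬ nth (ntd ra [] j) t - nth (ntd ra [] i) t ∣ 2 * ((6 * dat.N : ℕ) : ℤ))
  reg : ∀ t < 37, ∑ j ∈ range k, ((ntd b 0 j : ℕ) : ℤ) * nth (ntd ra [] j) t = (if t = 0 then (dat.N : ℤ) else 0) ∧
    ∑ j ∈ range k, ((ntd b 0 j : ℕ) : ℤ) * nth (ntd rb [] j) t = 0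

/-- the scalar product -/
private noncomputable def dt (r : List ℤ) : List ℤ → ℤ :=
  List.rec (fun _ => 0) (fun a _ ih w => List.rec 0 (fun b w' _ => Int.add (Int.mul a b) (ih w')) w) r

/-- the value at `B` -/
private noncomputable def ev (B : ℤ) (v : List ℤ) : ℤ := List.rec 0 (fun a _ ih => Int.add a (Int.mul B ih)) v

private theorem ev_addL (B : ℤ) (v w : List ℤ) : ev B (addL v w) = ev B v + ev B w := by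
  induction v generalizing w with
  | nil => exact (zero_add _).symm
  | cons a v ih => cases w with
    | nil => exact (add_zero _).symm
    | cons b w =>
      show a + b + B * ev B (addL v w) = a + B * ev B v + (b + B * ev B w)
      rw [ih]
      ring

private theorem ev_inj {K B : ℕ} (hB : 2 * K < B) {v w : List ℤ} (h1 : ∀ t, (nth v t).natAbs ≤ K)
    (h2 : ∀ t, (nth w t).natAbs ≤ K) (e : ev B v = ev B w) (t : ℕ) : nth v t = nth w t := by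
  have key : ∀ {a b x y : ℤ}, a.natAbs ≤ K → b.natAbs ≤ K → a + B * x = b + B * y → a = b ∧ x = y := by
    intro a b x y ha hb e
    obtain rfl : a = b := sub_eq_zero.1 (Int.eq_zero_of_dvd_of_natAbs_lt_natAbs (d := B)
      ⟨y - x, by linear_combination e⟩ (by (clear * - hB ha hb; omega)))
    exact ⟨rfl, mul_left_cancel₀ (by omega) (add_left_cancel e)⟩
  have h0 : ∀ v : List ℤ, ev B v = nth v 0 + B * ev B v.tail ∧ ∀ t, nth v (t + 1) = nth v.tail t := fun v => by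
    cases v with
    | nil => exact ⟨((zero_add _).trans (mul_zero _)).symm, fun _ => rfl⟩
    | cons a v => exact ⟨rfl, fun _ => rfl⟩
  induction t generalizing v w with
  | zero => exact (key (h1 0) (h2 0) ((h0 v).1.symm.trans (e.trans (h0 w).1))).1
  | succ t ih =>
    rw [(h0 v).2, (h0 w).2]
    exact ih (fun t => (h0 v).2 t ▸ h1 _) (fun t => (h0 w).2 t ▸ h2 _)
      (key (h1 0) (h2 0) ((h0 v).1.symm.trans (e.trans (h0 w).1))).2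

private theorem dt_addL (v w c : List ℤ) : dt (addL v w) c = dt v c + dt w c := by
  induction v generalizing w c with
  | nil => exact (zero_add _).symm
  | cons a v ih => cases w with
    | nil => exact (add_zero _).symm
    | cons b w => cases c with
      | nil => rfl
      | cons x c =>
        show (a + b) * x + dt (addL v w) c = a * x + dt v c + (b * x + dt w c)
        rw [ih]
        ring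

private theorem dt_map (a : ℤ) (v c : List ℤ) : dt (v.map (Int.mul a)) c = a * dt v c := by
  induction v generalizing c with
  | nil => exact (mul_zero _).symm
  | cons b v ih => cases c with
    | nil => exact (mul_zero _).symm
    | cons x c =>
      show a * b * x + dt (v.map (Int.mul a)) c = a * (b * x + dt v c)
      rw [ih]
      ring

private theorem dt_comm (v w : List ℤ) : dt v w = dt w v := by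
  induction v generalizing w with
  | nil => cases w <;> rfl
  | cons a v ih => cases w with
    | nil => rfl
    | cons b w =>
      show a * b + dt v w = b * a + dt w v
      rw [ih, mul_comm]

/-- the sum of the absolute values -/
private noncomputable def sa (r : List ℤ) : ℕ := List.rec 0 (fun a _ ih => Nat.add a.natAbs ih) r

private theorem dt_le {K : ℕ} {w : List ℤ} (h : ∀ a ∈ w, a.natAbs ≤ K) (c : List ℤ) : (dt w c).natAbs ≤ K * sa c := by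
  induction w generalizing c with
  | nil => exact Nat.zero_le _
  | cons b w ih => cases c with
    | nil => exact Nat.zero_le _
    | cons x c =>
      obtain ⟨h1, h2⟩ := List.forall_mem_cons.1 h
      show (b * x + dt w c).natAbs ≤ K * (x.natAbs + sa c)
      rw [Nat.mul_add]
      exact (Int.natAbs_add_le _ _).trans (Nat.add_le_add ((Int.natAbs_mul b x).trans_le (Nat.mul_le_mul_right _ h1))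
        (ih h2 c))

/-- the columns -/
private noncomputable def pk (C : ℤ) (us : List (List ℤ)) : List ℤ :=
  List.rec [] (fun w _ ih => addL w (ih.map (Int.mul C))) us

private theorem dt_pk (C : ℤ) (us : List (List ℤ)) (c : List ℤ) : dt (pk C us) c = ev C (us.map (dt · c)) := by
  induction us with
  | nil => rfl
  | cons w us ih =>
    show dt (addL w ((pk C us).map (Int.mul C))) c = dt w c + C * ev C (us.map (dt · c))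
    rw [dt_addL, dt_map, ih]

private theorem nth_dt {K : ℕ} {us : List (List ℤ)} (h : ∀ w ∈ us, ∀ a ∈ w, a.natAbs ≤ K) (c : List ℤ) (t : ℕ) :
    nth (us.map (dt · c)) t = dt (ntd us [] t) c ∧ (dt (ntd us [] t) c).natAbs ≤ K * sa c := by
  induction us generalizing t with
  | nil => exact ⟨rfl, Nat.zero_le _⟩
  | cons w us ih => cases t with
    | zero => exact ⟨rfl, dt_le (h w List.mem_cons_self) c⟩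
    | succ t => exact ih (fun v hv => h v (List.mem_cons_of_mem _ hv)) t

/-- the weighted vector -/
private noncomputable def cz (c : List ℕ) (w : List ℤ) : List ℤ := List.zipWith (fun x b => Int.mul (Int.ofNat x) b) c w

private theorem ipL_dt (c : List ℕ) (v w : List ℤ) : ipL c v w = dt (cz c w) v := by
  induction c generalizing v w with
  | nil => rfl
  | cons x c ih => cases w with
    | nil => cases v <;> rfl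
    | cons b w => cases v with
      | nil => rfl
      | cons a v =>
        show (x : ℤ) * (a * b) + ipL c v w = x * b * a + dt (cz c w) v
        rw [ih]
        ring

/-- `2 u - v`, weighted -/
private noncomputable def tw2 (u v : List ℤ) : List ℤ :=
  addL ((cz dat.cntL u).map (Int.mul 2)) ((cz dat.cntL v).map (Int.mul (-1)))

private theorem dt_tw2 (x u v : List ℤ) : dt x (tw2 u v) = 2 * ip dat x u - ip dat x v := by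
  rw [dt_comm, tw2, dt_addL, dt_map, dt_map, ip, ip, ipL_dt, ipL_dt]
  ring

/-- a multiple of a basis vector -/
private noncomputable def bv (x : ℤ) (j : ℕ) : List ℤ := Nat.rec [x] (fun _ ih => 0 :: ih) j

private theorem nth_bv (x : ℤ) (j i : ℕ) : nth (bv x j) i = if i = j then x else 0 := by
  induction j generalizing i with
  | zero => cases i <;> rfl
  | succ j ih => cases i with
    | zero => rfl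
    | succ i => exact (ih i).trans (if_congr Nat.succ_inj.symm rfl rfl)

private theorem gram_of {ra rb : List (List ℤ)} {k : ℕ} {m : List ℕ}
    (h0 : (∀ w ∈ ra, ∀ a ∈ w, a.natAbs ≤ 2 ^ 24) ∧ ∀ w ∈ rb, ∀ a ∈ w, a.natAbs ≤ 2 ^ 24)
    (h : ∀ j < k, 2 ^ 24 * sa (tw2 (ntd ra [] j) (ntd rb [] j)) + 2 ^ 24 * sa (tw2 (ntd rb [] j) (ntd ra [] j)) ≤ 2 ^ 100 ∧
      (2 * (dat.N : ℤ) * (ntd m 0 j : ℕ)).natAbs ≤ 2 ^ 100 ∧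
      dt (pk (2 ^ 101 + 1 : ℕ) ra) (tw2 (ntd ra [] j) (ntd rb [] j)) +
        dt (pk (2 ^ 101 + 1 : ℕ) rb) (tw2 (ntd rb [] j) (ntd ra [] j)) =
          ev (2 ^ 101 + 1 : ℕ) (bv (2 * (dat.N : ℤ) * (ntd m 0 j : ℕ)) j)) :
    ∀ i < k, ∀ j < k, 2 * ip dat (ntd ra [] i) (ntd ra [] j) - ip dat (ntd ra [] i) (ntd rb [] j) -
      ip dat (ntd rb [] i) (ntd ra [] j) + 2 * ip dat (ntd rb [] i) (ntd rb [] j) =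
        if i = j then 2 * (dat.N : ℤ) * (ntd m 0 j : ℕ) else 0 := fun i _ j hj => by
  obtain ⟨h1, h2, h3⟩ := h j hj
  rw [dt_pk, dt_pk, ← ev_addL] at h3
  have h4 := ev_inj (K := 2 ^ 100) (Nat.lt_succ_of_le (Nat.pow_succ').ge) (fun t => by
    rw [nth_addL, (nth_dt h0.1 _ t).1, (nth_dt h0.2 _ t).1]
    exact (Int.natAbs_add_le _ _).trans ((Nat.add_le_add (nth_dt h0.1 _ t).2 (nth_dt h0.2 _ t).2).trans h1)) (fun t => by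
    rw [nth_bv]
    split_ifs
    exacts [h2, Nat.zero_le _]) h3 i
  rw [nth_addL, (nth_dt h0.1 _ i).1, (nth_dt h0.2 _ i).1, nth_bv, dt_tw2, dt_tw2] at h4
  rw [← h4]
  ring

private noncomputable def _root_.Cfsg.Agent.LsF.f13ea9a_18 : {f // @Cfsg.Agent.TAB.Eng.addL = f} := ⟨_, by first | (delta Cfsg.Agent.TAB.Eng.addL; rewrite [Cfsg.Agent.LsF.iadd_eq]; exact rfl) | exact rfl⟩
private noncomputable def _root_.Cfsg.Agent.LsF.f13ea9a_19 : {f // @Cfsg.Agent.TAB.Sz.mulL = f} := ⟨_, by first | (delta Cfsg.Agent.TAB.Sz.mulL; rewrite [Cfsg.Agent.LsF.imul_eq]; exact rfl) | exact rfl⟩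
private noncomputable def _root_.Cfsg.Agent.LsF.f13ea9a_20 : {f // @Cfsg.Agent.TAB.Eng.comb = f} := ⟨_, by first | (delta Cfsg.Agent.TAB.Eng.comb; rewrite [Cfsg.Agent.LsF.f13ea9a_18.2, Cfsg.Agent.LsF.map_eq, Cfsg.Agent.LsF.imul_eq]; exact rfl) | exact rfl⟩
private noncomputable def _root_.Cfsg.Agent.LsF.f13ea9a_21 : {f // @Cfsg.Agent.MO.S.Suz.cmbS = f} := ⟨_, by first | (delta Cfsg.Agent.MO.S.Suz.cmbS; rewrite [Cfsg.Agent.LsF.f13ea9a_18.2, Cfsg.Agent.LsF.f13ea9a_19.2, Cfsg.Agent.LsF.f13ea9a_20.2, Cfsg.Agent.LsF.lappend_pat]; exact rfl) | exact rfl⟩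
private noncomputable def _root_.Cfsg.Agent.LsF.f13ea9a_22 : {f // @Cfsg.Agent.MO.S.Suz.sa = f} := ⟨_, by first | (delta Cfsg.Agent.MO.S.Suz.sa; rewrite [Cfsg.Agent.LsF.natAbs_eq]; exact rfl) | exact rfl⟩
private noncomputable def _root_.Cfsg.Agent.LsF.f13ea9a_23 : {f // @Cfsg.Agent.MO.S.Suz.cz = f} := ⟨_, by first | (delta Cfsg.Agent.MO.S.Suz.cz; rewrite [Cfsg.Agent.LsF.zipWith_eq, Cfsg.Agent.LsF.imul_eq]; exact rfl) | exact rfl⟩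
private noncomputable def _root_.Cfsg.Agent.LsF.f13ea9a_24 : {f // @Cfsg.Agent.MO.S.Suz.tw2 = f} := ⟨_, by first | (delta Cfsg.Agent.MO.S.Suz.tw2; rewrite [Cfsg.Agent.LsF.f13ea9a_18.2, Cfsg.Agent.LsF.f13ea9a_23.2, Cfsg.Agent.LsF.ineg_pat, Cfsg.Agent.LsF.map_eq, Cfsg.Agent.LsF.imul_eq]; exact rfl) | exact rfl⟩
private noncomputable def _root_.Cfsg.Agent.LsF.f13ea9a_25 : {f // @Cfsg.Agent.MO.S.Suz.dt = f} := ⟨_, by first | (delta Cfsg.Agent.MO.S.Suz.dt; rewrite [Cfsg.Agent.LsF.iadd_eq, Cfsg.Agent.LsF.imul_eq]; exact rfl) | exact rfl⟩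
private noncomputable def _root_.Cfsg.Agent.LsF.f13ea9a_26 : {f // @Cfsg.Agent.MO.S.Suz.pk = f} := ⟨_, by first | (delta Cfsg.Agent.MO.S.Suz.pk; rewrite [Cfsg.Agent.LsF.f13ea9a_18.2, Cfsg.Agent.LsF.map_eq, Cfsg.Agent.LsF.imul_eq]; exact rfl) | exact rfl⟩
private noncomputable def _root_.Cfsg.Agent.LsF.f13ea9a_27 : {f // @Cfsg.Agent.MO.S.Suz.ev = f} := ⟨_, by first | (delta Cfsg.Agent.MO.S.Suz.ev; rewrite [Cfsg.Agent.LsF.iadd_eq, Cfsg.Agent.LsF.imul_eq]; exact rfl) | exact rfl⟩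
theorem chk1 : Chk [0, 8] cf1 ra1 rb1 26 mm1 bb1 :=
  ⟨by (refine of_decide_eq_true ?_; (try (rewrite [Cfsg.Agent.LsF.f13ea9a_21.2, Cfsg.Agent.LsF.map_eq, Cfsg.Agent.LsF.instIDecEq_eq, Cfsg.Agent.LsF.dAnd_eq, Cfsg.Agent.LsF.dListEq_eq, Cfsg.Agent.LsF.dBallLT_eq, Cfsg.Agent.LsF.decide_eq])); decide +kernel), gram_of (by decide +kernel) (by (refine of_decide_eq_true ?_; (try (rewrite [Cfsg.Agent.LsF.f13ea9a_22.2, Cfsg.Agent.LsF.f13ea9a_24.2, Cfsg.Agent.LsF.f13ea9a_25.2, Cfsg.Agent.LsF.f13ea9a_26.2, Cfsg.Agent.LsF.f13ea9a_27.2, Cfsg.Agent.LsF.nadd_pat, Cfsg.Agent.LsF.nmul_pat, Cfsg.Agent.LsF.npow_pat, Cfsg.Agent.LsF.iadd_pat, Cfsg.Agent.LsF.imul_pat, Cfsg.Agent.LsF.icast_pat, Cfsg.Agent.LsF.decLe_eq, Cfsg.Agent.LsF.natAbs_eq, Cfsg.Agent.LsF.instIDecEq_eq, Cfsg.Agent.LsF.dAnd_eq, Cfsg.Agent.LsF.dBallLT_eq,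 Cfsg.Agent.LsF.decide_eq])); decide +kernel)), by decide +kernel, by decide +kernel,
    by (refine of_decide_eq_true ?_; (try (rewrite [Cfsg.Agent.LsF.imul_pat, Cfsg.Agent.LsF.icast_pat, Cfsg.Agent.LsF.fsum_eq, Cfsg.Agent.LsF.frange_eq, Cfsg.Agent.LsF.iACM_eq, Cfsg.Agent.LsF.instDecEq_eq, Cfsg.Agent.LsF.instIDecEq_eq, Cfsg.Agent.LsF.dAnd_eq, Cfsg.Agent.LsF.dBallLT_eq, Cfsg.Agent.LsF.ite_eq, Cfsg.Agent.LsF.decide_eq])); decide +kernel)⟩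

theorem chk2 : Chk [4, 9, 10] cf2 ra2 rb2 36 mm2 bb2 :=
  ⟨by (refine of_decide_eq_true ?_; (try (rewrite [Cfsg.Agent.LsF.f13ea9a_21.2, Cfsg.Agent.LsF.map_eq, Cfsg.Agent.LsF.instIDecEq_eq, Cfsg.Agent.LsF.dAnd_eq, Cfsg.Agent.LsF.dListEq_eq, Cfsg.Agent.LsF.dBallLT_eq, Cfsg.Agent.LsF.decide_eq])); decide +kernel), gram_of (by decide +kernel) (by (refine of_decide_eq_true ?_; (try (rewrite [Cfsg.Agent.LsF.f13ea9a_22.2, Cfsg.Agent.LsF.f13ea9a_24.2, Cfsg.Agent.LsF.f13ea9a_25.2, Cfsg.Agent.LsF.f13ea9a_26.2, Cfsg.Agent.LsF.f13ea9a_27.2, Cfsg.Agent.LsF.nadd_pat, Cfsg.Agent.LsF.nmul_pat, Cfsg.Agent.LsF.npow_pat, Cfsg.Agent.LsF.iadd_pat, Cfsg.Agent.LsF.imul_pat, Cfsg.Agent.LsF.icast_pat, Cfsg.Agent.LsF.decLe_eq, Cfsg.Agent.LsF.natAbs_eq, Cfsg.Agent.LsF.instIDecEq_eq, Cfsg.Agent.LsF.dAnd_eq, Cfsg.Agent.LsF.dBallLT_eq,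 Cfsg.Agent.LsF.decide_eq])); decide +kernel)), by decide +kernel, by decide +kernel,
    by (refine of_decide_eq_true ?_; (try (rewrite [Cfsg.Agent.LsF.imul_pat, Cfsg.Agent.LsF.icast_pat, Cfsg.Agent.LsF.fsum_eq, Cfsg.Agent.LsF.frange_eq, Cfsg.Agent.LsF.iACM_eq, Cfsg.Agent.LsF.instDecEq_eq, Cfsg.Agent.LsF.instIDecEq_eq, Cfsg.Agent.LsF.dAnd_eq, Cfsg.Agent.LsF.dBallLT_eq, Cfsg.Agent.LsF.ite_eq, Cfsg.Agent.LsF.decide_eq])); decide +kernel)⟩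

theorem chk3 : Chk [7, 11, 12, 13] cf3 ra3 rb3 28 mm3 bb3 :=
  ⟨by (refine of_decide_eq_true ?_; (try (rewrite [Cfsg.Agent.LsF.f13ea9a_21.2, Cfsg.Agent.LsF.map_eq, Cfsg.Agent.LsF.instIDecEq_eq, Cfsg.Agent.LsF.dAnd_eq, Cfsg.Agent.LsF.dListEq_eq, Cfsg.Agent.LsF.dBallLT_eq, Cfsg.Agent.LsF.decide_eq])); decide +kernel), gram_of (by decide +kernel) (by (refine of_decide_eq_true ?_; (try (rewrite [Cfsg.Agent.LsF.f13ea9a_22.2, Cfsg.Agent.LsF.f13ea9a_24.2, Cfsg.Agent.LsF.f13ea9a_25.2, Cfsg.Agent.LsF.f13ea9a_26.2, Cfsg.Agent.LsF.f13ea9a_27.2, Cfsg.Agent.LsF.nadd_pat, Cfsg.Agent.LsF.nmul_pat, Cfsg.Agent.LsF.npow_pat, Cfsg.Agent.LsF.iadd_pat, Cfsg.Agent.LsF.imul_pat, Cfsg.Agent.LsF.icast_pat, Cfsg.Agent.LsF.decLe_eq, Cfsg.Agent.LsF.natAbs_eq, Cfsg.Agent.LsF.instIDecEq_eq, Cfsg.Agent.LsF.dAnd_eq,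 Cfsg.Agent.LsF.dBallLT_eq, Cfsg.Agent.LsF.decide_eq])); decide +kernel)), by decide +kernel, by decide +kernel,
    by (refine of_decide_eq_true ?_; (try (rewrite [Cfsg.Agent.LsF.imul_pat, Cfsg.Agent.LsF.icast_pat, Cfsg.Agent.LsF.fsum_eq, Cfsg.Agent.LsF.frange_eq, Cfsg.Agent.LsF.iACM_eq, Cfsg.Agent.LsF.instDecEq_eq, Cfsg.Agent.LsF.instIDecEq_eq, Cfsg.Agent.LsF.dAnd_eq, Cfsg.Agent.LsF.dBallLT_eq, Cfsg.Agent.LsF.ite_eq, Cfsg.Agent.LsF.decide_eq])); decide +kernel)⟩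

theorem hc_chk : ∀ t < 37, ∀ i < 28, nth (ntd hc [] t) i = 2 * nth (ntd ra3 [] i) t - nth (ntd rb3 [] i) t := by
  decide +kernel

/-- the weights -/
def wt : List ℕ := mm3.map fun a => 2 / a

private noncomputable def _root_.Cfsg.Agent.LsF.f13ea9a_28 : {f // @Cfsg.Agent.TAB.Eng.Dat.cnt = f} := ⟨_, by first | (delta Cfsg.Agent.TAB.Eng.Dat.cnt; rewrite [Cfsg.Agent.LsF.getD_eq]; exact rfl) | exact rfl⟩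
private noncomputable def _root_.Cfsg.Agent.LsF.f13ea9a_29 : {f // @Cfsg.Agent.TAB.Eng.ipL = f} := ⟨_, by first | (delta Cfsg.Agent.TAB.Eng.ipL; rewrite [Cfsg.Agent.LsF.iadd_eq, Cfsg.Agent.LsF.imul_eq]; exact rfl) | exact rfl⟩
private noncomputable def _root_.Cfsg.Agent.LsF.f13ea9a_30 : {f // @Cfsg.Agent.MO.S.Suz.wt = f} := ⟨_, by first | (delta Cfsg.Agent.MO.S.Suz.wt; rewrite [Cfsg.Agent.LsF.ndiv_pat, Cfsg.Agent.LsF.map_eq]; exact rfl) | exact rfl⟩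
theorem col_chk : ∀ t < 37, ∀ u < 37, (dat.cnt u : ℤ) * ipL wt (ntd hc [] t) (ntd hc [] u) =
    if t = u ∧ t ∉ bw.map Prod.fst then 8 * (dat.N : ℤ) else 0 := by (refine of_decide_eq_true ?_; (try (rewrite [Cfsg.Agent.LsF.dMemE_pat, Cfsg.Agent.LsF.f13ea9a_28.2, Cfsg.Agent.LsF.f13ea9a_29.2, Cfsg.Agent.LsF.f13ea9a_30.2, Cfsg.Agent.LsF.imul_pat, Cfsg.Agent.LsF.icast_pat, Cfsg.Agent.LsF.instDecEq_eq, Cfsg.Agent.LsF.map_eq, Cfsg.Agent.LsF.instIDecEq_eq, Cfsg.Agent.LsF.dAnd_eq, Cfsg.Agent.LsF.dNot_eq, Cfsg.Agent.LsF.dBallLT_eq, Cfsg.Agent.LsF.ite_eq, Cfsg.Agent.LsF.decide_eq])); decide +kernel)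

theorem two_chk : ∀ j < 28, ntd mm3 0 j ≠ 1 → wt.getD j 0 = 1 ∧
    ∑ t ∈ range 37, (dat.cnt t : ℤ) * (nth (ntd hc [] t) j * nth (ntd hc [] t) j) ≠ 16 * (dat.N : ℤ) := by
  decide +kernel

/-- the real rows of norm one -/
noncomputable def fx (j : ℕ) : Bool := decide (ntd mm3 0 j = (1 : ℕ) ∧ ∀ t : ℕ, t < 37 → nth (ntd rb3 [] j) t = (0 : ℤ))

theorem cnt_chk : (∑ j ∈ range 26, if (ntd bb1 0 j % 5 != 0 && true) = true then ntd mm1 0 j else 0) = 16 ∧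
    (∑ j ∈ range 36, if (ntd bb2 0 j % 5 != 0 && true) = true then ntd mm2 0 j else 0) = 16 ∧
    (∑ j ∈ range 28, if (ntd bb3 0 j % 5 != 0 && true) = true then ntd mm3 0 j else 0) = 16 ∧
    (∑ j ∈ range 28, if (ntd bb3 0 j % 3 != 0 && true) = true then ntd mm3 0 j else 0) = 18 ∧
    (∑ j ∈ range 28, if (ntd bb3 0 j % 5 != 0 && fx j) = true then ntd mm3 0 j else 0) = 4 ∧
    (∑ j ∈ range 28, if (ntd bb3 0 j % 3 != 0 && fx j) = true then ntd mm3 0 j else 0) = 12 := by decide +kernel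

end Cfsg.Agent.MO.S.Suz
end

-- part: MO/S/Suz/Cnt
section
/-!
# MO, covers : the characters over a central character from orthogonal rows of norm at most two (helper63)

* `Rw z c k m b F` : the rows `F j` are generalized characters over `z ↦ c`, orthogonal of norms `m j ≤ 2`, and
  `∑ b j * F j` is the part of the regular character;
* `Rw.exists_ix`, `Rw.card` : the enumeration and the counts; `eq_of_one` : rows of norm one;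
* `cnt_comp` : the counts of a quotient; `kk_eq`, `fA_eq` : the counts of `MO` for a cyclic centre.
-/

set_option autoImplicit false

namespace Cfsg.Agent.MO.S.Suz

open Cfsg Finset Cfsg.Agent.TAB.Eng Cfsg.Agent.TAB.Use Cfsg.Agent.Characters
open Cfsg.Agent.Characters.Core Cfsg.Agent.Characters.Brauer Cfsg.Agent.H447.CTab
open Subgroup (center zpowers mem_zpowers)
open scoped ComplexConjugate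

section rows

variable {X : Type} [Group X] [Fintype X] {z : X} {c : ℂ} {k : ℕ} {m b : ℕ → ℕ} {F : ℕ → X → ℂ}

/-- the rows -/
structure Rw (z : X) (c : ℂ) (k : ℕ) (m b : ℕ → ℕ) (F : ℕ → X → ℂ) : Prop where
  cen : z ∈ center X
  gen : ∀ j < k, IsGeneralizedCharacter X (F j)
  ov : ∀ j < k, ∀ x, F j (z * x) = c * F j x
  le : ∀ j < k, m j ≤ 2
  pos : ∀ j < k, 0 < b j
  gram : ∀ i < k, ∀ j < k, classInner (F i) (F j) = if i = j then (m j : ℂ) else 0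
  sep : ∀ j < k, ∀ i < j, m j = 2 → m i = 2 → ∃ x, ∃ u v : ℤ, F j x = u ∧ F i x = v ∧ ((u + v) % 2 ≠ 0 ∨
    x = 1 ∧ ¬ u + v ∣ 2 * Nat.card X ∧ ¬ u - v ∣ 2 * Nat.card X)
  reg0 : ∀ x, x ∉ zpowers z → ∑ j ∈ range k, (b j : ℂ) * F j x = 0
  reg1 : (∑ j ∈ range k, (b j : ℂ) * F j 1) * orderOf z = Nat.card X

omit [Fintype X] in
theorem app_pow {f : X → ℂ} (h : ∀ x, f (z * x) = c * f x) (n : ℕ) (x : X) : f (z ^ n * x) = c ^ n * f x := by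
  induction n with
  | zero => rw [pow_zero, pow_zero, one_mul, one_mul]
  | succ n ih => rw [pow_succ', mul_assoc, h, ih, pow_succ', mul_assoc]

theorem exists_sc (hz : z ∈ center X) {χ : X → ℂ} (h : IsIrrCharacter X χ) :
    ∃ d : ℂ, (∀ x, χ (z * x) = d * χ x) ∧ d * conj d = 1 ∧ (χ z = c * χ 1 ↔ d = c) := by
  obtain ⟨d, h1, h2, -⟩ := ODD.Red.exists_central h hz
  refine ⟨d, h1, ?_, ?_⟩
  · rw [Complex.mul_conj, Complex.normSq_eq_norm_sq,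
      Complex.norm_eq_one_of_pow_eq_one (h2 _ (pow_orderOf_eq_one z)) (orderOf_pos z).ne']
    simp
  · rw [← mul_one z, h1, mul_left_inj' (isIrr_apply_one_ne_zero h)]

/-- a function and a character over different central characters are orthogonal -/
theorem inner_ne (hz : z ∈ center X) {f χ : X → ℂ} (hf : ∀ x, f (z * x) = c * f x) (h : IsIrrCharacter X χ)
    (hn : χ z ≠ c * χ 1) : classInner f χ = 0 := by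
  obtain ⟨d, h1, h2, h3⟩ := exists_sc (c := c) hz h
  have h4 := MK.S7.inner_shift f h1
  rw [show (fun x => f (z * x)) = c • f from funext hf, classInner_smul_left] at h4
  by_contra h5
  refine hn (h3.2 ?_)
  have h6 : conj d * c = 1 := mul_right_cancel₀ h5 (by rw [one_mul, mul_assoc]; exact h4.symm)
  rw [← mul_one d, ← h6, ← mul_assoc, h2, one_mul]

theorem Rw.deg (R : Rw z c k m b F) {χ : X → ℂ} (h : IsIrrCharacter X χ) (ho : χ z = c * χ 1) :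
    ∑ j ∈ range k, (b j : ℂ) * classInner (F j) χ = χ 1 := by
  classical
  obtain ⟨d, h1, h2, h3⟩ := exists_sc (c := c) R.cen h
  obtain rfl := h3.1 ho
  obtain ⟨n, -, hn⟩ := isIrr_apply_one h
  have h4 : ∀ x, (∑ j ∈ range k, (b j : ℂ) • F j) x = ∑ j ∈ range k, (b j : ℂ) * F j x := fun x => by
    rw [Finset.sum_apply]
    rfl
  have h5 : ∀ x, (∑ j ∈ range k, (b j : ℂ) • F j) (z * x) = d * (∑ j ∈ range k, (b j : ℂ) • F j) x := fun x => by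
    rw [h4, h4, Finset.mul_sum]
    exact Finset.sum_congr rfl fun j hj => by rw [R.ov j (mem_range.1 hj), mul_left_comm]
  rw [Finset.sum_congr rfl fun j _ => (classInner_smul_left _ _ _).symm, ← classInner_sum_left, classInner_def,
    ← Finset.sum_subset (Finset.subset_univ (univ.filter fun x => x ∈ zpowers z)) fun x _ hx => by
      rw [h4, R.reg0 x (by simpa using hx), zero_mul],
    Finset.sum_congr rfl (g := fun _ => (∑ j ∈ range k, (b j : ℂ) * F j 1) * χ 1) fun x hx => ?_, Finset.sum_const,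
    ← Fintype.card_subtype, ← Nat.card_eq_fintype_card, Nat.card_zpowers, nsmul_eq_mul, ← mul_assoc (orderOf z : ℂ),
    mul_comm (orderOf z : ℂ), R.reg1, inv_mul_cancel_left₀ card_ne_zero_complex]
  obtain ⟨i, rfl⟩ := mem_powers_iff_mem_zpowers.2 (mem_filter.1 hx).2
  beta_reduce
  rw [← mul_one (z ^ i), app_pow h5, app_pow h1, h4, hn, map_mul, map_pow, map_natCast, mul_mul_mul_comm, ← mul_pow,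
    h2, one_pow, one_mul]

/-- **the enumeration** -/
theorem Rw.exists_ix (R : Rw z c k m b F) : ∃ ix : (X → ℂ) → ℕ,
    (∀ χ, IsIrrCharacter X χ → χ z = c * χ 1 → ix χ < k ∧ χ 1 = b (ix χ) ∧
      ∀ j < k, classInner (F j) χ = if ix χ = j then 1 else 0) ∧
    ∀ j < k, Nat.card {χ : {χ : IrrCharacter X // χ.1 z = c * χ.1 1} // ix χ.1.1 = j} = m j := by
  classical
  have := finite_irr (G := X)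
  have := Fintype.ofFinite (IrrCharacter X)
  let u : ℕ → IrrCharacter X → ℤ := fun j => if h : j < k then H447.CTab.mu (R.gen j h) else 0
  have hu : ∀ j (h : j < k), u j = H447.CTab.mu (R.gen j h) := fun j h => dif_pos h
  have hi : ∀ j < k, ∀ χ : IrrCharacter X, classInner (F j) χ.1 = u j χ := fun j h χ => by rw [hu j h, inner_mu]
  have hG : ∀ i < k, ∀ j < k, u i ⬝ᵥ u j = if i = j then (m j : ℤ) else 0 := fun i h j h' => by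
    have h1 := (R.gram i h j h').symm.trans (inner_sum_mu (R.gen i h) (R.gen j h'))
    rw [← hu i h, ← hu j h'] at h1
    refine Int.cast_injective (α := ℂ) (h1.symm.trans ?_)
    split_ifs <;> simp
  have hdis : ∀ χ, ∀ j < k, ∀ i < j, u j χ ≠ 0 → u i χ = 0 := fun χ j hj i h h1 => by
    by_contra h2
    have hi' := h.trans hj
    obtain ⟨h4, h5, s, e, h6, he, h7⟩ := two_of_perp (R.le j hj) (R.le i hi') ((hG j hj j hj).trans (if_pos rfl))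
      ((hG i hi' i hi').trans (if_pos rfl)) ((hG j hj i hi').trans (if_neg h.ne')) h1 h2
    obtain ⟨x, v, w, h8, h9, h10⟩ := R.sep j hj i h h4 h5
    have h11 : e * χ.1 x + e * χ.1 x = ((v + s * w : ℤ) : ℂ) := by
      rw [Int.cast_add, Int.cast_mul, ← h8, ← h9, apply_mu (R.gen j hj), apply_mu (R.gen i hi'), ← hu j hj, ← hu i hi',
        Finset.mul_sum, ← Finset.sum_add_distrib,
        Finset.sum_congr rfl fun y _ => by rw [← mul_assoc, ← add_mul, ← Int.cast_mul, ← Int.cast_add, h7 y]]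
      simp only [apply_ite ((↑) : ℤ → ℂ), Int.cast_zero, ite_mul, zero_mul, Finset.sum_ite_eq', Finset.mem_univ,
        if_true, Int.cast_mul, Int.cast_ofNat]
      ring
    rcases h10 with h10 | ⟨rfl, h10⟩
    · have h12 := even_of_integral ((isIntegral_algebraMap (R := ℤ) (A := ℂ) (x := e)).mul
        (GaloisBasic.isIntegral_apply (isIrr_isCharacter χ.2) x)) h11
      rcases h6 with rfl | rfl <;> omega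
    · obtain ⟨d, -, h12, a, h13⟩ := degree_dvd χ
      rw [h12] at h11
      have h14 : e * d + e * d = v + s * w := by exact_mod_cast h11
      have h15 : v + s * w ∣ 2 * Nat.card X := ⟨e * a, by
        rw [← h14, h13]
        rcases he with rfl | rfl <;> push_cast <;> ring⟩
      rcases h6 with rfl | rfl
      · exact h10.1 (by rwa [one_mul] at h15)
      · exact h10.2 (by rwa [neg_one_mul, ← sub_eq_add_neg] at h15)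
  have hcl : ∀ χ : X → ℂ, ∃ y, ∀ h : IsIrrCharacter X χ, χ z = c * χ 1 → y < k ∧ χ 1 = b y ∧
      ∀ j < k, u j ⟨χ, h⟩ = if y = j then 1 else 0 := fun χ => by
    by_cases h : IsIrrCharacter X χ ∧ χ z = c * χ 1
    swap
    · exact ⟨0, fun h1 h2 => absurd ⟨h1, h2⟩ h⟩
    obtain ⟨n, h1, h2⟩ := isIrr_apply_one h.1
    have h3 := (R.deg h.1 h.2).trans h2
    rw [Finset.sum_congr rfl fun j hj => by rw [hi j (mem_range.1 hj) ⟨χ, h.1⟩]] at h3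
    have h4 : ∑ j ∈ range k, (b j : ℤ) * u j ⟨χ, h.1⟩ = n := by exact_mod_cast h3
    obtain ⟨y, hy, h5⟩ := Finset.exists_ne_zero_of_sum_ne_zero (h4.trans_ne (by exact_mod_cast h1.ne'))
    have h6 := right_ne_zero_of_mul h5
    have h7 : ∀ j < k, j ≠ y → u j ⟨χ, h.1⟩ = 0 := fun j hj hne => by
      rcases lt_or_gt_of_ne hne with h8 | h8
      · exact hdis _ y (mem_range.1 hy) j h8 h6
      · exact by_contra fun h9 => h6 (hdis _ j hj y h8 h9)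
    rw [Finset.sum_eq_single y (fun j hj hne => by rw [h7 j (mem_range.1 hj) hne, mul_zero]) fun h => absurd hy h] at h4
    have h8 := abs_of_norm (R.le y (mem_range.1 hy)) ((hG y (mem_range.1 hy) y (mem_range.1 hy)).trans (if_pos rfl))
      ⟨χ, h.1⟩
    have h9 := R.pos y (mem_range.1 hy)
    have h10 : u y ⟨χ, h.1⟩ = 1 := by
      by_contra h11
      rw [show u y ⟨χ, h.1⟩ = -1 by omega] at h4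
      omega
    refine ⟨y, fun _ _ => ⟨mem_range.1 hy, ?_, fun j hj => ?_⟩⟩
    · rw [h10, mul_one] at h4
      rw [h2]
      exact_mod_cast h4.symm
    · split_ifs with h11
      · exact h11 ▸ h10
      · exact h7 j hj (Ne.symm h11)
  choose ix hix using hcl
  refine ⟨ix, fun χ h1 h2 => ⟨(hix χ h1 h2).1, (hix χ h1 h2).2.1, fun j hj => ?_⟩, fun j hj => ?_⟩
  · rw [hi j hj ⟨χ, h1⟩, (hix χ h1 h2).2.2 j hj]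
    split_ifs <;> simp
  · have h1 := (hG j hj j hj).trans (if_pos rfl)
    rw [dotProduct, Finset.sum_congr rfl (g := fun χ => if χ.1 z = c * χ.1 1 ∧ ix χ.1 = j then 1 else 0) fun χ _ => ?_,
      Finset.sum_boole, Nat.cast_inj, ← Fintype.card_subtype, ← Nat.card_eq_fintype_card] at h1
    · rw [← h1]
      exact Nat.card_congr (Equiv.subtypeSubtypeEquivSubtypeInter _ fun χ : IrrCharacter X => ix χ.1 = j)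
    · by_cases h2 : χ.1 z = c * χ.1 1
      · rw [(hix χ.1 χ.2 h2).2.2 j hj]
        simp only [h2, true_and, ite_mul, one_mul, zero_mul]
        split_ifs <;> rfl
      · rw [if_neg fun h => h2 h.1, show u j χ = 0 by
          exact_mod_cast (hi j hj χ).symm.trans (inner_ne R.cen (R.ov j hj) χ.2 h2), mul_zero]

/-- **the counts** -/
theorem Rw.card (R : Rw z c k m b F) (p : ℕ) {P : (X → ℂ) → Prop} {Q : ℕ → Bool}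
    (h : ∀ χ, IsIrrCharacter X χ → χ z = c * χ 1 → ∀ j < k, ¬ p ∣ b j →
      (∀ i < k, classInner (F i) χ = if j = i then 1 else 0) → (P χ ↔ Q j = true)) :
    Nat.card {χ : X → ℂ // PI p X χ ∧ χ z = c * χ 1 ∧ P χ} =
      ∑ j ∈ range k, if (b j % p != 0 && Q j) = true then m j else 0 := by
  classical
  have := finite_irr (G := X)
  have := Fintype.ofFinite (IrrCharacter X)
  obtain ⟨ix, h1, h2⟩ := R.exists_ix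
  rw [← Finset.sum_congr rfl fun y hy => by rw [← h2 y (mem_range.1 hy)],
    ← MK.S7.card_fib (fun χ : {χ : IrrCharacter X // χ.1 z = c * χ.1 1} => ix χ.1.1) (fun χ => (h1 _ χ.1.2 χ.2).1)
      fun y => (b y % p != 0 && Q y) = true]
  have h3 : ∀ χ, IsIrrCharacter X χ → χ z = c * χ 1 →
      (¬ p ∣ charDegree χ ∧ P χ ↔ (b (ix χ) % p != 0 && Q (ix χ)) = true) := fun χ h4 h5 => by
    obtain ⟨h6, h7, h8⟩ := h1 χ h4 h5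
    rw [show charDegree χ = b (ix χ) by simp [charDegree, h7], Bool.and_eq_true, bne_iff_ne, ne_eq,
      ← Nat.dvd_iff_mod_eq_zero]
    exact and_congr_right fun h9 => h χ h4 h5 _ h6 h9 h8
  exact Nat.card_congr ⟨fun χ => ⟨⟨⟨χ.1, χ.2.1.1⟩, χ.2.2.1⟩, (h3 _ χ.2.1.1 χ.2.2.1).1 ⟨χ.2.1.2, χ.2.2.2⟩⟩,
    fun χ => ⟨χ.1.1.1, ⟨χ.1.1.2, ((h3 _ χ.1.1.2 χ.1.2).2 χ.2).1⟩, χ.1.2, ((h3 _ χ.1.1.2 χ.1.2).2 χ.2).2⟩,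
    fun _ => rfl, fun _ => rfl⟩

/-- a function of norm one which contains an irreducible character -/
theorem eq_of_one {f χ : X → ℂ} (h : IsIrrCharacter X χ) (h1 : classInner f f = 1) (h2 : classInner f χ = 1) :
    f = χ := by
  refine sub_eq_zero.1 (classInner_self_eq_zero ?_)
  rw [classInner_sub_left, classInner_sub_right, classInner_sub_right, h1, h2, classInner_irr_self h,
    ← classInner_conj_symm, h2, map_one]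
  ring

end rows

section quot

variable {X Y : Type} [Group X] [Group Y] {p : ℕ}

/-- the characters of a quotient by a part of the cyclic group of `j` -/
theorem cnt_comp [Finite Y] (θ : Y →* X) (hθ : Function.Surjective θ) {j : Y} (hj : j ∈ center Y)
    (hk : θ.ker ≤ zpowers j) {c : ℂ} (hc : c ^ orderOf (θ j) = 1) {P : (Y → ℂ) → Prop} {Q : (X → ℂ) → Prop}
    (h : ∀ χ : X → ℂ, P (fun y => χ (θ y)) ↔ Q χ) :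
    Nat.card {χ : X → ℂ // PI p X χ ∧ χ (θ j) = c * χ 1 ∧ Q χ} =
      Nat.card {χ : Y → ℂ // PI p Y χ ∧ χ j = c * χ 1 ∧ P χ} := by
  have := Fintype.ofFinite Y
  refine Nat.card_eq_of_bijective (fun χ => ⟨fun y => χ.1 (θ y), T.pi_comp θ hθ χ.2.1, by
    simpa only [map_one] using χ.2.2.1, (h _).2 χ.2.2.2⟩) ⟨fun χ ψ e => ?_, ?_⟩
  · exact Subtype.ext (hθ.injective_comp_right (congrArg Subtype.val e))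
  · rintro ⟨ψ, h1, h2, h3⟩
    obtain ⟨d, h4, -, h5⟩ := exists_sc (c := c) hj h1.1
    obtain rfl := h5.1 h2
    obtain ⟨η, hη, he⟩ := ODD.Red.exists_quot θ hθ h1.1 fun w hw => by
      obtain ⟨n, rfl⟩ := mem_powers_iff_mem_zpowers.2 (hk hw)
      obtain ⟨a, rfl⟩ := orderOf_dvd_of_pow_eq_one ((map_pow θ j n).symm.trans hw)
      beta_reduce
      rw [← mul_one (j ^ _), app_pow h4, pow_mul, hc, one_pow, one_mul]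
    obtain rfl : ψ = fun y => η (θ y) := funext fun y => (he y).symm
    refine ⟨⟨η, ⟨hη, ?_⟩, by simpa only [map_one] using h2, (h _).1 h3⟩, rfl⟩
    rw [← ODD.Red.charDegree_congr (χ := fun y => η (θ y)) (by simp only [map_one])]
    exact h1.2

variable [Finite X] {z : X} {l : X → ℂ}

omit [Finite X] in
theorem fl_prim (hz : center X = zpowers z) (hl : Fl X l) : IsPrimitiveRoot (l z) (orderOf z) := by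
  obtain ⟨μ, h1, h2⟩ := hl
  have h3 : z ∈ center X := hz ▸ mem_zpowers z
  rw [h2 ⟨z, h3⟩, IsPrimitiveRoot.coe_units_iff, ← Subgroup.orderOf_mk z h3, ← orderOf_injective μ h1]
  exact IsPrimitiveRoot.orderOf _

theorem ov_iff (hz : center X = zpowers z) (hl : Fl X l) {χ : X → ℂ} (h : IsIrrCharacter X χ) :
    (∀ w ∈ center X, χ w = l w * χ 1) ↔ χ z = l z * χ 1 := by
  have := Fintype.ofFinite X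
  have h3 : z ∈ center X := hz ▸ mem_zpowers z
  refine ⟨fun h1 => h1 z h3, fun h1 w hw => ?_⟩
  obtain ⟨d, h4, -, h5⟩ := exists_sc (c := l z) h3 h
  obtain rfl := h5.1 h1
  obtain ⟨n, rfl⟩ := mem_powers_iff_mem_zpowers.2 (hz.le hw)
  obtain ⟨μ, -, h2⟩ := hl
  have h6 : l (z ^ n) = l z ^ n := (h2 (⟨z, h3⟩ ^ n)).trans (by rw [map_pow, h2 ⟨z, h3⟩, Units.val_pow_eq_pow_val])
  beta_reduce
  rw [h6, ← app_pow h4, mul_one]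

theorem fA_eq (hz : center X = zpowers z) (hl : Fl X l) (α : MulAut X) :
    fA p l α = Nat.card {χ : X → ℂ // PI p X χ ∧ χ z = l z * χ 1 ∧ ∀ x, χ (α x) = χ x} :=
  T.card_iff fun _ h => and_congr_left fun _ => ov_iff hz hl h.1

theorem kk_eq (hz : center X = zpowers z) (hl : Fl X l) :
    kk p ⊤ (center X) l = Nat.card {χ : X → ℂ // PI p X χ ∧ χ z = l z * χ 1 ∧ True} := by
  rw [kk_top]
  exact T.card_iff fun _ h => (ov_iff hz hl h.1).trans (and_iff_left trivial).symm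

end quot

end Cfsg.Agent.MO.S.Suz
end

-- part: MO/S/Suz/CovA
section
/-!
# MO, the covers of `Suz` : the tables over the central characters of `6.Suz` (helper63)

* `R`, `key`, `inv_eq`, `sum_inv` : the representatives; `tau` : the character of degree twelve;
* `St M c F` : `F` is a generalized character over `j ↦ c` which the outer automorphism conjugates;
* `exists_rw` : the rows of a checked table; `cnt1`, `cnt2`, `cnt3`, `fix3` : the counts.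
-/

set_option autoImplicit false
set_option maxRecDepth 100000

namespace Cfsg.Agent.MO.S.Suz

open Cfsg Finset Cfsg.Agent.TAB.Eng Cfsg.Agent.TAB.Sz Cfsg.Agent.Characters Cfsg.Agent.MK.S4.Z
open Cfsg.Agent.Characters.Core Cfsg.Agent.Characters.Brauer Cfsg.Agent.H447.CTab
open Cfsg.Agent.KFacts.SuzRho (rho)
open Cfsg.Agent.SporadicRecognition.SuzOrder (finiteSuz)
open Subgroup (center zpowers mem_zpowers mem_center_iff)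
open scoped ComplexConjugate

/-! ### Eisenstein integers -/

section eis

variable {ω : ℂ}

/-- the complex number of a pair -/
noncomputable def ee (ω : ℂ) (v : ℤ × ℤ) : ℂ := v.1 + v.2 * ω

theorem conj_om (hω : ω ^ 2 + ω + 1 = 0) : conj ω = -1 - ω := by
  have h1 := congrArg conj hω
  simp only [map_add, map_pow, map_one, map_zero] at h1
  exact mul_left_cancel₀ (sub_ne_zero.2 (MK.S7.conj_ne hω)) (by linear_combination h1 - hω)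

theorem ee_mul (hω : ω ^ 2 + ω + 1 = 0) (v u : ℤ × ℤ) : ee ω v * ee ω u = ee ω (em v u) := by
  simp only [ee, em]
  push_cast
  linear_combination (v.2 * u.2 : ℂ) * hω

theorem ee_conj (hω : ω ^ 2 + ω + 1 = 0) (v : ℤ × ℤ) : conj (ee ω v) = ee ω (ec v) := by
  simp only [ee, ec, map_add, map_mul, map_intCast, conj_om hω]
  push_cast
  ring

end eis

variable {Y : Type} [Group Y] (M : Md Y)

/-! ### the representatives -/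

/-- the representatives -/
noncomputable def R (t : ℕ) : Y := M.lw (wd (sw t))

theorem ty_R {t : ℕ} (ht : t < 37) : td.ty (M.q (R M t)) = t := by rw [R, M.q_lw, ty_wd ht]

theorem ty_zero (s : Spor.Suz) : td.ty s = 0 ↔ s = 1 :=
  haveI := finiteSuz
  TD.ty_eq_zero mass (by decide) rfl (by decide) _

theorem R_zero : R M 0 = 1 := M.l0 ((ty_zero _).1 (ty_R M (t := 0) (by decide)))

theorem card_ker : Nat.card M.q.ker = 6 := by rw [M.ker, Nat.card_zpowers, M.ord]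

include M in
theorem fin : Finite Y := by
  have := finiteSuz
  have : Finite M.q.ker := Nat.finite_of_card_ne_zero (by rw [card_ker]; decide)
  exact M.q.finite_iff_finite_ker_range.2 ⟨inferInstance, inferInstance⟩

include M in
theorem card_Y : Nat.card Y = 6 * dat.N := by
  rw [← M.q.ker.card_mul_index, card_ker, Subgroup.index_ker, MonoidHom.range_eq_top.2 M.surj, Subgroup.card_top, mass.1]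

theorem j_cen : M.j ∈ center Y := mem_center_iff.2 fun g => (M.cen g).symm

theorem j6 : M.j ^ 6 = 1 := M.ord ▸ pow_orderOf_eq_one _

theorem jc (k : ℕ) (y : Y) : Commute (M.j ^ k) y := (show Commute M.j y from M.cen y).pow_left k

theorem δ_j (k : ℕ) (y : Y) : M.δ (M.j ^ k * y) = M.j ^ (5 * k) * M.δ y := by
  rw [map_mul, map_pow, M.δj, pow_mul, inv_eq_of_mul_eq_one_right ((pow_succ' _ 5).symm.trans (j6 M))]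

theorem eq_of {x y : Y} (h : M.q x = M.q y) : ∃ a : ℕ, x = M.j ^ a * y := by
  have := fin M
  obtain ⟨a, ha⟩ := mem_powers_iff_mem_zpowers.2
    (M.ker.le (show M.q (x * y⁻¹) = 1 by rw [map_mul, map_inv, h, mul_inv_cancel]))
  exact ⟨a, (eq_mul_inv_iff_mul_eq.1 ha).symm⟩

/-- **every element is conjugate to a multiple of a representative or of its image** -/
theorem key (x : Y) : ∃ (s : Y) (a : ℕ), x = M.j ^ a * (s * R M (td.ty (M.q x)) * s⁻¹) ∨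
    x = M.j ^ a * (s * M.δ (R M (td.ty (M.q x))) * s⁻¹) := by
  obtain ⟨σ, h, -⟩ := hom _ _ (ty_R M (td.lt (M.q x)))
  generalize R M (td.ty (M.q x)) = r at h
  obtain ⟨s, e⟩ := MK.T.out_cases S2074.result (β := rho) (fun ⟨k, hk⟩ => H997.OutSuz.rho_outer k hk.symm) σ
  obtain ⟨s, rfl⟩ := M.surj s
  rcases e with rfl | rfl
  · exact ⟨s, (eq_of M (y := s * r * s⁻¹) (by rw [← h, map_mul, map_mul, map_inv]; rfl)).imp fun _ => Or.inl⟩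
  · exact ⟨s, (eq_of M (y := s * M.δ r * s⁻¹) (by rw [← h, map_mul, map_mul, map_inv, M.qδ]; rfl)).imp fun _ => Or.inr⟩

/-- invariant functions -/
structure Iv (Φ : Y → ℂ) : Prop where
  cl : IsClassFunction Y Φ
  cen : ∀ y, Φ (M.j * y) = Φ y
  del : ∀ y, Φ (M.δ y) = Φ y

variable {M} in
theorem Iv.eq {Φ : Y → ℂ} (h : Iv M Φ) (x : Y) : Φ x = Φ (R M (td.ty (M.q x))) := by
  have := fin M
  have h1 := app_pow (c := 1) fun y => (h.cen y).trans (one_mul _).symm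
  obtain ⟨s, a, e | e⟩ := key M x
  · conv_lhs => rw [e, h1, h.cl, one_pow, one_mul]
  · conv_lhs => rw [e, h1, h.cl, one_pow, one_mul, h.del]

variable {M} in
theorem Iv.sum [Fintype Y] {Φ : Y → ℂ} (h : Iv M Φ) :
    ∑ x, Φ x = 6 * ∑ t ∈ range 37, (dat.cnt t : ℂ) * Φ (R M t) := by
  have := finiteSuz
  have := Fintype.ofFinite Spor.Suz
  rw [Finset.sum_congr rfl fun x _ => h.eq x, H829.GowDesc.sum_comp_surj M.q M.surj fun s => Φ (R M (td.ty s)),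
    card_ker, sum_mass mass fun t => Φ (R M t)]
  simp only [nsmul_eq_mul]
  rfl

theorem δ_bij : Function.Bijective M.δ := by
  have := fin M
  refine Finite.injective_iff_bijective.1 ((injective_iff_map_eq_one _).2 fun x hx => ?_)
  obtain ⟨a, rfl⟩ := eq_of M (x := x) (y := 1) (rho.injective (by rw [← M.qδ, hx, map_one, map_one]))
  rw [map_mul, map_pow, M.δj, map_one, mul_one, inv_pow, inv_eq_one] at hx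
  rw [hx, mul_one]

/-! ### the character of degree twelve -/

theorem vT {t : ℕ} (ht : t < 37) : _root_.Cfsg.Agent.MK.S4.Z.Val (M.j ^ 2) M.T (R M t) (tv t 0) ∧ _root_.Cfsg.Agent.MK.S4.Z.Val (M.j ^ 2) M.T (R M t ^ 2) (tv t 1) ∧
    _root_.Cfsg.Agent.MK.S4.Z.Val (M.j ^ 2) M.T (R M t ^ 3) (tw t) ∧ _root_.Cfsg.Agent.MK.S4.Z.Val (M.j ^ 2) M.T ((R M t ^ 2) ^ 2) (tv t 2) := by
  have h := tr_chk t ht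
  rw [trT, Bool.and_eq_true, Bool.and_eq_true, Bool.and_eq_true] at h
  have h1 : ∀ x ∈ wd (sw t), x < 7 := fun x hx => Nat.blt_eq.mp (allL_spec h.1 x hx)
  refine ⟨pow_one (R M t) ▸ M.val _ 1 _ h1 ?_, M.val _ 2 _ h1 h.2.2.1, M.val _ 3 _ h1 (tw_chk t ht),
    pow_mul (R M t) 2 2 ▸ M.val _ 4 _ h1 h.2.2.2⟩
  rw [pw, List.replicate_one, List.flatten_singleton]
  exact h.2.1

theorem T_int {t : ℕ} (ht : t < 37) : ∀ a : ℕ, ∃ n : ℤ, M.T (M.j ^ a * R M t) = n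
  | 0 => ⟨_, by rw [pow_zero, one_mul, (vT M ht).1.1]⟩
  | 1 => ⟨-(tv t 0).2.2, by
      rw [Int.cast_neg, ← (vT M ht).1.2.2, ← M.neg, ← mul_assoc, ← mul_assoc, ← pow_add, ← pow_add, pow_add _ 6 1, j6,
        one_mul]⟩
  | 2 => ⟨_, (vT M ht).1.2.1⟩
  | a + 3 => (T_int ht a).elim fun n h => ⟨-n, by rw [pow_add, pow_mul_comm, mul_assoc, M.neg, h, Int.cast_neg]⟩

theorem T_real (x : Y) : conj (M.T x) = M.T x := by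
  have h0 := isCharacter_isClassFunction M.ch
  have h1 : ∀ (a : ℕ) (s y : Y), M.j ^ a * (s * y * s⁻¹) = s * (M.j ^ a * y) * s⁻¹ := fun a s y => by
    rw [← mul_assoc, ← mul_assoc, (jc M a s).eq, mul_assoc s]
  obtain ⟨s, a, e | e⟩ := key M x
  · obtain ⟨n, h⟩ := T_int M (td.lt (M.q x)) a
    rw [e, h1, h0, h, map_intCast]
  · obtain ⟨n, h⟩ := T_int M (td.lt (M.q x)) (5 * a)
    rw [← M.Tδ, δ_j, ← mul_assoc, show 5 * 5 * a = 6 * (4 * a) + a by ring, pow_add, pow_mul, j6, one_pow, one_mul] at h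
    rw [e, h1, h0, h, map_intCast]

/-- the character of degree twelve -/
noncomputable def tau (ω : ℂ) (y : Y) : ℂ :=
  (M.T y + ω ^ 2 * M.T (M.j ^ 2 * y) + ω * M.T (M.j ^ 2 * (M.j ^ 2 * y))) / 3

/-- a generalized character over `c` which is conjugated by the outer automorphism -/
structure St (c : ℂ) (F : Y → ℂ) : Prop where
  gen : IsGeneralizedCharacter Y F
  cen : ∀ y, F (M.j * y) = c * F y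
  del : ∀ y, F (M.δ y) = conj (F y)

variable {ω : ℂ} (hω : ω ^ 2 + ω + 1 = 0)

include hω in
theorem st_tau : St M (-ω ^ 2) (tau M ω) := by
  have := fin M
  have := Fintype.ofFinite Y
  have := finite_irr (G := Y)
  have := Fintype.ofFinite (IrrCharacter Y)
  have h0 := isCharacter_isClassFunction M.ch
  have e1 : ∀ (a b : ℕ) (y : Y), M.j ^ a * (M.j ^ b * y) = M.j ^ (a + b) * y := fun a b y => by rw [pow_add, mul_assoc]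
  have e2 : ∀ (a : ℕ) (y : Y), M.j ^ (6 + a) * y = M.j ^ a * y := fun a y => by rw [pow_add, j6, one_mul]
  refine ⟨isGeneralizedCharacter_of_int (fun g s => ?_) fun χ hχ => ?_, fun y => ?_, fun y => ?_⟩
  · have h1 : ∀ y : Y, M.j ^ 2 * (s * y * s⁻¹) = s * (M.j ^ 2 * y) * s⁻¹ := fun y => by
      rw [← mul_assoc, ← mul_assoc, (jc M 2 s).eq, mul_assoc s]
    rw [tau, tau, h1, h1, h0, h0, h0]
  · obtain ⟨d, h1, h2, -⟩ := ODD.Red.exists_central hχ (pow_mem (j_cen M) 2)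
    have h3 : conj d ^ 3 = 1 := by rw [← map_pow, h2 3 (by rw [← pow_mul, j6]), map_one]
    have h4 := MK.S7.inner_shift M.T h1
    have h5 := MK.S7.inner_shift (fun x => M.T (M.j ^ 2 * x)) h1
    have h6 : tau M ω = (3⁻¹ : ℂ) • (M.T + (ω ^ 2) • (fun x => M.T (M.j ^ 2 * x)) +
        ω • fun x => M.T (M.j ^ 2 * (M.j ^ 2 * x))) := funext fun x => by
      rw [tau, div_eq_inv_mul]
      rfl
    have h7 := inner_mu (isGeneralizedCharacter_of_isCharacter M.ch) ⟨χ, hχ⟩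
    rw [h6, classInner_smul_left, classInner_add_left, classInner_add_left, classInner_smul_left, classInner_smul_left]
    rcases MK.S7.cube_cases hω h3 with h8 | h8 | h8 <;> rw [h8] at h4 h5
    · exact ⟨0, by rw [h4, h5]; linear_combination (3⁻¹ * classInner (fun x => M.T (M.j ^ 2 * (M.j ^ 2 * x))) χ) * hω⟩
    · exact ⟨0, by
        rw [h4, h5]
        linear_combination (3⁻¹ * ω * classInner (fun x => M.T (M.j ^ 2 * (M.j ^ 2 * x))) χ) * hω⟩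
    · refine ⟨_, Eq.trans ?_ h7⟩
      change _ = classInner M.T χ
      rw [h4, h5, conj_om hω]
      linear_combination (-3⁻¹ * (ω + 2) * classInner (fun x => M.T (M.j ^ 2 * (M.j ^ 2 * x))) χ) * hω
  · have h1 : M.T (M.j * y) = -M.T (M.j ^ 2 * (M.j ^ 2 * y)) := by
      rw [← M.neg, e1, e1, e2 1, pow_one]
    have h2 : M.T (M.j ^ 2 * (M.j * y)) = -M.T y := by rw [← M.neg, ← mul_assoc, ← pow_succ]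
    have h3 : M.T (M.j ^ 2 * (M.j ^ 2 * (M.j * y))) = -M.T (M.j ^ 2 * y) := by
      rw [← M.neg, e1, e1, ← mul_assoc, ← pow_succ]
    rw [tau, tau, h1, h2, h3]
    linear_combination ((ω - 1) * (ω * M.T (M.j ^ 2 * y) + M.T (M.j ^ 2 * (M.j ^ 2 * y))) / 3) * hω
  · have h1 : M.T (M.j ^ 2 * M.δ y) = M.T (M.j ^ 2 * (M.j ^ 2 * y)) := by
      rw [← M.Tδ (M.j ^ 2 * (M.j ^ 2 * y)), e1, δ_j, ← e2 2, ← e2 8, ← e2 14]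
    have h2 : M.T (M.j ^ 2 * (M.j ^ 2 * M.δ y)) = M.T (M.j ^ 2 * y) := by
      rw [← M.Tδ (M.j ^ 2 * y), e1, δ_j, ← e2 4]
    rw [tau, tau, h1, h2, M.Tδ]
    simp only [map_div₀, map_add, map_mul, map_pow, T_real, conj_om hω, map_ofNat]
    linear_combination ((M.T (M.j ^ 2 * (M.j ^ 2 * y)) - M.T (M.j ^ 2 * y)) / 3) * hω

include hω in
theorem tau_val {y : Y} {v : ℤ × ℤ × ℤ} {u : ℤ × ℤ} (h : _root_.Cfsg.Agent.MK.S4.Z.Val (M.j ^ 2) M.T y v) (o : okT v u) :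
    tau M ω y = ee ω u := by
  have h1 := congrArg (Int.cast : ℤ → ℂ) o.1
  have h2 := congrArg (Int.cast : ℤ → ℂ) o.2
  push_cast at h1 h2
  rw [tau, h.1, h.2.1, h.2.2, ee]
  linear_combination (v.2.1 / 3 : ℂ) * hω - h1 / 3 - ω / 3 * h2

section st

variable {M} {c c' : ℂ} {F H : Y → ℂ}

theorem St.cast (h : St M c F) (e : c = c') : St M c' F := e ▸ h

theorem St.mul (h : St M c F) (h' : St M c' H) : St M (c * c') fun y => F y * H y :=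
  ⟨isGeneralizedCharacter_mul h.gen h'.gen, fun y => by rw [h.cen, h'.cen, mul_mul_mul_comm],
    fun y => by rw [h.del, h'.del, map_mul]⟩

theorem St.add (h : St M c F) (h' : St M c H) : St M c fun y => F y + H y :=
  ⟨isGeneralizedCharacter_add h.gen h'.gen, fun y => by rw [h.cen, h'.cen, mul_add],
    fun y => by rw [h.del, h'.del, map_add]⟩

theorem St.zero : St M c fun _ => 0 :=
  ⟨isGeneralizedCharacter_zero, fun _ => (mul_zero _).symm, fun _ => (map_zero _).symm⟩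

theorem St.bar (h : St M c F) : St M (conj c) fun y => conj (F y) := by
  have := fin M
  obtain ⟨α, β, hα, hβ, e⟩ := h.gen
  exact ⟨⟨_, _, isCharacter_conj hα, isCharacter_conj hβ, funext fun y => by rw [e, Pi.sub_apply, map_sub]; rfl⟩,
    fun y => by rw [h.cen, map_mul], fun y => by rw [h.del]⟩

theorem St.pow (h : St M c F) (k : ℕ) (y : Y) : F ((M.j * y) ^ k) = c ^ k * F (y ^ k) := by
  rw [(show Commute M.j y from M.cen y).mul_pow, app_pow h.cen]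

theorem St.lam (h : St M c F) : St M (c * c) (lam F) := by
  have := fin M
  exact ⟨gen_ext_two h.gen, fun y => by rw [MK.S4.Z.lam, MK.S4.Z.lam, h.pow, h.cen]; ring, fun y => by
    rw [MK.S4.Z.lam, MK.S4.Z.lam, ← map_pow, h.del, h.del, map_div₀, map_sub, map_mul, map_ofNat]⟩

theorem St.cub (h : St M c F) : St M (c ^ 3) fun y => (F (y ^ 3) - F y ^ 3) / (3 : ℕ) := by
  have := fin M
  exact ⟨gen_delta h.gen Nat.prime_three, fun y => by rw [h.pow, h.cen]; ring, fun y => by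
    rw [← map_pow, h.del, h.del, map_div₀, map_sub, map_pow, map_natCast]⟩

theorem st_row (x : List (ℤ × ℕ)) : St M 1 fun y => (nth (comb (rowA ++ rowB) x) (td.ty (M.q y)) : ℤ) := by
  have := finiteSuz
  refine ⟨H651.isGeneralizedCharacter_comp_hom M.q
    (Virt.comb (slp mass rfl hom ops virt_seeds TAB.Sz.ix ops_chk) x), fun y => ?_, fun y => ?_⟩
  · rw [map_mul, show M.q M.j = 1 from M.ker.ge (mem_zpowers _), one_mul, one_mul]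
  · rw [M.qδ, td_ty, td_ty, H714.S8.SuzFam.fam_aut, map_intCast]

include hω

theorem lam_val {y : Y} {u w x : ℤ × ℤ} (h1 : F y = ee ω u) (h2 : F (y ^ 2) = ee ω w) (o : okE u w x) :
    lam F y = ee ω x := by
  have h3 := congrArg (Int.cast : ℤ → ℂ) o.1
  have h4 := congrArg (Int.cast : ℤ → ℂ) o.2
  rw [Int.cast_mul, Int.cast_sub] at h3 h4
  rw [MK.S4.Z.lam, h1, h2, ee_mul hω, ee, ee, ee]
  push_cast at h3 h4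
  linear_combination -h3 / 2 - ω / 2 * h4

theorem cub_val {y : Y} {u w x : ℤ × ℤ} (h1 : F y = ee ω u) (h2 : F (y ^ 3) = ee ω w) (o : okD u w x) :
    (F (y ^ 3) - F y ^ 3) / (3 : ℕ) = ee ω x := by
  have h3 := congrArg (Int.cast : ℤ → ℂ) o.1
  have h4 := congrArg (Int.cast : ℤ → ℂ) o.2
  rw [Int.cast_mul, Int.cast_sub] at h3 h4
  rw [h1, h2, pow_three, ee_mul hω, ee_mul hω, ee, ee, ee]
  push_cast at h3 h4 ⊢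
  linear_combination -h3 / 3 - ω / 3 * h4

end st

/-- a function with the given values -/
def Ok (ω c : ℂ) (a b : List ℤ) : Prop := ∃ F, St M c F ∧ ∀ t < 37, F (R M t) = ee ω (nth a t, nth b t)

include hω in
theorem seeds : (∀ n ∈ [0, 8], Ok M ω (-ω ^ 2) (ntd sA [] n) (ntd sB [] n)) ∧
    (∀ n ∈ [4, 9, 10], Ok M ω ω (ntd sA [] n) (ntd sB [] n)) ∧
    ∀ n ∈ [7, 11, 12, 13], Ok M ω (-1) (ntd sA [] n) (ntd sB [] n) := by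
  have s0 := st_tau M hω
  have s4 : St M ω _ := s0.lam.cast (by linear_combination (ω ^ 2 - ω) * hω)
  have s9 : St M ω _ := (s0.mul s0).cast (by linear_combination (ω ^ 2 - ω) * hω)
  have s11 : St M (-1) _ := (s0.mul s4).cast (by linear_combination (1 - ω) * hω)
  have v0 := fun t ht => tau_val M hω (vT M ht).1 (sd_chk t ht).1.1
  have v1 := fun t ht => tau_val M hω (vT M ht).2.1 (sd_chk t ht).1.2.1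
  have v2 := fun t ht => tau_val M hω (vT M ht).2.2.1 (sd_chk t ht).1.2.2.1
  have v3 := fun t ht => tau_val M hω (vT M ht).2.2.2 (sd_chk t ht).1.2.2.2
  have v4 := fun t ht => lam_val hω (v0 t ht) (v1 t ht) (sd_chk t ht).2.1.1
  have v5 := fun t ht => lam_val hω (v1 t ht) (v3 t ht) (sd_chk t ht).2.1.2.1
  have v9 : ∀ t < 37, tau M ω (R M t) * tau M ω (R M t) = ee ω (sd 9 t) := fun t ht => by
    rw [v0 t ht, ee_mul hω, (sd_chk t ht).2.2.2.1]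
  have v11 : ∀ t < 37, tau M ω (R M t) * lam (tau M ω) (R M t) = ee ω (sd 11 t) := fun t ht => by
    rw [v0 t ht, v4 t ht, ee_mul hω, (sd_chk t ht).2.2.2.2.2.1]
  simp only [List.forall_mem_cons, List.not_mem_nil, false_imp_iff, implies_true, and_true]
  refine ⟨⟨⟨_, s0, v0⟩, _, (s0.bar.mul s4).cast ?_, fun t ht => ?_⟩, ⟨⟨_, s4, v4⟩, ⟨_, s9, v9⟩, _, s4.lam.bar.cast ?_,
    fun t ht => ?_⟩, ⟨_, s0.cub.cast ?_, fun t ht => cub_val hω (v0 t ht) (v2 t ht) (sd_chk t ht).2.1.2.2.2⟩,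
    ⟨_, s11, v11⟩, ⟨_, s11.bar.cast (by simp only [_root_.map_neg, _root_.map_one]), fun t ht => ?_⟩, _, (s0.mul s9).cast ?_, fun t ht => ?_⟩
  · rw [map_neg, map_pow, conj_om hω]
    linear_combination -ω * hω
  · rw [v0 t ht, v4 t ht, ee_conj hω, ee_mul hω, ← (sd_chk t ht).2.2.1]
    rfl
  · rw [map_mul, conj_om hω]
    linear_combination hω
  · rw [lam_val hω (v4 t ht) (v5 t ht) (sd_chk t ht).2.1.2.2.1, ee_conj hω, ← (sd_chk t ht).2.2.2.2.1]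
    rfl
  · linear_combination (1 - ω) * (ω ^ 3 + 1) * hω
  · rw [v11 t ht, ee_conj hω, ← (sd_chk t ht).2.2.2.2.2.2.1]
    rfl
  · linear_combination (1 - ω) * hω
  · rw [v9 t ht, v0 t ht, ee_mul hω, ← (sd_chk t ht).2.2.2.2.2.2.2]
    rfl

variable {c : ℂ}

theorem ok_cmb : ∀ (I : List ℕ), (∀ n ∈ I, Ok M ω c (ntd sA [] n) (ntd sB [] n)) → ∀ x : List (List (ℤ × ℕ)),
    Ok M ω c (cmbS (I.map (ntd sA [])) x) (cmbS (I.map (ntd sB [])) x)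
  | [], _, _ => ⟨_, St.zero, fun t _ => by simp [ee, cmbS, nth_nil]⟩
  | _ :: _, _, [] => ⟨_, St.zero, fun t _ => by simp [ee, cmbS, nth_nil]⟩
  | n :: I, h, x :: l => by
    obtain ⟨F, h1, h2⟩ := h n List.mem_cons_self
    obtain ⟨H, h3, h4⟩ := ok_cmb I (fun a ha => h a (List.mem_cons_of_mem _ ha)) l
    refine ⟨_, ((h1.mul (st_row x)).cast (mul_one _)).add h3, fun t ht => ?_⟩
    change _ = ee ω (nth (addL (mulL _ _) (cmbS _ l)) t, nth (addL (mulL _ _) (cmbS _ l)) t)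
    rw [h2 t ht, h4 t ht, ty_R M ht, nth_addL, nth_addL, nth_mulL, nth_mulL]
    simp only [ee]
    push_cast
    ring

include hω in
/-- **the rows of a checked table** -/
theorem exists_rw [Fintype Y] (hc : c * conj c = 1) {I : List ℕ} {cf : List (List (List (ℤ × ℕ)))} {ra rb : List (List ℤ)}
    {k : ℕ} {m b : List ℕ} (h : Chk I cf ra rb k m b) (hI : ∀ n ∈ I, Ok M ω c (ntd sA [] n) (ntd sB [] n)) :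
    ∃ F : ℕ → Y → ℂ, Rw M.j c k (ntd m 0) (ntd b 0) F ∧ ∀ j < k, St M c (F j) ∧
      ∀ t < 37, F j (R M t) = ee ω (nth (ntd ra [] j) t, nth (ntd rb [] j) t) := by
  have := finite_irr (G := Y)
  have := Fintype.ofFinite (IrrCharacter Y)
  have h1 : ∀ j, ∃ F, j < k → St M c F ∧ ∀ t < 37, F (R M t) = ee ω (nth (ntd ra [] j) t, nth (ntd rb [] j) t) :=
    fun j => (ok_cmb M I hI (ntd cf [] j)).imp fun F hF hj => by rwa [(h.row j hj).1, (h.row j hj).2] at hF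
  choose F hF using h1
  have h2 : ∀ t < 37, ∑ j ∈ range k, ((ntd b 0 j : ℕ) : ℂ) * F j (R M t) = if t = 0 then (dat.N : ℂ) else 0 := fun t ht => by
    have h3 := congrArg (Int.cast : ℤ → ℂ) (h.reg t ht).1
    have h4 := congrArg (Int.cast : ℤ → ℂ) (h.reg t ht).2
    push_cast at h3 h4
    rw [← h3, ← add_zero (∑ j ∈ range k, ((ntd b 0 j : ℕ) : ℂ) * (nth (ntd ra [] j) t : ℤ)), ← zero_mul ω, ← h4,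
      Finset.sum_mul, ← Finset.sum_add_distrib]
    exact Finset.sum_congr rfl fun j hj => by rw [(hF j (mem_range.1 hj)).2 t ht, ee, mul_add, mul_assoc]
  refine ⟨F, ⟨j_cen M, fun j hj => (hF j hj).1.gen, fun j hj => (hF j hj).1.cen, fun j hj => (h.le j hj).1,
    fun j hj => (h.le j hj).2, fun i hi j hj => ?_, fun j hj i hi e1 e2 => ?_, fun x hx => ?_, ?_⟩, hF⟩
  · obtain ⟨a, ha⟩ := hF i hi
    obtain ⟨a', ha'⟩ := hF j hj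
    have h3 : Iv M fun y => F i y * conj (F j y) + F j y * conj (F i y) :=
      ⟨fun g s => by rw [gen_classFunction a.gen, gen_classFunction a'.gen], fun y => by
        rw [a.cen, a'.cen, map_mul, map_mul]
        linear_combination (F i y * conj (F j y) + F j y * conj (F i y)) * hc, fun y => by
        rw [a.del, a'.del, Complex.conj_conj, Complex.conj_conj]
        ring⟩
    have h4 := h3.sum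
    have h5 := inner_sum_mu a.gen a'.gen
    have h6 : classInner (F j) (F i) = classInner (F i) (F j) := by
      rw [← classInner_conj_symm, h5, map_intCast]
    have h7 := congrArg (Int.cast : ℤ → ℂ) (h.gram i hi j hj)
    rw [ip, ip, ip, ip, ipL_eq, ipL_eq, ipL_eq, ipL_eq, Finset.mul_sum, Finset.mul_sum, ← Finset.sum_sub_distrib,
      ← Finset.sum_sub_distrib, ← Finset.sum_add_distrib, Int.cast_sum] at h7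
    rw [Finset.sum_congr rfl (s₁ := range 37) fun t ht => by
      rw [ha t (mem_range.1 ht), ha' t (mem_range.1 ht), ee_conj hω, ee_conj hω, ee_mul hω, ee_mul hω],
      Finset.sum_add_distrib] at h4
    have h8 : ∀ t, (dat.cnt t : ℂ) * (ee ω (em (nth (ntd ra [] i) t, nth (ntd rb [] i) t)
        (ec (nth (ntd ra [] j) t, nth (ntd rb [] j) t))) + ee ω (em (nth (ntd ra [] j) t, nth (ntd rb [] j) t)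
        (ec (nth (ntd ra [] i) t, nth (ntd rb [] i) t)))) =
        ((2 * ((dat.cntL.getD t 0 : ℤ) * (nth (ntd ra [] i) t * nth (ntd ra [] j) t)) -
          (dat.cntL.getD t 0 : ℤ) * (nth (ntd ra [] i) t * nth (ntd rb [] j) t) -
          (dat.cntL.getD t 0 : ℤ) * (nth (ntd rb [] i) t * nth (ntd ra [] j) t) +
          2 * ((dat.cntL.getD t 0 : ℤ) * (nth (ntd rb [] i) t * nth (ntd rb [] j) t)) : ℤ) : ℂ) := fun t => by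
      simp only [ee, em, ec, Dat.cnt]
      push_cast
      ring
    rw [Finset.sum_congr rfl fun t _ => h8 t] at h4
    replace h4 := h4.trans (congrArg (6 * ·) h7)
    have h9 : (Nat.card Y : ℂ) ≠ 0 := card_ne_zero_complex
    have h10 : ∀ f g : Y → ℂ, ∑ x, f x * conj (g x) = Nat.card Y * classInner f g := fun f g => by
      rw [classInner_def, mul_inv_cancel_left₀ h9]
    rw [h10, h10, h6] at h4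
    refine mul_left_cancel₀ (mul_ne_zero two_ne_zero h9) ?_
    rw [mul_assoc, two_mul, h4, card_Y M]
    split_ifs <;> push_cast <;> ring
  · obtain ⟨t, ht, h3, h4, h5⟩ := h.sep j hj i hi e1 e2
    refine ⟨R M t, _, _, by rw [(hF j hj).2 t ht, h3, ee, Int.cast_zero, zero_mul, add_zero],
      by rw [(hF i (hi.trans hj)).2 t ht, h4, ee, Int.cast_zero, zero_mul, add_zero], h5.imp_right fun h6 => ?_⟩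
    rw [card_Y M]
    exact ⟨h6.1 ▸ R_zero M, h6.2⟩
  · have h3 : Iv M fun y => (∑ j ∈ range k, ((ntd b 0 j : ℕ) : ℂ) * F j y) * conj (∑ j ∈ range k, ((ntd b 0 j : ℕ) : ℂ) * F j y) := by
      refine ⟨fun g s => ?_, fun y => ?_, fun y => ?_⟩
      · rw [Finset.sum_congr rfl fun j hj => by rw [gen_classFunction (hF j (mem_range.1 hj)).1.gen]]
      · rw [Finset.sum_congr rfl fun j hj => by rw [(hF j (mem_range.1 hj)).1.cen, mul_left_comm], ← Finset.mul_sum,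
          map_mul, mul_mul_mul_comm, hc, one_mul]
      · rw [Finset.sum_congr rfl fun j hj => by
          rw [(hF j (mem_range.1 hj)).1.del, ← Complex.conj_natCast, ← map_mul], ← map_sum, Complex.conj_conj, mul_comm]
    have h4 := h3.eq x
    rw [h2 _ (td.lt _), if_neg fun e => hx (M.ker.le ((ty_zero _).1 e)), zero_mul, Complex.mul_conj] at h4
    exact Complex.normSq_eq_zero.1 (by exact_mod_cast h4)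
  · rw [← R_zero M, h2 0 (by decide), if_pos rfl, M.ord, card_Y M]
    push_cast
    ring

include hω in
theorem om_conj : ω * conj ω = 1 := by
  rw [conj_om hω]
  linear_combination -hω

include hω in
theorem cnt1 : Nat.card {χ : Y → ℂ // PI 5 Y χ ∧ χ M.j = -ω ^ 2 * χ 1 ∧ True} = 16 := by
  have := fin M
  have := Fintype.ofFinite Y
  obtain ⟨F, h, -⟩ := exists_rw M hω (by rw [map_neg, map_pow, neg_mul_neg, ← mul_pow, om_conj hω, one_pow]) chk1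
    (seeds M hω).1
  exact (h.card 5 (Q := fun _ => true) fun _ _ _ _ _ _ _ => by simp).trans cnt_chk.1

include hω in
theorem cnt2 : Nat.card {χ : Y → ℂ // PI 5 Y χ ∧ χ M.j = ω * χ 1 ∧ True} = 16 := by
  have := fin M
  have := Fintype.ofFinite Y
  obtain ⟨F, h, -⟩ := exists_rw M hω (om_conj hω) chk2 (seeds M hω).2.1
  exact (h.card 5 (Q := fun _ => true) fun _ _ _ _ _ _ _ => by simp).trans cnt_chk.2.1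

theorem exists_om : ∃ ω : ℂ, ω ^ 2 + ω + 1 = 0 := by
  have h := (Complex.isPrimitiveRoot_exp 3 (by decide)).geom_sum_eq_zero (by decide)
  simp only [Finset.sum_range_succ, Finset.sum_range_zero] at h
  exact ⟨_, by linear_combination h⟩

theorem cnt3 : Nat.card {χ : Y → ℂ // PI 5 Y χ ∧ χ M.j = -1 * χ 1 ∧ True} = 16 ∧
    Nat.card {χ : Y → ℂ // PI 3 Y χ ∧ χ M.j = -1 * χ 1 ∧ True} = 18 := by
  have := fin M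
  have := Fintype.ofFinite Y
  obtain ⟨ω, hω⟩ := exists_om
  obtain ⟨F, h, -⟩ := exists_rw M hω (by simp only [_root_.map_neg, _root_.map_one, _root_.mul_neg, _root_.mul_one, _root_.neg_neg]) chk3 (seeds M hω).2.2
  exact ⟨(h.card 5 (Q := fun _ => true) fun _ _ _ _ _ _ _ => by simp).trans cnt_chk.2.2.1,
    (h.card 3 (Q := fun _ => true) fun _ _ _ _ _ _ _ => by simp).trans cnt_chk.2.2.2.1⟩

/-- the representatives which are conjugate to their negatives -/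
def Bd : Prop := ∀ x ∈ bw, ∃ s, s * cond x.2.2.1 (M.δ (R M x.1)) (R M x.1) * s⁻¹ = M.j ^ 3 * R M x.1

section fix

variable {M} [Fintype Y] {F : ℕ → Y → ℂ}
  (hF : ∀ j < 28, St M (-1) (F j) ∧ ∀ t < 37, F j (R M t) = ee ω (nth (ntd ra3 [] j) t, nth (ntd rb3 [] j) t))

include hω hF

omit [Fintype Y] in
theorem fix_one {j : ℕ} (hj : j < 28) : (∀ y, F j (M.δ y) = F j y) ↔ ∀ t < 37, nth (ntd rb3 [] j) t = 0 := by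
  obtain ⟨a, ha⟩ := hF j hj
  refine ⟨fun h t ht => ?_, fun h y => ?_⟩
  · have h1 := (a.del _).symm.trans (h (R M t))
    rw [ha t ht, ee, map_add, map_mul, map_intCast, map_intCast, add_right_inj] at h1
    exact_mod_cast (mul_eq_zero.1 ((mul_sub _ _ _).trans (sub_eq_zero.2 h1))).resolve_right
      (sub_ne_zero.2 (MK.S7.conj_ne hω))
  · have h1 : Iv M fun y => (conj (F j y) - F j y) ^ 2 :=
      ⟨fun g s => by rw [gen_classFunction a.gen], fun y => by rw [a.cen, map_mul, map_neg, map_one]; ring,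
        fun y => by rw [a.del, Complex.conj_conj]; ring⟩
    have h2 := h1.eq y
    rw [ha _ (td.lt _), h _ (td.lt _), ee, Int.cast_zero, zero_mul, add_zero, map_intCast, sub_self] at h2
    rw [a.del]
    exact sub_eq_zero.1 (pow_eq_zero_iff two_ne_zero |>.1 (h2.trans (by simp)))

theorem not_fix (hB : Bd M) {χ : Y → ℂ} (h1 : IsIrrCharacter Y χ) (h2 : χ M.j = -1 * χ 1) {j : ℕ} (hj : j < 28)
    (hm : ntd mm3 0 j ≠ 1) (h3 : ∀ i < 28, classInner (F i) χ = if j = i then 1 else 0) : ¬ ∀ y, χ (M.δ y) = χ y := by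
  intro h4
  obtain ⟨d, h5, -, h6⟩ := exists_sc (c := -1) (j_cen M) h1
  obtain rfl := h6.1 h2
  have h0 := isIrr_isClassFunction h1
  have h9 : (Nat.card Y : ℂ) ≠ 0 := card_ne_zero_complex
  have h10 : ∀ f g : Y → ℂ, ∑ x, f x * conj (g x) = Nat.card Y * classInner f g := fun f g => by
    rw [classInner_def, mul_inv_cancel_left₀ h9]
  have hN : (dat.N : ℂ) ≠ 0 := by exact_mod_cast (by decide : dat.N ≠ 0)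
  have b1 : ∀ t ∈ bw.map Prod.fst, χ (R M t) = 0 := fun t ht => by
    obtain ⟨x, hx, rfl⟩ := List.mem_map.1 ht
    obtain ⟨s, hs⟩ := hB x hx
    have h7 := congrArg χ hs
    rw [h0, app_pow h5, show χ (cond x.2.2.1 (M.δ (R M x.1)) (R M x.1)) = χ (R M x.1) by
      cases x.2.2.1
      exacts [rfl, h4 _]] at h7
    linear_combination h7 / 2
  have b2 : ∀ i < 28, ∑ t ∈ range 37, (dat.cnt t : ℂ) * ((nth (ntd hc [] t) i : ℤ) * conj (χ (R M t))) =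
      if j = i then 2 * (dat.N : ℂ) else 0 := fun i hi => by
    obtain ⟨a, ha⟩ := hF i hi
    have h7 : Iv M fun y => F i y * conj (χ y) + F i (M.δ y) * conj (χ (M.δ y)) :=
      ⟨fun g s => by rw [a.del, a.del, h4, h4, h0, gen_classFunction a.gen], fun y => by
        rw [a.del, a.del, h4, h4, h5, a.cen, map_mul, map_mul, map_neg, map_one]
        ring, fun y => by
        rw [a.del, a.del, a.del, h4 (M.δ y), h4, Complex.conj_conj]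
        ring⟩
    have h8 := h7.sum
    rw [Finset.sum_add_distrib, (δ_bij M).sum_comp fun y => F i y * conj (χ y), h10, h3 i hi, card_Y M] at h8
    refine mul_left_cancel₀ (by norm_num : (6 : ℂ) ≠ 0) (Eq.trans ?_ (h8.symm.trans ?_))
    · refine congrArg _ (Finset.sum_congr rfl fun t ht => ?_)
      rw [a.del, h4, ha t (mem_range.1 ht), ee_conj hω, hc_chk t (mem_range.1 ht) i hi]
      simp only [ee, ec]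
      push_cast
      ring
    · split_ifs <;> push_cast <;> ring
  obtain ⟨w1, w2⟩ := two_chk j hj hm
  have b3 : ∀ t < 37, 4 * conj (χ (R M t)) = (nth (ntd hc [] t) j : ℤ) := fun t ht => by
    have h7 : ∑ u ∈ range 37, ((dat.cnt u : ℤ) * ipL wt (ntd hc [] t) (ntd hc [] u) : ℤ) * conj (χ (R M u)) =
        ∑ i ∈ range 28, (wt.getD i 0 : ℂ) * (nth (ntd hc [] t) i : ℤ) * if j = i then 2 * (dat.N : ℂ) else 0 := by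
      rw [Finset.sum_congr rfl (s₁ := range 28) fun i hi => by rw [← b2 i (mem_range.1 hi), Finset.mul_sum],
        Finset.sum_comm]
      refine Finset.sum_congr rfl fun u _ => ?_
      rw [ipL_eq, show wt.length = 28 from rfl]
      push_cast
      rw [Finset.mul_sum, Finset.sum_mul]
      exact Finset.sum_congr rfl fun i _ => by ring
    rw [Finset.sum_eq_single t (fun u hu e => by
        rw [col_chk t ht u (mem_range.1 hu), if_neg fun h => e h.1.symm, Int.cast_zero, zero_mul])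
        (fun h => absurd (mem_range.2 ht) h), col_chk t ht t ht,
      Finset.sum_eq_single j (fun i _ e => by rw [if_neg e.symm, mul_zero]) (fun h => absurd (mem_range.2 hj) h),
      if_pos rfl, w1] at h7
    refine mul_left_cancel₀ (mul_ne_zero two_ne_zero hN) ?_
    split_ifs at h7 with h8
    · push_cast at h7
      linear_combination h7
    · rw [b1 t (by_contra fun e => h8 ⟨rfl, e⟩), map_zero] at h7 ⊢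
      linear_combination h7
  have h7 : Iv M fun y => χ y * conj (χ y) :=
    ⟨fun g s => by rw [h0], fun y => by rw [h5, map_mul, map_neg, map_one]; ring, fun y => by rw [h4]⟩
  have h8 := h7.sum
  rw [h10, classInner_irr_self h1, card_Y M] at h8
  refine w2 (Int.cast_injective (α := ℂ) ?_)
  push_cast at h8 ⊢
  rw [Finset.sum_congr rfl (g := fun t => 16 * ((dat.cnt t : ℂ) * (χ (R M t) * conj (χ (R M t))))) fun t ht => ?_,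
    ← Finset.mul_sum]
  · linear_combination (-16 / 6 : ℂ) * h8
  · have h11 := congrArg conj (b3 t (mem_range.1 ht))
    rw [map_mul, map_ofNat, Complex.conj_conj, map_intCast] at h11
    conv_lhs => rw [← h11]
    rw [h11, ← b3 t (mem_range.1 ht)]
    linear_combination (4 * (dat.cnt t : ℂ) * conj (χ (R M t))) * ((b3 t (mem_range.1 ht)).trans h11.symm)

end fix

theorem fix3 (hB : Bd M) : Nat.card {χ : Y → ℂ // PI 5 Y χ ∧ χ M.j = -1 * χ 1 ∧ ∀ y, χ (M.δ y) = χ y} = 4 ∧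
    Nat.card {χ : Y → ℂ // PI 3 Y χ ∧ χ M.j = -1 * χ 1 ∧ ∀ y, χ (M.δ y) = χ y} = 12 := by
  have := fin M
  have := Fintype.ofFinite Y
  obtain ⟨ω, hω⟩ := exists_om
  obtain ⟨F, h, hF⟩ := exists_rw M hω (by simp only [_root_.map_neg, _root_.map_one, _root_.mul_neg, _root_.mul_one, _root_.neg_neg]) chk3 (seeds M hω).2.2
  have key : ∀ χ, IsIrrCharacter Y χ → χ M.j = -1 * χ 1 → ∀ j < 28,
      (∀ i < 28, classInner (F i) χ = if j = i then 1 else 0) → ((∀ y, χ (M.δ y) = χ y) ↔ fx j = true) := by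
    intro χ h1 h2 j hj h3
    rw [fx, decide_eq_true_eq]
    by_cases hm : ntd mm3 0 j = 1
    · rw [← eq_of_one h1 (by rw [h.gram j hj j hj, if_pos rfl, hm, Nat.cast_one]) ((h3 j hj).trans (if_pos rfl)),
        fix_one hω hF hj, and_iff_right hm]
    · exact iff_of_false (not_fix hω hF hB h1 h2 hj hm h3) fun e => hm e.1
  exact ⟨(h.card 5 fun χ h1 h2 j hj _ => key χ h1 h2 j hj).trans cnt_chk.2.2.2.2.1,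
    (h.card 3 fun χ h1 h2 j hj _ => key χ h1 h2 j hj).trans cnt_chk.2.2.2.2.2⟩

end Cfsg.Agent.MO.S.Suz
end

-- part: MO/S/Suz/Cov
section
/-!
# MO, the covers of `Suz` : the global counts (helper63)

* `exists_md` : the model of `6.Suz`; `exists_theta` : each cover is a quotient of the model;
* `gk_3_2`, `gf_3_2`, `gk_5_2`, `gf_5_2`, `gk_5_3`, `gk_5_6` : the counts;
* `out2`, `noOut_3`, `noOut_6` : the outer automorphisms.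
-/

set_option autoImplicit false
set_option maxRecDepth 100000

namespace Cfsg.Agent.MO.S.Suz

open Cfsg Subgroup Cfsg.Agent.TAB.Eng Cfsg.Agent.TAB.Sz Cfsg.Agent.Characters Cfsg.Agent.MK.S4.Z
open Cfsg.Agent.Characters.Core
open Cfsg.Agent.KFacts.SuzRho (rho)
open Cfsg.Agent.SporadicRecognition.SuzOrder (finiteSuz)
open scoped commutatorElement IsMulCommutative

section model

variable {G : Type} [Group G] (P : Rp G)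

theorem pi_inj : Function.Injective P.π := by
  refine (injective_iff_map_eq_one _).2 fun y hy => P.ext (hy.trans (map_one _).symm) ?_
  have : IsSimpleGroup Spor.Suz := S1694.result.1
  have h0 : ∀ a : P.Y, P.pr a.1.1 = P.σ (P.q a) := fun a => a.2
  have h1 : P.σ (P.q y) = 1 := by rw [← h0, show y.1.1 = 1 from Subtype.ext hy, map_one]
  rcases (inferInstance : P.σ.ker.Normal).eq_bot_or_eq_top with h | h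
  · exact (mem_bot.1 (h.le h1)).trans (map_one _).symm
  · have h2 : commutator P.Y ≤ P.π.ker := commutator_le.2 fun a _ b _ => by
      obtain ⟨k, hk⟩ := (QuotientGroup.eq_one_iff _).1 ((h0 a).trans (h.ge (mem_top _)))
      have h3 : Commute a.1.1 b.1.1 := by
        rw [← hk]
        exact (show Commute P.J b.1.1 from P.J_cen _).zpow_left k
      rw [MonoidHom.mem_ker, map_commutatorElement, commutatorElement_eq_one_iff_commute]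
      exact h3.map P.C.subtype
    have h3 : P.u 7 = 1 := h2 P.md.com
    have h4 := P.ord
    rw [h3, orderOf_one] at h4
    cases h4

private theorem ev_il : ∀ w : List ℕ, (∀ a ∈ w, a < 10 ∧ a ≠ 7) → P.ev (w.reverse.flatMap Q5.il) = (P.ev w)⁻¹
  | [], _ => inv_one.symm
  | x :: w, h => by
    obtain ⟨h1, h2⟩ := List.forall_mem_cons.1 h
    have h3 : P.u x * P.ev (Q5.il x) = 1 := P.rel _ (Q5.il_chk x h1.1 h1.2)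
    rw [List.reverse_cons, List.flatMap_append, List.flatMap_singleton, P.ev_append, ev_il w h2,
      eq_inv_of_mul_eq_one_right h3, ← mul_inv_rev]
    rfl

private theorem eq_ofC {v w : List ℕ} (h : Q5.eqC v w = true) : P.ev v = P.ev w := by
  replace h := Bool.and_eq_true_iff.1 h
  have h1 : P.ev (v ++ w.reverse.flatMap Q5.il) = 1 := P.rel _ h.2
  rwa [P.ev_append, ev_il P w fun a ha => by
    simpa only [Bool.and_eq_true, Nat.blt_eq, Bool.not_eq_true', ← Bool.not_eq_true, Nat.beq_eq] using allL_spec h.1 a ha,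
    mul_inv_eq_one] at h1

theorem bd_md : Bd P.md := fun x hx => by
  have h := bw_chk x hx
  have ht : x.1 < 37 := (by decide : ∀ x ∈ bw, x.1 < 37) x hx
  obtain ⟨t, c, e, a⟩ := x
  rw [bdB, Bool.and_eq_true, Bool.and_eq_true] at h
  have h1 : ∀ x ∈ c, x < 7 := fun x hx => Nat.blt_eq.mp (allL_spec h.1 x hx)
  have h2 := tr_chk t ht
  rw [trT, Bool.and_eq_true] at h2
  have h3 : P.π (R P.md t) = P.ev (wd (sw t)) := P.π_lw fun x hx => Nat.blt_eq.mp (allL_spec h2.1 x hx)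
  have h4 := eq_ofC P h.2.2
  rw [P.ev_append, P.ev_append, P.ev_append, P.ev_append, P.ev_append, P.eq_of j_chk.2.1] at h4
  refine ⟨P.lw c, pi_inj P ?_⟩
  rw [map_mul, map_mul, map_inv, map_mul, P.π_lw h1, h3, show P.π (P.md.j ^ 3) = P.ev [7, 7, 7] from P.π_j 3,
    mul_inv_eq_iff_eq_mul]
  cases e
  · rw [cond_false, h3, mul_assoc]
    simpa only [cond_false, show P.ev [] = 1 from rfl, one_mul, mul_one] using h4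
  · rw [cond_true, show P.π (P.md.δ (R P.md t)) = P.u 9 * P.π (R P.md t) * (P.u 9)⁻¹ from rfl, h3, ← mul_assoc,
      mul_inv_eq_iff_eq_mul]
    simpa only [cond_true, show P.ev [9] = P.u 9 from mul_one _, mul_assoc] using h4

end model

/-- **the model** -/
theorem exists_md : ∃ (Y : Type) (_ : Group Y) (M : Md Y), Bd M := ⟨_, _, rp.md, bd_md rp⟩

theorem perf : commutator Spor.Suz = ⊤ :=
  haveI := finiteSuz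
  H51.Tools.perfect_of_simple S1694.result.1 (by rw [S1694.result.2]; norm_num)

section quot

variable {Y : Type} [Group Y] (M : Md Y) {X : Type} [Group X] [Finite X] {φ : X →* Spor.Suz} {m : ℕ}

theorem stem : IsStemExtension M.q :=
  ⟨M.surj, M.ker ▸ zpowers_le_of_mem (j_cen M), M.ker ▸ zpowers_le_of_mem M.com⟩

/-- **each cover is a quotient of the model** -/
theorem exists_theta (v : Cv m φ) : ∃ θ : Y →* X, Function.Surjective θ ∧ (∀ y, φ (θ y) = M.q y) ∧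
    center X = zpowers (θ M.j) ∧ orderOf (θ M.j) = m ∧ θ.ker ≤ zpowers M.j := by
  have := finiteSuz
  have := fin M
  obtain ⟨θ, hθ, hq⟩ := H95.StemCover.exists_cover' perf (A := Multiplicative (ZMod 6)) S2048.result M.q (stem M)
    (by rw [card_ker]; simp) v.perf φ v.surj v.ker.le
  have h1 : center X = zpowers (θ M.j) := by
    rw [← v.ker]
    refine le_antisymm (fun x hx => ?_) (zpowers_le_of_mem ((hq _).trans (M.ker.ge (mem_zpowers _))))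
    obtain ⟨y, rfl⟩ := hθ x
    obtain ⟨n, rfl⟩ := M.ker.le ((hq y).symm.trans hx)
    exact ⟨n, (map_zpow θ _ n).symm⟩
  exact ⟨θ, hθ, hq, h1, by rw [← Nat.card_zpowers, ← h1, v.card],
    fun y hy => M.ker.le ((hq y).symm.trans (by rw [MonoidHom.mem_ker.1 hy, map_one]))⟩

omit [Finite X] in
/-- an outer automorphism of a cover is induced by the automorphism of the model -/
theorem out_eq (v : Cv m φ) {θ : Y →* X} (hq : ∀ y, φ (θ y) = M.q y) {α : MulAut X} (h : ¬ ∃ x, α = MulAut.conj x) :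
    ∃ s, ∀ y, α (θ y) = s * θ (M.δ y) * s⁻¹ := by
  obtain ⟨β, hβ⟩ := MK.T.exists_ind φ v.surj v.ker α
  obtain ⟨s, rfl | rfl⟩ := MK.T.out_cases S2074.result (β := rho) (fun ⟨k, hk⟩ => H997.OutSuz.rho_outer k hk.symm) β
  · exact absurd (T.inn_of_ind v fun x => (hβ x).symm) h
  obtain ⟨s, rfl⟩ := v.surj s
  let g : Y →* X := (MulAut.conj s).toMonoidHom.comp (θ.comp M.δ)
  have h1 : ∀ y, α (θ y) * (g y)⁻¹ ∈ center X := fun y => by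
    rw [← v.ker, MonoidHom.mem_ker, map_mul, map_inv, ← hβ, mul_inv_eq_one, hq]
    change _ = φ (s * θ (M.δ y) * s⁻¹)
    rw [map_mul, map_mul, map_inv, hq, M.qδ]
    rfl
  let f : Y →* center X := MonoidHom.mk' (fun y => ⟨_, h1 y⟩) fun a b => Subtype.ext (by
    change α (θ (a * b)) * (g (a * b))⁻¹ = α (θ a) * (g a)⁻¹ * (α (θ b) * (g b)⁻¹)
    rw [mul_assoc (α (θ a)), mem_center_iff.1 (h1 b) (g a)⁻¹, map_mul, map_mul, map_mul, mul_inv_rev]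
    group)
  have h2 : ∀ y, f y = 1 := fun y =>
    Abelianization.commutator_subset_ker f ((H95.StemCover.perfect_of_stem perf (stem M)).ge (mem_top y))
  exact ⟨s, fun y => mul_inv_eq_one.1 (congrArg Subtype.val (h2 y))⟩

theorem kk_md (v : Cv m φ) {l : X → ℂ} (hl : Fl X l) (p : ℕ) : ∃ c : ℂ, IsPrimitiveRoot c m ∧
    kk p ⊤ (center X) l = Nat.card {χ : Y → ℂ // PI p Y χ ∧ χ M.j = c * χ 1 ∧ True} := by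
  have := fin M
  obtain ⟨θ, h1, -, h3, h4, h5⟩ := exists_theta M v
  exact ⟨_, h4 ▸ fl_prim h3 hl, (kk_eq h3 hl).trans
    (cnt_comp θ h1 (j_cen M) h5 (fl_prim h3 hl).pow_eq_one (P := fun _ => True) fun _ => Iff.rfl)⟩

theorem fA_md (v : Cv m φ) {α : MulAut X} (h : ¬ ∃ x, α = MulAut.conj x) {l : X → ℂ} (hl : Fl X l) (p : ℕ) :
    ∃ c : ℂ, IsPrimitiveRoot c m ∧
      fA p l α = Nat.card {χ : Y → ℂ // PI p Y χ ∧ χ M.j = c * χ 1 ∧ ∀ y, χ (M.δ y) = χ y} := by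
  have := fin M
  obtain ⟨θ, h1, h2, h3, h4, h5⟩ := exists_theta M v
  obtain ⟨s, hs⟩ := out_eq M v h2 h
  refine ⟨_, h4 ▸ fl_prim h3 hl, (fA_eq h3 hl α).trans (Eq.trans ?_
    (cnt_comp θ h1 (j_cen M) h5 (fl_prim h3 hl).pow_eq_one (P := fun χ => ∀ y, χ (M.δ y) = χ y) fun _ => Iff.rfl))⟩
  exact T.card_iff fun χ hχ => and_congr_right fun _ => h1.forall.trans (forall_congr' fun y => by
    rw [hs, isIrr_isClassFunction hχ.1])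

end quot

theorem noOut {m : ℕ} (hm : ¬ m ∣ 2) : NoOut m Spor.Suz := fun X _ _ φ v α hα => by
  obtain ⟨Y, _, M, -⟩ := exists_md
  obtain ⟨θ, -, h2, h3, h4, -⟩ := exists_theta M v
  by_contra h
  obtain ⟨s, hs⟩ := out_eq M v h2 h
  have h5 : θ M.j ∈ center X := h3.ge (mem_zpowers _)
  have h6 := hs M.j
  rw [hα _ h5, M.δj, map_inv, mem_center_iff.1 (inv_mem h5), mul_inv_cancel_right, eq_inv_iff_mul_eq_one, ← pow_two,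
    ← orderOf_dvd_iff_pow_eq_one, h4] at h6
  exact hm h6

theorem noOut_3 : NoOut 3 Spor.Suz := noOut (by decide)

theorem noOut_6 : NoOut 6 Spor.Suz := noOut (by decide)

theorem out2 : Out2 Spor.Suz := T.out2_of_index S2074.result

theorem gk_5_6 : GK 5 6 Spor.Suz 16 := fun X _ _ _ v l hl => by
  obtain ⟨Y, _, M, -⟩ := exists_md
  obtain ⟨c, h1, h2⟩ := kk_md M v hl 5
  have h3 : c ^ 3 = -1 := (h1.pow (by decide) (show 6 = 3 * 2 from rfl)).eq_neg_one_of_two_right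
  have h4 := (h1.pow (by decide) (show 6 = 2 * 3 from rfl)).geom_sum_eq_zero (by decide)
  simp only [Finset.sum_range_succ, Finset.sum_range_zero] at h4
  rw [h2, ← cnt1 M (ω := c ^ 2) (by linear_combination h4), show -(c ^ 2) ^ 2 = c by linear_combination -c * h3]

theorem gk_5_3 : GK 5 3 Spor.Suz 16 := fun X _ _ _ v l hl => by
  obtain ⟨Y, _, M, -⟩ := exists_md
  obtain ⟨c, h1, h2⟩ := kk_md M v hl 5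
  have h4 := h1.geom_sum_eq_zero (by decide)
  simp only [Finset.sum_range_succ, Finset.sum_range_zero] at h4
  rw [h2, cnt2 M (ω := c) (by linear_combination h4)]

theorem gk_5_2 : GK 5 2 Spor.Suz 16 := fun X _ _ _ v l hl => by
  obtain ⟨Y, _, M, -⟩ := exists_md
  obtain ⟨c, h1, h2⟩ := kk_md M v hl 5
  rw [h2, h1.eq_neg_one_of_two_right, (cnt3 M).1]

theorem gk_3_2 : GK 3 2 Spor.Suz 18 := fun X _ _ _ v l hl => by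
  obtain ⟨Y, _, M, -⟩ := exists_md
  obtain ⟨c, h1, h2⟩ := kk_md M v hl 3
  rw [h2, h1.eq_neg_one_of_two_right, (cnt3 M).2]

theorem gf_5_2 : GF 5 2 Spor.Suz 4 := fun X _ _ _ v α _ h l hl => by
  obtain ⟨Y, _, M, hB⟩ := exists_md
  obtain ⟨c, h1, h2⟩ := fA_md M v h hl 5
  rw [h2, h1.eq_neg_one_of_two_right, (fix3 M hB).1]

theorem gf_3_2 : GF 3 2 Spor.Suz 12 := fun X _ _ _ v α _ h l hl => by
  obtain ⟨Y, _, M, hB⟩ := exists_md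
  obtain ⟨c, h1, h2⟩ := fA_md M v h hl 3
  rw [h2, h1.eq_neg_one_of_two_right, (fix3 M hB).2]

end Cfsg.Agent.MO.S.Suz
end

-- part: MO/S/SuzL/Main
section
/-!
# MO, the rows of the Suzuki group and of its covers (helper58; the tables of the covers are from helper63)
-/

set_option autoImplicit false

namespace Cfsg.Agent.MO.S

open Cfsg Cfsg.Agent.MO.T Cfsg.Agent.MO.S.SuzL

theorem suz_1_3 : SmC 3 1 Spor.Suz := sm_1_3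

theorem suz_2_3 : SmC 3 2 Spor.Suz := smC_of_counts (outC 2) Suz.gk_3_2 lk_3_2 Suz.gf_3_2 lf_3_2

theorem suz_1_5 : SmC 5 1 Spor.Suz := sm_1_5

theorem suz_2_5 : SmC 5 2 Spor.Suz := smC_of_counts (outC 2) Suz.gk_5_2 (lk_5 (by norm_num)) Suz.gf_5_2 lf_5_2

theorem suz_3_5 : SmC 5 3 Spor.Suz := smC_of_kk noOut_3 Suz.gk_5_3 (lk_5 (by norm_num))

theorem suz_6_5 : SmC 5 6 Spor.Suz := smC_of_kk noOut_6 Suz.gk_5_6 (lk_5 (by norm_num))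

end Cfsg.Agent.MO.S
end

-- part: MO/S/B/Base
section
/-!
# MO, the Baby Monster: the global facts (helper47)

`inn`, `noOut`; `kB3`, `kB5`, `kB7` from the list of the degrees (`TAB.B.Fin.deg` in `TAB/B/Fin/Main`);
`smC_one_of` : the row of the simple group from the local number.
-/

set_option autoImplicit false
set_option maxRecDepth 100000

namespace Cfsg.Agent.MO.S.B

open Cfsg Cfsg.Spor Subgroup Cfsg.Agent.MO.T Cfsg.Agent.TAB.Use Cfsg.Agent.TAB.B.Fin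

theorem inn (γ : MulAut BabyMonster) : ∃ s, γ = MulAut.conj s := CpAut.TwoInner.inner_b γ

theorem noOut (m : ℕ) : NoOut m BabyMonster := noOut_of_inn inn m

theorem kB3 (h : DegList BabyMonster degs) : k0 3 BabyMonster = 27 := by
  rw [k0_of_degList h]
  decide +kernel

theorem kB5 (h : DegList BabyMonster degs) : k0 5 BabyMonster = 25 := by
  rw [k0_of_degList h]
  decide +kernel

theorem kB7 (h : DegList BabyMonster degs) : k0 7 BabyMonster = 81 := by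
  rw [k0_of_degList h]
  decide +kernel

theorem smC_one_of {p c : ℕ} [Fact p.Prime] (h1 : k0 p BabyMonster = c)
    (h2 : IH p (Nat.card BabyMonster) →
      ∃ Q : Sylow p BabyMonster, k0 p (normalizer ((Q : Subgroup BabyMonster) : Set BabyMonster)) = c) :
    SmC p 1 BabyMonster := smC_one_inn inn (h1 ▸ h2)

end Cfsg.Agent.MO.S.B
end

private theorem dce_e9318edb038f : _root_.True := by
  try have : _root_.True := by simp only [_root_.Cfsg.Agent.MO.S.Suz.tau.eq_1]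
  try have : _root_.True := by simp only [_root_.Cfsg.Agent.MO.S.Suz.bdB.eq_1]
  try have : _root_.True := by simp only [_root_.Cfsg.Agent.MO.S.Suz.em.eq_1]
  try have : _root_.True := by simp only [_root_.Cfsg.Agent.MO.S.Suz.cmbS.eq_1]
  try have : _root_.True := by simp only [_root_.Cfsg.Agent.MO.S.Suz.ec.eq_1]
  try have : _root_.True := by simp only [_root_.Cfsg.Agent.MO.S.Suz.fx.eq_1]
  try have : _root_.True := by simp only [_root_.Cfsg.Agent.MO.S.Suz.R.eq_1]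
  try have : _root_.True := by simp only [_root_.Cfsg.Agent.MO.S.Suz.ee.eq_1]
  exact _root_.True.intro
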