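import Cfsg.Agent.MQ.S.E62Y.Dat
import Cfsg.Agent.TAB.B.Ch_m3
import Cfsg.Agent.TAB.B.DG.Main_m3
import Cfsg.Agent.BM.KHAll
import Cfsg.Agent.Prune
set_option linter.all false
prune_inst 0x7f00000000000000000000000000000000000000000000000000000000000000000000000000000000000000000000000000000000000000000000000000000000000000000000000000000000000000003fffffffffffffffffffffffffffbeffbdffffffff
open scoped Cfsg.Agent.FastGrp

-- part: MO/S/B/CTGen
section
/-!
# MO : the character of degree 4371 in the table of the Baby Monster (helper40)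

* `row_one` : a character of degree 4371 which takes the value `-1` is the row 1;
* `ct_of_char` : the class table from such a character and two elements.
-/

set_option autoImplicit false
set_option maxRecDepth 100000

namespace Cfsg.Agent.MO.S.B

open Cfsg Cfsg.Agent.TAB.Eng Cfsg.Agent.TAB.Use Cfsg.Agent.TAB.B.Fin Cfsg.Agent.BMy.Chr Cfsg.Agent.Characters Finset
open Subgroup (centralizer)

theorem degs_ok : degs.getD 0 0 = 1 ∧ degs.getD 1 0 = 4371 ∧ ∀ j < 182, 4371 < degs.getD (j + 2) 0 := by decide +kernel

theorem row_zero : ∀ t < 175, rB 0 t = 1 := by decide +kernel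

theorem ty81 : ∀ t < 175, datF.ord t = 15 → rB 1 t = 2 → t = 81 := by decide +kernel

theorem ty142 : ∀ t < 175, datF.ord t = 32 → rB 1 t = -1 → t = 142 := by decide +kernel

theorem cnt81 : datF.cnt 81 * 120 ≤ datF.N := by decide +kernel

variable {G : Type} [Group G] {T : TD G datF} (hm : T.Mass) (hT : Tab T tabB)
include hm hT

/-- **the row 1** -/
theorem row_one {φ : G → ℂ} (hφ : IsCharacter G φ) (h1 : φ 1 = 4371) {x : G} (hx : φ x ≠ 4371) (g : G) :
    φ g = (rB 1 (T.ty g) : ℂ) := by
  have : Finite G := Nat.finite_of_card_ne_zero (by rw [hm.1]; decide +kernel)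
  have := Core.finite_irr (G := G)
  have := Fintype.ofFinite (IrrCharacter G)
  classical
  obtain ⟨χ, H⟩ := rt_of_tab hT
  obtain ⟨m, hm'⟩ := Core.exists_nat_comb hφ
  let n : (G → ℂ) → ℕ := fun ψ => if h : IsIrrCharacter G ψ then m ⟨ψ, h⟩ else 0
  have h2 : ∀ y, φ y = ∑ i ∈ range (182 + 1 + 1), (n (χ i) : ℂ) * χ i y := fun y => by
    rw [← enum_sum H.en fun ψ => (n ψ : ℂ) * ψ y, hm', Finset.sum_apply]
    refine sum_congr rfl fun ψ _ => ?_
    simp only [n, dif_pos ψ.2, Pi.smul_apply, nsmul_eq_mul]
  have h3 : ∑ i ∈ range (182 + 1 + 1), n (χ i) * degs.getD i 0 = 4371 := by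
    have h4 := (h2 1).symm.trans h1
    rw [sum_congr rfl fun i hi => by rw [H.en.deg i (mem_range.1 hi)]] at h4
    exact_mod_cast h4
  rw [sum_range_succ', sum_range_succ', degs_ok.1, degs_ok.2.1] at h3
  have h4 : ∀ j ∈ range 182, n (χ (j + 1 + 1)) = 0 := fun j hj => by
    by_contra h5
    have h6 := single_le_sum (f := fun j => n (χ (j + 1 + 1)) * degs.getD (j + 1 + 1) 0) (fun _ _ => Nat.zero_le _) hj
    have h7 : 4371 < degs.getD (j + 1 + 1) 0 := degs_ok.2.2 j (mem_range.1 hj)
    have h8 := Nat.le_mul_of_pos_left (degs.getD (j + 1 + 1) 0) (Nat.pos_of_ne_zero h5)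
    omega
  have h5 : ∀ y, φ y = n (χ 1) * (rB 1 (T.ty y) : ℂ) + n (χ 0) := fun y => by
    rw [h2, sum_range_succ', sum_range_succ', sum_eq_zero fun j hj => by rw [h4 j hj, Nat.cast_zero, zero_mul], zero_add,
      zero_add, H.one 1 (by norm_num), H.one 0 (by norm_num), row_zero _ (T.lt y), Int.cast_one, mul_one]
  rw [sum_eq_zero fun j hj => by rw [h4 j hj, zero_mul]] at h3
  rcases (by omega : (n (χ (0 + 1)) = 1 ∧ n (χ 0) = 0) ∨ (n (χ (0 + 1)) = 0 ∧ n (χ 0) = 4371)) with h | h
  · rw [h5, h.1, h.2, Nat.cast_one, one_mul, Nat.cast_zero, add_zero]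
  · exact absurd (by rw [h5, h.1, h.2]; norm_num) hx

/-- **the class table** -/
theorem ct_of_char {φ : G → ℂ} (hφ : IsCharacter G φ) (h1 : φ 1 = 4371)
    (h15 : ∃ x, orderOf x = 15 ∧ φ x = 2 ∧ Nat.card (centralizer ({x} : Set G)) ≤ 120)
    (h32 : ∃ x, orderOf x = 32 ∧ φ x = -1 ∧ 64 < Nat.card (centralizer ({x} : Set G))) :
    ∃ c : CT G, c.T = T ∧ ∀ g, φ g = (rB 1 (c.ty g) : ℂ) := by
  obtain ⟨x, hx1, hx2, hx3⟩ := h15
  obtain ⟨y, hy1, hy2, hy3⟩ := h32
  have h2 := row_one hm hT hφ h1 (x := x) (by rw [hx2]; norm_num)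
  refine ⟨mk T hm hT ⟨x, ty81 _ (T.lt x) ((T.ord x).symm.trans hx1) ?_, ?_⟩
    ⟨y, ty142 _ (T.lt y) ((T.ord y).symm.trans hy1) ?_, hy3⟩, rfl, h2⟩
  · exact_mod_cast (h2 x).symm.trans hx2
  · exact (Nat.mul_le_mul_left _ hx3).trans (hm.1 ▸ cnt81)
  · exact_mod_cast (h2 y).symm.trans hy2

end Cfsg.Agent.MO.S.B
end

-- part: BMy/C16/W32
section
/-!
# Elements of order 32 of the Baby Monster with more than 64 commuting elements (helper20, for S5527)
-/

set_option autoImplicit false
set_option maxRecDepth 100000
set_option Elab.async false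

namespace Cfsg.Agent.BMy.C16

open Cfsg.Agent.BabyM Cfsg.Agent.BabyM.Conc Cfsg.Agent.H819.U33 Cfsg.Agent.BMx.Fast Cfsg.Agent.TAB.B.Tr

/-- a centralizer which is not commutative has at least three cosets of the cyclic subgroup -/
theorem three_mul_le {H : Type*} [Group H] [Finite H] {x a b : H} (ha : a * x = x * a) (hb : b * x = x * b)
    (hab : a * b ≠ b * a) : 3 * orderOf x ≤ Nat.card (Subgroup.centralizer ({x} : Set H)) := by
  have hc : ∀ {c y : H}, c * x = x * c → y ∈ Subgroup.zpowers x → Commute c y := fun {c y} h hy => by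
    obtain ⟨k, rfl⟩ := Subgroup.mem_zpowers_iff.1 hy
    exact Commute.zpow_right h k
  have h1 : a ∉ Subgroup.zpowers x := fun h => hab (hc hb h).eq.symm
  have h2 : b ∉ Subgroup.zpowers x := fun h => hab (hc ha h).eq
  have h3 : a⁻¹ * b ∉ Subgroup.zpowers x := fun h => hab (by
    have h4 := ((Commute.refl a).mul_right (hc ha h)).eq
    rwa [mul_inv_cancel_left] at h4)
  have hle : Subgroup.zpowers x ≤ Subgroup.centralizer ({x} : Set H) := fun y hy =>
    Subgroup.mem_centralizer_singleton_iff.2 (hc rfl hy).eq.symm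
  have hA : a ∈ Subgroup.centralizer ({x} : Set H) := Subgroup.mem_centralizer_singleton_iff.2 ha
  have hB : b ∈ Subgroup.centralizer ({x} : Set H) := Subgroup.mem_centralizer_singleton_iff.2 hb
  have h5 := Subgroup.card_eq_card_quotient_mul_card_subgroup
    ((Subgroup.zpowers x).subgroupOf (Subgroup.centralizer ({x} : Set H)))
  rw [Nat.card_congr (Subgroup.subgroupOfEquivOfLe hle).toEquiv, Nat.card_zpowers] at h5
  rw [h5]
  have := Fintype.ofFinite (Subgroup.centralizer ({x} : Set H) ⧸
    (Subgroup.zpowers x).subgroupOf (Subgroup.centralizer ({x} : Set H)))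
  rw [Nat.card_eq_fintype_card]
  refine Nat.mul_le_mul_right _ (Fintype.two_lt_card_iff.2 ⟨((1 : Subgroup.centralizer ({x} : Set H)) : _ ⧸ _),
    ((⟨a, hA⟩ : Subgroup.centralizer ({x} : Set H)) : _ ⧸ _), ((⟨b, hB⟩ : Subgroup.centralizer ({x} : Set H)) : _ ⧸ _),
    fun h => h1 ?_, fun h => h2 ?_, fun h => h3 ?_⟩)
  · simpa [Subgroup.mem_subgroupOf] using QuotientGroup.eq.1 h
  · simpa [Subgroup.mem_subgroupOf] using QuotientGroup.eq.1 h
  · simpa [Subgroup.mem_subgroupOf] using QuotientGroup.eq.1 h

theorem big_of {w a b : List Ltr} (ho : ordF w 32 = true) (ha : eqF (a ++ w) (w ++ a) = true)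
    (hb : eqF (b ++ w) (w ++ b) = true) (hab : neF (a ++ b) (b ++ a) = true) :
    orderOf (g w) = 32 ∧ 64 < Nat.card (Subgroup.centralizer ({g w} : Set G)) := by
  have := finB
  have h1 := orderOf_of_ordF ho
  have h2 := eq_of_eqF ha
  have h3 := eq_of_eqF hb
  have h4 := ne_of_neF hab
  rw [g_append, g_append] at h2 h3 h4
  have h5 := three_mul_le h2 h3 h4
  rw [h1] at h5
  exact ⟨h1, by omega⟩

/-- word -/
def wa : List Ltr := [.X10, .h, .y8, .p2, .h, .p3]

/-- plane -/
def pa_0 : ℕ := 0xffffffffffffffffffffffffffffffffffffffffffffffffffffffffffffffffffffffffffffffffffffffffffffffffffffffffffffffffffffffffffffffffffffffffffffffffffffffffffffffffffffffffffffffffffffffffffffffffffffffffffffffffffffffffffffffffffffffffffffffffffffffffffffffff00000000000000000000000000000000000000000000000000000000000000000000000000000000000000000000000000000000000000000000000000000000000000000000000000000000000000000000000000000000000000000000000000000000000000000000000000000000000000000000000000000000000000000000000000000000000000000000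000000000000000000000000000000000000000000000000000000000000000000000000000000000000000000000000000000000000000000000000000000000000000000000000000000000000000000000000000000000000000000000000000000000000000000000000000000000000ffffffffc1d9bc98000000006e2c62e35b7f5840000000008504adefffffffff00000000c7463476ffffffff193d9b83f7b520a1ffffffff021afeda00000000b9a1ad89ffffffffb591b9a1000000000000000001433ebfffffffff40c13d7f859d89ad0000000091b5859dfffffffffffffffffebc830200000000fd7cc2800000000000000000000000000000000000000000000000000000000000000000000000000000000000000000000000000000000000000000000000000000000000000000000000000000000000000000000000000055ed080055ed080055ed08000000000000ffff0000ffffffffffffffffc35affffffffffffffffffffffffffffffffffffffffffffffffffff0000ffffffff0000000000000000000000000000ffffffffffffffff00000000ffff00000000ffffffffffffffff00000000ffff00000000ffffffff00000000ffffffff0000ffff0000ffff00000000ffffffff000000000000000000000000000000000000000000000000000000000000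

theorem tr_a : trF wa 1 [pa_0] U (1) = true := by decide +kernel

theorem ch_a : chB (g wa) = ((1 : ℤ) : ℚ) := chB_of (dg_of_trF tr_a) (by decide) (by decide)

/-- word -/
def wc : List Ltr := [.p3, .X10, .h, .y1]

/-- plane -/
def pc_0 : ℕ := 0xffffffffffffffffffffffffffffffffffffffffffffffffffffffffffffffffffffffffffffffffffffffffffffffffffffffffffffffffffffffffffffffffffffffffffffffffffffffffffffffffffffffffffffffffffffffffffffffffffffffffffffffffffffffffffffffffffffffffffffffffffffffffffffffff0000000000000000000000000000000000000000000000000000000000000000000000000000000000000000000000000000000000000000000000000000000000000000000000000000000000000000000000000000000000000000000000000000000000000000000000000000000000000000000000000000000000000000000000000000000000000000000000000000000000000000000000000000000000000000000000000000000000000000000000000000000000000000000000000000000000000000000000000000000000000000000000000000000000000000000000000000000000000000000000000000000000000000000000000000000028bf30f55aa5daf4fa0a5e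8041f705ef7a2bfa50a05547f0a5a0bd055b715e0a8eda507a05a5a0bdaa050fe2d45e0a5fef82f7a0505f017aa55a2f5bfd14af0c0000408cb9c00540670ca42a5f0a5dc4f0af0af5fab55ff55fa7faad0aff55ffff50ffaae5fab55fad5faffaf50faf5050fa23ba30e65425039d02a0000031020000000000000000000000000000000000000000000000000000000000000000000000000000000000000000000000000000000000000000000000000000000000000000000000000000000000000000000000000050e7600050e7620050e760000000000000ffffffff0000ffffffff000000000000ffffffff00000000ffff00000000a55affffffffffffffffffffffff000000000000ffffffffffffffffffffffff0000ffff000000000000ffff00000000ffffffffffff000000000000ffff000000000000ffffffff0000ffffffffffffffff0000ffff0000ffffffff0000ffffffffffff00000000ffff000000000000000000000000000000000000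

theorem tr_c : trF wc 1 [pc_0] U (-1) = true := by decide +kernel

theorem ch_c : chB (g wc) = ((-1 : ℤ) : ℚ) := chB_of (dg_of_trF tr_c) (by decide) (by decide)

theorem big_a : orderOf (g wa) = 32 ∧ 64 < Nat.card (Subgroup.centralizer ({g wa} : Set G)) :=
  big_of (a := [.Z9, .Z7, .Z5])
    (b := [.Z10, .Z7, .Z6, .Z3, .Z2, .Z0, .X9, .X8, .X7, .X6, .X5, .X4, .X3, .X2, .X1, .y8, .y6, .y5, .y1])
    (by decide +kernel) (by decide +kernel) (by decide +kernel) (by decide +kernel)

theorem big_c : orderOf (g wc) = 32 ∧ 64 < Nat.card (Subgroup.centralizer ({g wc} : Set G)) :=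
  big_of (a := [.Z4])
    (b := [.Z10, .Z8, .Z7, .Z6, .Z3, .Z1, .Z0, .X8, .X7, .X4, .X3, .X2, .X1, .X0, .y10, .y8, .y7, .y6])
    (by decide +kernel) (by decide +kernel) (by decide +kernel) (by decide +kernel)

/-- **type 32AB** -/
theorem big32a : ∃ x : G, orderOf x = 32 ∧ chB x = 1 ∧ 64 < Nat.card (Subgroup.centralizer ({x} : Set G)) :=
  ⟨g wa, big_a.1, by rw [ch_a]; norm_num, big_a.2⟩

/-- **type 32CD** -/
theorem big32c : ∃ x : G, orderOf x = 32 ∧ chB x = -1 ∧ 64 < Nat.card (Subgroup.centralizer ({x} : Set G)) :=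
  ⟨g wc, big_c.1, by rw [ch_c]; norm_num, big_c.2⟩

end Cfsg.Agent.BMy.C16
end

-- part: MO/S/B/CTOf
section
/-!
# MO : the class table of the Baby Monster (helper40)

`ct_of` : every table of types of the Baby Monster is a class table, and its row 1 is the trace of the model.
-/

set_option autoImplicit false
set_option maxRecDepth 100000

namespace Cfsg.Agent.MO.S.B

open Cfsg Cfsg.Agent.TAB.Eng Cfsg.Agent.TAB.Use Cfsg.Agent.TAB.B Cfsg.Agent.TAB.B.Fin Cfsg.Agent.BMy.Chr
open Subgroup (centralizer mem_centralizer_singleton_iff)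

theorem card_cent_symm {G H : Type} [Group G] [Group H] (e : G ≃* H) (x : H) :
    Nat.card (centralizer ({e.symm x} : Set G)) = Nat.card (centralizer ({x} : Set H)) :=
  Nat.card_congr (e.toEquiv.subtypeEquiv fun y => by
    rw [mem_centralizer_singleton_iff, mem_centralizer_singleton_iff, ← e.injective.eq_iff, map_mul, map_mul,
      e.apply_symm_apply]
    rfl)

/-- the class table of a group isomorphic to the group of the model -/
theorem ct_iso {G : Type} [Group G] (e : G ≃* BG) (T : TD G datF) (hm : T.Mass) (hT : Tab T tabB) :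
    ∃ c : CT G, c.T = T ∧ ∀ g, tr (e g) = (rB 1 (c.ty g) : ℚ) := by
  obtain ⟨y, h1, h2, h3⟩ := BMy.C16.big32c
  obtain ⟨h4, h5⟩ := (tyB_iff sg_15B _).1 D.ty15B
  have h6 := h5 (1, 2) List.mem_cons_self
  rw [pow_one] at h6
  obtain ⟨c, h7, h8⟩ := ct_of_char hm hT (φ := fun g => ((tr (e g) : ℚ) : ℂ))
    (Characters.Core.isCharacter_comp e.toMonoidHom TAB.B.isChar)
    (by rw [map_one, show tr 1 = 4371 from Tr.chB_one]; norm_num)
    ⟨e.symm _, (e.symm.orderOf_eq _).trans h4, by rw [e.apply_symm_apply, h6]; norm_num,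
      (card_cent_symm e _).trans_le D.c1_15B⟩
    ⟨e.symm y, (e.symm.orderOf_eq _).trans h1, by rw [e.apply_symm_apply, show tr y = -1 from h2]; norm_num,
      h3.trans_eq (card_cent_symm e y).symm⟩
  exact ⟨c, h7, fun g => by exact_mod_cast h8 g⟩

/-- **the class table of the Baby Monster** -/
theorem ct_of (T : TD Spor.BabyMonster datF) (hm : T.Mass) (hT : Tab T tabB) :
    ∃ c : CT Spor.BabyMonster, c.T = T ∧ ∀ g, tr (BM.KHAll.iso g) = (rB 1 (c.ty g) : ℚ) :=
  ct_iso BM.KHAll.iso T hm hT

/-- the same for every group isomorphic to the Baby Monster -/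
theorem ct_of_iso {G : Type} [Group G] (e : G ≃* Spor.BabyMonster) (T : TD G datF) (hm : T.Mass) (hT : Tab T tabB) :
    ∃ c : CT G, c.T = T :=
  (ct_iso (e.trans BM.KHAll.iso) T hm hT).imp fun _ h => h.1

end Cfsg.Agent.MO.S.B
end
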